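import Cfsg.Agent.ZStar.GroupFun
import Cfsg.Agent.Lib.BlocksCore.Brauer
import Cfsg.Agent.Lib.BlocksCore.WeakOrth
import Cfsg.Agent.Lib.BlocksDefect.Induced
import Cfsg.Agent.S0936

/-!
# The principal block on a `p`-section
-/

set_option autoImplicit false

open Cfsg

namespace Cfsg.Agent.ZStar

variable {G : Type*} [Group G] [Fintype G] [DecidableEq G] {p : ℕ} {M : Ideal AlgInt}

/-- The averaging function of a subgroup. -/
noncomputable def avgFun (K : Subgroup G) : G → ℂ :=
  Set.indicator (K : Set G) fun _ => (Nat.card K : ℂ)⁻¹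

theorem conv_sub_right (a b c : G → ℂ) :
    BlocksCore.conv a (b - c) = BlocksCore.conv a b - BlocksCore.conv a c := by
  funext x
  simp only [BlocksCore.conv_apply, Pi.sub_apply, mul_sub, Finset.sum_sub_distrib]

theorem conv_sub_left (a b c : G → ℂ) :
    BlocksCore.conv (a - b) c = BlocksCore.conv a c - BlocksCore.conv b c := by
  funext x
  simp only [BlocksCore.conv_apply, Pi.sub_apply, sub_mul, Finset.sum_sub_distrib]

theorem conv_assoc' (a b c : G → ℂ) :
    BlocksCore.conv (BlocksCore.conv a b) c = BlocksCore.conv a (BlocksCore.conv b c) := by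
  apply gmat_injective
  have e : ∀ f g : G → ℂ, gmat (BlocksCore.conv f g) 1 = gmat f 1 * gmat g 1 := fun f g => by
    rw [gmat_mul, one_mul]
  rw [e, e, e, e, mul_assoc]

theorem conv_delta_one_left (a : G → ℂ) : BlocksCore.conv (delta 1) a = a := by
  rw [conv_delta_left]; simp

theorem conv_delta_one_right (a : G → ℂ) : BlocksCore.conv a (delta 1) = a := by
  rw [conv_delta_right]; simp

omit [DecidableEq G] in
theorem conv_comm_class {e : G → ℂ} (he : IsClassFunction G e) (f : G → ℂ) :
    BlocksCore.conv e f = BlocksCore.conv f e := by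
  funext x
  rw [BlocksCore.conv_apply, BlocksCore.conv_apply]
  refine Fintype.sum_equiv ((Equiv.inv G).trans (Equiv.mulRight x)) _ _ fun y => ?_
  simp only [Equiv.trans_apply, Equiv.inv_apply, Equiv.coe_mulRight, mul_inv_rev, inv_inv]
  have h := he y x⁻¹
  rw [inv_inv] at h
  rw [mul_comm, h]

omit [DecidableEq G] in
theorem conjInv_of_class {e : G → ℂ} (he : IsClassFunction G e) (x : G) : ConjInv x e :=
  fun g => he g x

omit [DecidableEq G] in
theorem conjInv_conv {x : G} {a b : G → ℂ} (ha : ConjInv x a) (hb : ConjInv x b) :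
    ConjInv x (BlocksCore.conv a b) := by
  intro g
  rw [BlocksCore.conv_apply, BlocksCore.conv_apply]
  refine (Fintype.sum_equiv (MulAut.conj x).toEquiv _ _ fun y => ?_).symm
  show a y * b (y⁻¹ * g) = a (x * y * x⁻¹) * b ((x * y * x⁻¹)⁻¹ * (x * g * x⁻¹))
  rw [ha y, show (x * y * x⁻¹)⁻¹ * (x * g * x⁻¹) = x * (y⁻¹ * g) * x⁻¹ by group, hb]

theorem delta_one_conjInv (x : G) : ConjInv x (delta (1 : G)) := fun g => by
  simp only [delta]
  exact if_congr conj_eq_one_iff rfl rfl

omit [DecidableEq G] in
theorem avgFun_apply_mem {K : Subgroup G} {g : G} (h : g ∈ K) :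
    avgFun K g = (Nat.card K : ℂ)⁻¹ := by
  rw [avgFun, Set.indicator_of_mem]; exact h

omit [DecidableEq G] in
theorem avgFun_apply_notMem {K : Subgroup G} {g : G} (h : g ∉ K) : avgFun K g = 0 := by
  rw [avgFun, Set.indicator_of_notMem]; exact h

omit [DecidableEq G] in
theorem sum_avgFun (K : Subgroup G) (F : G → ℂ) :
    ∑ g, avgFun K g * F g = (Nat.card K : ℂ)⁻¹ * ∑ᶠ k : K, F k := by
  classical
  rw [finsum_eq_sum_of_fintype, Finset.mul_sum]
  rw [← Finset.sum_filter_add_sum_filter_not Finset.univ (fun g => g ∈ K)]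
  rw [Finset.sum_eq_zero (s := Finset.univ.filter fun g => ¬ g ∈ K), add_zero]
  · rw [Finset.sum_subtype _ (p := fun g => g ∈ K) (fun g => by simp)]
    exact Finset.sum_congr rfl fun k _ => by rw [avgFun_apply_mem k.2]
  · intro g hg
    rw [avgFun_apply_notMem (Finset.mem_filter.mp hg).2, zero_mul]

omit [DecidableEq G] in
theorem conv_avgFun_self (K : Subgroup G) :
    BlocksCore.conv (avgFun K) (avgFun K) = avgFun K := by
  classical
  funext x
  rw [BlocksCore.conv_apply, sum_avgFun K fun y => avgFun K (y⁻¹ * x), finsum_eq_sum_of_fintype]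
  by_cases hx : x ∈ K
  · rw [Finset.sum_congr rfl (fun k _ => avgFun_apply_mem (mul_mem (inv_mem k.2) hx)),
      Finset.sum_const, Finset.card_univ, nsmul_eq_mul, avgFun_apply_mem hx,
      ← Nat.card_eq_fintype_card, mul_inv_cancel₀ (Nat.cast_ne_zero.mpr Nat.card_pos.ne'), mul_one]
  · rw [avgFun_apply_notMem hx, Finset.sum_eq_zero, mul_zero]
    intro k _
    exact avgFun_apply_notMem fun h => hx (by simpa using mul_mem k.2 h)

omit [DecidableEq G] in
theorem avgFun_conjInv {K : Subgroup G} {x : G} (h : x ∈ Subgroup.normalizer (K : Set G)) :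
    ConjInv x (avgFun K) := by
  intro g
  by_cases hg : g ∈ K
  · rw [avgFun_apply_mem hg, avgFun_apply_mem ((Subgroup.mem_normalizer_iff.mp h g).mp hg)]
  · rw [avgFun_apply_notMem hg,
      avgFun_apply_notMem fun h' => hg ((Subgroup.mem_normalizer_iff.mp h g).mpr h')]

omit [DecidableEq G] in
theorem conv_memLocalRing [M.IsPrime] {a b : G → ℂ} (ha : ∀ g, MemLocalRing M (a g))
    (hb : ∀ g, MemLocalRing M (b g)) (g : G) : MemLocalRing M (BlocksCore.conv a b g) := by
  rw [BlocksCore.conv_apply]
  exact BlocksCore.memLocalRing_sum fun y _ => (BlocksCore.localRing M).mul_mem (ha y) (hb _)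

omit [DecidableEq G] in
theorem avgFun_memLocalRing [M.IsPrime] (hM : IsPModular p M) {K : Subgroup G}
    (hK : ¬ p ∣ Nat.card K) (g : G) : MemLocalRing M (avgFun K g) := by
  by_cases hg : g ∈ K
  · rw [avgFun_apply_mem hg]; exact BlocksCore.memLocalRing_natCast_inv hM hK
  · rw [avgFun_apply_notMem hg]; exact (BlocksCore.localRing M).zero_mem

omit [DecidableEq G] in
/-- Translating the block idempotent reproduces the character on the block. -/
theorem sum_blockCoeff_mul (B : Set (IrrCharacter G)) (χ : IrrCharacter G) (w : G) :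
    ∑ x, blockCoeff B x * (χ : G → ℂ) (w * x) = B.indicator 1 χ * (χ : G → ℂ) w := by
  classical
  obtain ⟨f, n, ρ, hρ, hf⟩ := χ
  subst hf
  haveI := hρ
  have h1 := BlocksCore.sum_smul_eq_omega_smul ρ (BlocksCore.isClassFunction_blockCoeff B)
  rw [show BlocksCore.omega ρ.character (blockCoeff B) =
    B.indicator 1 (⟨ρ.character, n, ρ, hρ, rfl⟩ : IrrCharacter G) from
      BlocksCore.omega_blockCoeff B ⟨ρ.character, n, ρ, hρ, rfl⟩] at h1
  have h2 := congrArg (fun T => LinearMap.trace ℂ _ (ρ w * T)) h1
  simp only [Finset.mul_sum, mul_smul_comm, map_sum, map_smul, mul_one, ← map_mul, smul_eq_mul] at h2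
  exact h2

omit [DecidableEq G] in
/-- The pairing of `e_B * f` with a translate. -/
theorem sum_conv_blockCoeff_mul (B : Set (IrrCharacter G)) (χ : IrrCharacter G) (w : G)
    (f : G → ℂ) :
    ∑ x, BlocksCore.conv (blockCoeff B) f x * (χ : G → ℂ) (w * x) =
      B.indicator 1 χ * ∑ z, f z * (χ : G → ℂ) (w * z) := by
  classical
  rw [conv_comm_class (BlocksCore.isClassFunction_blockCoeff B)]
  simp only [BlocksCore.conv_apply, Finset.sum_mul, Finset.mul_sum]
  rw [Finset.sum_comm]
  refine Finset.sum_congr rfl fun z _ => ?_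
  rw [mul_left_comm, ← sum_blockCoeff_mul B χ (w * z), Finset.mul_sum]
  refine Fintype.sum_equiv (Equiv.mulLeft z⁻¹) _ _ fun x => ?_
  rw [Equiv.coe_mulLeft, mul_assoc w z, mul_inv_cancel_left, mul_assoc]

omit [DecidableEq G] in
/-- An idempotent modulo the local ideal all of whose central character values are small is
small. -/
theorem small_of_omega_small {H : Type*} [Group H] [Fintype H] [DecidableEq H]
    (hM : IsPModular p M) {d : H → ℂ} (hd : BlocksCore.IsIntClassFun M d)
    (hdd : ∀ h, MemLocalIdeal M (BlocksCore.conv d d h - d h))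
    (hω : ∀ ξ : IrrCharacter H, MemLocalIdeal M (BlocksCore.omega (ξ : H → ℂ) d)) (h : H) :
    MemLocalIdeal M (d h) := by
  classical
  have := BlocksCore.isPrime hM
  let x : IrrCharacter H → ℂ := fun ξ => 1 - BlocksCore.omega (ξ : H → ℂ) d
  have hx : x ∈ BlocksCore.omegaRing M := by
    have := Subring.sub_mem _ (BlocksCore.const_mem_omegaRing (G := H)
      (show MemLocalRing M 1 from (BlocksCore.localRing M).one_mem))
      (BlocksCore.omega_mem_omegaRing hd)
    exact this
  obtain ⟨y, ⟨c, hc, hcy⟩, hxy⟩ := BlocksCore.exists_mul_eq_indicator hx Set.univ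
    (fun χ h => absurd (Set.mem_univ χ) h) (fun χ _ h => BlocksCore.not_memLocalIdeal_one
      (M := M) (by
        have := BlocksCore.memLocalIdeal_add h (hω χ)
        simpa [x] using this))
  have hone : BlocksCore.conv (BlocksCore.classInd 1 - d) c = BlocksCore.classInd (1 : H) := by
    have h1 : IsClassFunction H (BlocksCore.classInd 1 - d) := fun a b => by
      simp only [Pi.sub_apply, BlocksCore.isClassFunction_classInd (1 : H) a b, hd.1 a b]
    refine BlocksCore.eq_of_omega_eq (BlocksCore.isClassFunction_conv h1 hc.1)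
      (BlocksCore.isClassFunction_classInd 1) fun ξ => ?_
    rw [BlocksCore.omega_conv ξ h1 hc.1, sub_eq_add_neg, BlocksCore.omega_add, BlocksCore.omega_neg,
      BlocksCore.omega_classInd_one, hcy, ← sub_eq_add_neg]
    have := congrFun hxy ξ
    simpa [x] using this
  have hδ : BlocksCore.classInd (1 : H) = delta 1 := by
    funext g
    simp only [delta]
    split
    · next hg => exact hg ▸ BlocksCore.classInd_apply_of_isConj (IsConj.refl _)
    · rename_i hg
      exact BlocksCore.classInd_apply_of_not_isConj fun hc => hg (isConj_one_right.mp hc)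
  rw [hδ] at hone
  have e : d = BlocksCore.conv (d - BlocksCore.conv d d) c := by
    conv_lhs => rw [← conv_delta_one_right d, ← hone, ← conv_assoc', conv_sub_right,
      conv_delta_one_right]
  rw [e, BlocksCore.conv_apply]
  refine BlocksCore.memLocalIdeal_sum fun z _ => BlocksCore.memLocalIdeal_mul_right ?_ (hc.2 _)
  have := BlocksCore.memLocalIdeal_neg (hdd z)
  simpa using this

variable [Fact p.Prime]

omit [DecidableEq G] in
/-- The central character of the restricted block idempotent, from the third main theorem. -/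
theorem omega_res_blockCoeff (hM : IsPModular p M) {u : G} (hu : ∃ k : ℕ, orderOf u = p ^ k)
    {B : Set (IrrCharacter G)} (hB : IsPBlock M B)
    (ξ : IrrCharacter (Subgroup.centralizer ({u} : Set G))) :
    ((B = principalBlock M G → ξ ∈ principalBlock M (Subgroup.centralizer ({u} : Set G))) ∧
        (ξ ∈ principalBlock M (Subgroup.centralizer ({u} : Set G)) → B = principalBlock M G)) ∧
        MemLocalIdeal M (BlocksCore.omega (ξ : _ → ℂ)
          (BlocksDefect.res (Subgroup.centralizer ({u} : Set G)) (blockCoeff B)) - 1) ∨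
      MemLocalIdeal M (BlocksCore.omega (ξ : _ → ℂ)
          (BlocksDefect.res (Subgroup.centralizer ({u} : Set G)) (blockCoeff B))) ∧
      ¬ (B = principalBlock M G ∧ ξ ∈ principalBlock M (Subgroup.centralizer ({u} : Set G))) := by
  classical
  have := BlocksCore.isPrime hM
  revert ξ
  set C := Subgroup.centralizer ({u} : Set G) with hC
  intro ξ
  obtain ⟨k, hk⟩ := hu
  have hP : IsPGroup p (Subgroup.zpowers u) := IsPGroup.of_card (by rw [Nat.card_zpowers, hk])
  have hcent : Subgroup.centralizer (Subgroup.zpowers u : Set G) = C := by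
    rw [hC, Subgroup.zpowers_eq_closure, Subgroup.centralizer_closure]
  have hPC : Subgroup.zpowers u ≤ C := by
    rw [Subgroup.zpowers_le, hC, Subgroup.mem_centralizer_singleton_iff]
  have hCN : C ≤ Subgroup.normalizer (Subgroup.zpowers u : Set G) :=
    hcent ▸ Subgroup.centralizer_le_normalizer _
  have hbb : IsPBlock M (blockOf M (ξ : C → ℂ)) := BlocksCore.isPBlock_blockOf ξ
  obtain ⟨B', hind⟩ := BlocksCore.inducedBlockDefined hM hP hPC hcent.le hCN hbb
  obtain ⟨χ', hχ'⟩ := BlocksCore.isPBlock_nonempty hind.2.1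
  have h1 := BlocksDefect.omega_induced hM hind (BlocksCore.mem_blockOf_self ξ) hχ'
    (BlocksCore.isIntClassFun_blockCoeff hM hB)
  rw [BlocksCore.omega_blockCoeff] at h1
  have h3 := Cfsg.Agent.S0936.result p M hM C (blockOf M (ξ : C → ℂ)) ⟨B', hind⟩
  have hbeq : ξ ∈ principalBlock M C → blockOf M (ξ : C → ℂ) = principalBlock M C := fun h =>
    (BlocksCore.blockOf_eq_of_sameBlock h).symm
  by_cases hBB : B' = B
  · left
    refine ⟨⟨fun hBp => ?_, fun hξ => ?_⟩, ?_⟩
    · have := h3.mp (hBp ▸ hBB ▸ hind)
      rw [← this]; exact BlocksCore.mem_blockOf_self ξ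
    · have h4 := h3.mpr (hbeq hξ)
      obtain ⟨χ₁, hχ₁⟩ := BlocksCore.isPBlock_nonempty h4.2.1
      -- induced blocks are unique
      have huniq : B' = principalBlock M G := by
        refine BlocksCore.isPBlock_eq_of_mem hind.2.1 h4.2.1 hχ' ?_
        show SameBlock M _ _
        intro g
        have e1 := hind.2.2 ξ (BlocksCore.mem_blockOf_self ξ) χ' hχ' g
        have e2 := h4.2.2 ξ (BlocksCore.mem_blockOf_self ξ) χ₁ hχ₁ g
        have e3 : MemLocalIdeal M (centralChar (fun _ : G => (1 : ℂ)) g - centralChar (χ₁ : G → ℂ) g) :=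
          hχ₁ g
        have := BlocksCore.memLocalIdeal_add e3 (BlocksCore.memLocalIdeal_sub e1 e2)
        convert this using 1
        ring
      rw [← hBB, huniq]
    · rw [hBB] at hχ'
      rwa [Set.indicator_of_mem hχ'] at h1
  · right
    have hnot : χ' ∉ B := fun h => hBB (BlocksCore.isPBlock_eq_of_mem hind.2.1 hB hχ' h)
    rw [Set.indicator_of_notMem hnot, sub_zero] at h1
    refine ⟨h1, fun ⟨hBp, hξ⟩ => hBB ?_⟩
    have h4 := h3.mpr (hbeq hξ)
    obtain ⟨χ₁, hχ₁⟩ := BlocksCore.isPBlock_nonempty h4.2.1
    rw [hBp]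
    refine BlocksCore.isPBlock_eq_of_mem hind.2.1 h4.2.1 hχ' ?_
    show SameBlock M _ _
    intro g
    have e1 := hind.2.2 ξ (BlocksCore.mem_blockOf_self ξ) χ' hχ' g
    have e2 := h4.2.2 ξ (BlocksCore.mem_blockOf_self ξ) χ₁ hχ₁ g
    have e3 : MemLocalIdeal M (centralChar (fun _ : G => (1 : ℂ)) g - centralChar (χ₁ : G → ℂ) g) :=
      hχ₁ g
    have := BlocksCore.memLocalIdeal_add e3 (BlocksCore.memLocalIdeal_sub e1 e2)
    convert this using 1
    ring

variable {u : G} {K : Subgroup G}

omit [Fact p.Prime] [DecidableEq G] in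
theorem res_conv (hK : K ≤ Subgroup.centralizer ({u} : Set G)) (e : G → ℂ)
    [Fintype (Subgroup.centralizer ({u} : Set G))] (f : G → ℂ)
    (hf : ∀ g, g ∉ Subgroup.centralizer ({u} : Set G) → f g = 0) :
    BlocksDefect.res (Subgroup.centralizer ({u} : Set G)) (BlocksCore.conv e f) =
      BlocksCore.conv (BlocksDefect.res (Subgroup.centralizer ({u} : Set G)) e)
        (BlocksDefect.res (Subgroup.centralizer ({u} : Set G)) f) := by
  classical
  funext c
  show BlocksCore.conv e f (c : G) = _
  rw [BlocksCore.conv_apply, BlocksCore.conv_apply]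
  symm
  refine Finset.sum_bij_ne_zero (fun y _ _ => (y : G)) (fun _ _ _ => Finset.mem_univ _)
    (fun a _ _ b _ _ h => Subtype.ext h) (fun g _ hg => ?_) (fun y _ _ => rfl)
  have hgC : g ∈ Subgroup.centralizer ({u} : Set G) := by
    by_contra h
    apply hg
    rw [hf (g⁻¹ * c) fun h' => h (by simpa using mul_mem c.2 (inv_mem h')), mul_zero]
  exact ⟨⟨g, hgC⟩, Finset.mem_univ _, hg, rfl⟩

omit [Fact p.Prime] [DecidableEq G] in
theorem res_avgFun (hK : K ≤ Subgroup.centralizer ({u} : Set G)) :
    BlocksDefect.res (Subgroup.centralizer ({u} : Set G)) (avgFun K) =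
      avgFun (K.subgroupOf (Subgroup.centralizer ({u} : Set G))) := by
  classical
  haveI := Fintype.ofFinite (Subgroup.centralizer ({u} : Set G))
  funext c
  show avgFun K (c : G) = _
  by_cases hc : (c : G) ∈ K
  · rw [avgFun_apply_mem hc,
      avgFun_apply_mem (K := K.subgroupOf (Subgroup.centralizer ({u} : Set G))) (g := c) hc,
      Nat.card_congr (Subgroup.subgroupOfEquivOfLe hK).toEquiv]
  · rw [avgFun_apply_notMem hc,
      avgFun_apply_notMem (K := K.subgroupOf (Subgroup.centralizer ({u} : Set G))) (g := c) hc]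

/-- The hypotheses on `(u, K)`: `K` is a `p'`-subgroup of `C(u)` normalised by `C(u)`. -/
structure SectionData (p : ℕ) (u : G) (K : Subgroup G) : Prop where
  pow : ∃ k : ℕ, orderOf u = p ^ k
  le : K ≤ Subgroup.centralizer ({u} : Set G)
  normal : Subgroup.centralizer ({u} : Set G) ≤ Subgroup.normalizer (K : Set G)
  coprime : ¬ p ∣ Nat.card K

omit [Fact p.Prime] [DecidableEq G] in
theorem avg_isClassFunction (h : SectionData p u K)
    [Fintype (Subgroup.centralizer ({u} : Set G))] :
    IsClassFunction (Subgroup.centralizer ({u} : Set G))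
      (avgFun (K.subgroupOf (Subgroup.centralizer ({u} : Set G)))) := by
  intro a b
  have := avgFun_conjInv (h.normal b.2) (a : G)
  rw [← res_avgFun h.le]
  exact this

omit [Fact p.Prime] [DecidableEq G] in
theorem omega_avg (hM : IsPModular p M) (h : SectionData p u K)
    [Fintype (Subgroup.centralizer ({u} : Set G))]
    (ξ : IrrCharacter (Subgroup.centralizer ({u} : Set G))) :
    BlocksCore.omega (ξ : _ → ℂ) (avgFun (K.subgroupOf (Subgroup.centralizer ({u} : Set G)))) = 1 ∧
      (∀ k : Subgroup.centralizer ({u} : Set G), (k : G) ∈ K →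
        ∀ c, (ξ : _ → ℂ) (c * k) = (ξ : _ → ℂ) c) ∨
    BlocksCore.omega (ξ : _ → ℂ) (avgFun (K.subgroupOf (Subgroup.centralizer ({u} : Set G)))) = 0 ∧
      ξ ∉ principalBlock M (Subgroup.centralizer ({u} : Set G)) := by
  classical
  have := BlocksCore.isPrime hM
  revert ξ
  set C := Subgroup.centralizer ({u} : Set G)
  intro ξ
  set f := avgFun (K.subgroupOf C) with hf
  have hfc : IsClassFunction C f := avg_isClassFunction h
  set z := BlocksCore.omega (ξ : C → ℂ) f with hz
  have hzz : z * z = z := by
    rw [hz, ← BlocksCore.omega_conv ξ hfc hfc, conv_avgFun_self]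
  rcases mul_eq_zero.mp (show z * (z - 1) = 0 by rw [mul_sub, hzz, mul_one, sub_self]) with h0 | h1
  · right
    refine ⟨h0, fun hξ => BlocksCore.not_memLocalIdeal_one (M := M) ?_⟩
    have hint : BlocksCore.IsIntClassFun M f := ⟨hfc, avgFun_memLocalRing hM (by
      rw [Nat.card_congr (Subgroup.subgroupOfEquivOfLe h.le).toEquiv]; exact h.coprime)⟩
    let one : IrrCharacter C := ⟨fun _ => 1, CharCore.isIrrCharacter_one⟩
    have h2 := BlocksCore.omega_sub_memLocalIdeal (χ := one) (ψ := ξ) hξ hint
    rw [← hz, h0, sub_zero] at h2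
    convert h2 using 1
    rw [BlocksCore.omega_eq_sum]
    simp only [one, div_one, mul_one]
    rw [hf, show ∑ g, avgFun (K.subgroupOf C) g = ∑ g, avgFun (K.subgroupOf C) g * (fun _ => (1 : ℂ)) g by
      simp, sum_avgFun, finsum_eq_sum_of_fintype]
    simp [Nat.card_eq_fintype_card]
  · left
    refine ⟨sub_eq_zero.mp h1, fun k hk c => ?_⟩
    obtain ⟨χf, n, ρ, hρ, hχf⟩ := ξ
    subst hχf
    haveI := hρ
    have hsum := BlocksCore.sum_smul_eq_omega_smul ρ hfc
    rw [show BlocksCore.omega ρ.character f = 1 from sub_eq_zero.mp h1, one_smul] at hsum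
    have hk' : ρ k = 1 := by
      calc ρ k = ρ k * ∑ g, f g • ρ g := by rw [hsum, mul_one]
        _ = ∑ g, f g • ρ g := by
          rw [Finset.mul_sum]
          refine Fintype.sum_equiv (Equiv.mulLeft k) _ _ fun g => ?_
          rw [mul_smul_comm, ← map_mul, Equiv.coe_mulLeft]
          congr 1
          show avgFun _ g = avgFun _ _
          by_cases hg : g ∈ K.subgroupOf C
          · rw [avgFun_apply_mem hg, avgFun_apply_mem (mul_mem (show k ∈ K.subgroupOf C from hk) hg)]
          · rw [avgFun_apply_notMem hg, avgFun_apply_notMem fun h' => hg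
              ((Subgroup.mul_mem_cancel_left _ (show k ∈ K.subgroupOf C from hk)).mp h')]
        _ = 1 := hsum
    show ρ.character (c * k) = ρ.character c
    simp only [Representation.character, map_mul, hk', mul_one]

theorem small_on_centralizer (hM : IsPModular p M) (h : SectionData p u K) (e f : G → ℂ)
    (he : BlocksCore.IsIntClassFun M e) (hee : BlocksCore.conv e e = e)
    (hfint : ∀ g, MemLocalRing M (f g)) (hfC : ∀ g, g ∉ Subgroup.centralizer ({u} : Set G) → f g = 0)
    (hfinv : ∀ x ∈ Subgroup.centralizer ({u} : Set G), ConjInv x f)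
    (hff : BlocksCore.conv f f = f)
    (hω : ∀ ξ : IrrCharacter (Subgroup.centralizer ({u} : Set G)),
      MemLocalIdeal M (BlocksCore.omega (ξ : _ → ℂ)
        (BlocksDefect.res (Subgroup.centralizer ({u} : Set G)) e) *
        BlocksCore.omega (ξ : _ → ℂ) (BlocksDefect.res (Subgroup.centralizer ({u} : Set G)) f)))
    (c : G) (hc : u * c * u⁻¹ = c) : MemLocalIdeal M (BlocksCore.conv e f c) := by
  classical
  have := BlocksCore.isPrime hM
  set C := Subgroup.centralizer ({u} : Set G) with hC
  haveI := Fintype.ofFinite C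
  have hcC : c ∈ C := by
    rw [hC, Subgroup.mem_centralizer_singleton_iff]
    exact (mul_inv_eq_iff_eq_mul.mp hc).symm
  obtain ⟨k, hk⟩ := h.pow
  have hP : IsPGroup p (Subgroup.zpowers u) := IsPGroup.of_card (by rw [Nat.card_zpowers, hk])
  have hcent : Subgroup.centralizer (Subgroup.zpowers u : Set G) = C := by
    rw [hC, Subgroup.zpowers_eq_closure, Subgroup.centralizer_closure]
  have hbr : ∀ a : G → ℂ, BlocksCore.brRes (Subgroup.zpowers u) C a = BlocksDefect.res C a := fun a =>
    funext fun x => BlocksCore.brRes_of_mem a (by rw [hcent]; exact x.2)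
  set d := BlocksDefect.res C (BlocksCore.conv e f) with hd
  have hEint : BlocksCore.IsIntClassFun M (BlocksDefect.res C e) := BlocksDefect.isIntClassFun_res C he
  have hFc : IsClassFunction C (BlocksDefect.res C f) := fun a b => hfinv b b.2 a
  have hFint : BlocksCore.IsIntClassFun M (BlocksDefect.res C f) := ⟨hFc, fun x => hfint x⟩
  have hdeq : d = BlocksCore.conv (BlocksDefect.res C e) (BlocksDefect.res C f) :=
    res_conv h.le e f hfC
  refine small_of_omega_small hM (d := d) (hdeq ▸ BlocksCore.isIntClassFun_conv hEint hFint) ?_ ?_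
    ⟨c, hcC⟩
  · intro x
    set E := BlocksDefect.res C e with hE
    set F := BlocksDefect.res C f with hF
    have hFF : BlocksCore.conv F F = F := by rw [hF, ← res_conv h.le f f hfC, hff]
    have hEF : BlocksCore.conv F E = BlocksCore.conv E F := (conv_comm_class hEint.1 F).symm
    have hdd : BlocksCore.conv d d = BlocksCore.conv (BlocksCore.conv E E) F := by
      rw [hdeq]
      calc BlocksCore.conv (BlocksCore.conv E F) (BlocksCore.conv E F)
          = BlocksCore.conv E (BlocksCore.conv (BlocksCore.conv F E) F) := by simp only [conv_assoc']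
        _ = BlocksCore.conv E (BlocksCore.conv (BlocksCore.conv E F) F) := by rw [hEF]
        _ = BlocksCore.conv (BlocksCore.conv E E) (BlocksCore.conv F F) := by simp only [conv_assoc']
        _ = _ := by rw [hFF]
    have key := BlocksCore.conv_brRes_sub (H := C) hM hP hcent.le
      (hcent ▸ Subgroup.centralizer_le_normalizer _) he he
    simp only [hbr, hee] at key
    rw [hdd, hdeq, ← Pi.sub_apply, ← conv_sub_left, BlocksCore.conv_apply]
    refine BlocksCore.memLocalIdeal_sum fun z _ => BlocksCore.memLocalIdeal_mul_right ?_ (hFint.2 _)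
    have := BlocksCore.memLocalIdeal_neg (key z)
    simpa using this
  · intro ξ
    rw [hdeq, BlocksCore.omega_conv ξ hEint.1 hFc]
    exact hω ξ

/-- **Constancy on the section**: a character in the principal block satisfies
`χ (u v) = χ u` for `v` in a normal `p'`-subgroup of `C(u)`. -/
theorem apply_mul_eq (hM : IsPModular p M) (h : SectionData p u K) {χ : IrrCharacter G}
    (hχ : χ ∈ principalBlock M G) {v : G} (hv : v ∈ K) :
    (χ : G → ℂ) (u * v) = (χ : G → ℂ) u := by
  classical
  have := BlocksCore.isPrime hM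
  set C := Subgroup.centralizer ({u} : Set G) with hC
  haveI := Fintype.ofFinite C
  let one : IrrCharacter G := ⟨fun _ => 1, CharCore.isIrrCharacter_one⟩
  have hB : IsPBlock M (principalBlock M G) := ⟨one, rfl⟩
  set e := blockCoeff (principalBlock M G)
  have he : BlocksCore.IsIntClassFun M e := BlocksCore.isIntClassFun_blockCoeff hM hB
  have hee : BlocksCore.conv e e = e := BlocksCore.conv_blockCoeff_self _
  set f := delta (1 : G) - avgFun K with hf
  have hfint : ∀ g, MemLocalRing M (f g) := fun g =>
    (BlocksCore.localRing M).sub_mem (delta_memLocalRing 1 g) (avgFun_memLocalRing hM h.coprime g)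
  have hfinv : ∀ x ∈ C, ConjInv x f := fun x hx g => by
    simp only [f, Pi.sub_apply, delta_one_conjInv x g, avgFun_conjInv (h.normal hx) g]
  have hff : BlocksCore.conv f f = f := by
    simp only [f, conv_sub_left, conv_sub_right, conv_delta_one_left, conv_delta_one_right,
      conv_avgFun_self]
    abel
  have hfC : ∀ g, g ∉ C → f g = 0 := fun g hg => by
    have h1 : g ≠ 1 := fun e => hg (e ▸ one_mem C)
    simp [f, delta, h1, avgFun_apply_notMem (fun hk => hg (h.le hk))]
  have hsmall := small_on_centralizer hM h e f he hee hfint hfC hfinv hff (by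
    intro ξ
    have hres : BlocksDefect.res C f = delta 1 - avgFun (K.subgroupOf C) := by
      rw [← res_avgFun h.le]
      funext c
      show f (c : G) = delta 1 c - avgFun K (c : G)
      simp only [f, Pi.sub_apply]
      congr 1
      exact if_congr (by rw [Subtype.ext_iff]; rfl) rfl rfl
    have hωf : BlocksCore.omega (ξ : C → ℂ) (BlocksDefect.res C f) =
        1 - BlocksCore.omega (ξ : C → ℂ) (avgFun (K.subgroupOf C)) := by
      rw [hres, sub_eq_add_neg, BlocksCore.omega_add, BlocksCore.omega_neg, ← sub_eq_add_neg]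
      congr 1
      rw [← BlocksCore.omega_classInd_one ξ]
      congr 1
      funext g
      simp only [delta]
      split
      · next hg => exact hg ▸ (BlocksCore.classInd_apply_of_isConj (IsConj.refl _)).symm
      · rename_i hg
        exact (BlocksCore.classInd_apply_of_not_isConj fun hc => hg (isConj_one_right.mp hc)).symm
    rw [hωf]
    rcases omega_avg hM h ξ with ⟨h1, -⟩ | ⟨h1, hnot⟩
    · rw [h1, sub_self, mul_zero]; exact BlocksCore.memLocalIdeal_zero
    · rw [h1, sub_zero, mul_one]
      rcases omega_res_blockCoeff hM h.pow hB ξ with ⟨⟨h2, -⟩, -⟩ | ⟨h2, -⟩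
      · exact absurd (h2 rfl) hnot
      · exact h2)
  set a := BlocksCore.conv e f with ha
  have haint : ∀ g, MemLocalRing M (a g) := conv_memLocalRing he.2 hfint
  have haa : BlocksCore.conv a a = a := by
    rw [ha]
    calc BlocksCore.conv (BlocksCore.conv e f) (BlocksCore.conv e f)
        = BlocksCore.conv e (BlocksCore.conv (BlocksCore.conv f e) f) := by simp only [conv_assoc']
      _ = BlocksCore.conv e (BlocksCore.conv (BlocksCore.conv e f) f) := by
          rw [conv_comm_class he.1 f]
      _ = BlocksCore.conv (BlocksCore.conv e e) (BlocksCore.conv f f) := by simp only [conv_assoc']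
      _ = _ := by rw [hee, hff]
  have huC : u ∈ C := by rw [hC, Subgroup.mem_centralizer_singleton_iff]
  have key : ∀ y ∈ K, (χ : G → ℂ) (u * y) = (Nat.card K : ℂ)⁻¹ * ∑ᶠ k : K, (χ : G → ℂ) (u * y * k) := by
    intro y hy
    have huy : Commute u y := (Subgroup.mem_centralizer_singleton_iff.mp (h.le hy)).symm
    have h0 := sum_mul_translate_eq_zero hM (u := u) (y := y)
      (h.pow.imp fun k hk => hk.dvd)
      (fun hd => h.coprime (hd.trans (Subgroup.orderOf_dvd_natCard K hy)))
      huy haint haa (conjInv_conv (conjInv_of_class he.1 u) (hfinv u huC))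
      (conjInv_conv (conjInv_of_class he.1 y) (hfinv y (h.le hy))) hsmall
      (BlocksCore.irr_class χ)
    rw [ha, sum_conv_blockCoeff_mul, Set.indicator_of_mem hχ, Pi.one_apply, one_mul] at h0
    simp only [f, Pi.sub_apply, sub_mul, Finset.sum_sub_distrib] at h0
    rw [sum_avgFun K fun z => (χ : G → ℂ) (u * y * z), sub_eq_zero] at h0
    rw [← h0]
    simp [delta]
  rw [key v hv, ← mul_one u, key 1 (one_mem K)]
  simp only [mul_one]
  congr 1
  refine finsum_eq_of_bijective (fun k => ⟨v, hv⟩ * k)
    (Equiv.mulLeft (⟨v, hv⟩ : K)).bijective fun k => ?_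
  simp [mul_assoc]

/-- When `C(u) = ⟨u⟩ K`, a character outside the principal block averages to zero on `u K`. -/
theorem sum_eq_zero_of_notMem (hM : IsPModular p M) (h : SectionData p u K)
    (hgen : ∀ c ∈ Subgroup.centralizer ({u} : Set G), ∃ i : ℕ, ∃ k ∈ K, c = u ^ i * k)
    {χ : IrrCharacter G} (hχ : χ ∉ principalBlock M G) :
    ∑ᶠ k : K, (χ : G → ℂ) (u * k) = 0 := by
  classical
  have := BlocksCore.isPrime hM
  haveI := Fintype.ofFinite (Subgroup.centralizer ({u} : Set G))
  have hB : IsPBlock M (blockOf M (χ : G → ℂ)) := BlocksCore.isPBlock_blockOf χ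
  have hne : blockOf M (χ : G → ℂ) ≠ principalBlock M G := fun he =>
    hχ (he ▸ BlocksCore.mem_blockOf_self χ)
  set e := blockCoeff (blockOf M (χ : G → ℂ))
  have he : BlocksCore.IsIntClassFun M e := BlocksCore.isIntClassFun_blockCoeff hM hB
  have hee : BlocksCore.conv e e = e := BlocksCore.conv_blockCoeff_self _
  have huC : u ∈ (Subgroup.centralizer ({u} : Set G)) := by rw [Subgroup.mem_centralizer_singleton_iff]
  have hsmall := small_on_centralizer hM h e (avgFun K) he hee (avgFun_memLocalRing hM h.coprime)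
    (fun g hg => avgFun_apply_notMem fun hk => hg (h.le hk))
    (fun x hx => avgFun_conjInv (h.normal hx)) (conv_avgFun_self K) (by
    intro ξ
    rw [res_avgFun h.le]
    rcases omega_avg hM h ξ with ⟨h1, htriv⟩ | ⟨h1, -⟩
    · rw [h1, mul_one]
      rcases omega_res_blockCoeff hM h.pow hB ξ with ⟨⟨-, h2⟩, -⟩ | ⟨h2, -⟩
      · refine absurd (h2 ?_) hne
        -- `ξ` is a character of the cyclic `p`-group `(Subgroup.centralizer ({u} : Set G)) / K`
        show SameBlock M (fun _ : (Subgroup.centralizer ({u} : Set G)) => (1 : ℂ)) (ξ : (Subgroup.centralizer ({u} : Set G)) → ℂ)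
        intro g
        obtain ⟨i, k, hk, hgk⟩ := hgen g g.2
        obtain ⟨χf, n, ρ, hρ, hχf⟩ := ξ
        subst hχf
        haveI := hρ
        have hξg : ρ.character g = ρ.character (⟨u, huC⟩ ^ i) := by
          rw [show g = ⟨u, huC⟩ ^ i * ⟨k, h.le hk⟩ from Subtype.ext hgk]
          exact htriv ⟨k, h.le hk⟩ hk _
        have hzc : IsClassFunction (Subgroup.centralizer ({u} : Set G)) (delta (⟨u, huC⟩ : (Subgroup.centralizer ({u} : Set G)))) := fun a b => by
          simp only [delta]
          refine if_congr ?_ rfl rfl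
          have hb : b * ⟨u, huC⟩ * b⁻¹ = ⟨u, huC⟩ := Subtype.ext
            (mul_inv_eq_iff_eq_mul.mpr (Subgroup.mem_centralizer_singleton_iff.mp b.2))
          constructor
          · intro h'
            rw [show a = b⁻¹ * (b * a * b⁻¹) * b by group, h']
            conv_lhs => rw [← hb]
            group
          · rintro rfl
            exact hb
        have hscal := BlocksCore.sum_smul_eq_omega_smul ρ hzc
        set z := BlocksCore.omega ρ.character (delta (⟨u, huC⟩ : (Subgroup.centralizer ({u} : Set G))))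
        have hρu : ρ ⟨u, huC⟩ = z • (1 : Module.End ℂ (Fin n → ℂ)) := by
          rw [← hscal]; simp [delta, ite_smul]
        have hdeg : ρ.character 1 = (n : ℂ) := by simp [Representation.char_one]
        have hn : (n : ℂ) ≠ 0 := Nat.cast_ne_zero.mpr (BlocksCore.degree_pos_of_rep ρ).ne'
        have hpow : ∀ j : ℕ, ρ.character (⟨u, huC⟩ ^ j) = z ^ j * (n : ℂ) := fun j => by
          rw [Representation.character, map_pow, hρu, smul_pow, one_pow, map_smul, LinearMap.trace_one,
            Module.finrank_fin_fun, smul_eq_mul]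
        obtain ⟨kk, hkk⟩ := h.pow
        have hzq : z ^ p ^ kk = 1 := by
          have := hpow (p ^ kk)
          rw [show (⟨u, huC⟩ : (Subgroup.centralizer ({u} : Set G))) ^ p ^ kk = 1 from Subtype.ext (by
            simp [← hkk, pow_orderOf_eq_one]), hdeg] at this
          exact (mul_eq_right₀ hn).mp this.symm
        have hz1 : MemLocalIdeal M (z ^ i - 1) :=
          BlocksCore.memLocalIdeal_sub_one_of_pow hM (k := kk)
            (by rw [← pow_mul, mul_comm, pow_mul, hzq, one_pow])
        simp only [centralChar]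
        rw [hξg, hpow, hdeg, mul_one, div_one, mul_div_assoc, mul_div_assoc, div_self hn, mul_one]
        have := BlocksCore.memLocalIdeal_mul_left (BlocksCore.memLocalRing_natCast
          (M := M) (Subgroup.centralizer ({g} : Set (Subgroup.centralizer ({u} : Set G)))).index) (BlocksCore.memLocalIdeal_neg hz1)
        convert this using 1
        ring
      · exact h2
    · rw [h1, mul_zero]; exact BlocksCore.memLocalIdeal_zero)
  set a := BlocksCore.conv e (avgFun K) with ha
  have haa : BlocksCore.conv a a = a := by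
    rw [ha]
    calc BlocksCore.conv (BlocksCore.conv e (avgFun K)) (BlocksCore.conv e (avgFun K))
        = BlocksCore.conv e (BlocksCore.conv (BlocksCore.conv (avgFun K) e) (avgFun K)) := by
          simp only [conv_assoc']
      _ = BlocksCore.conv e (BlocksCore.conv (BlocksCore.conv e (avgFun K)) (avgFun K)) := by
          rw [conv_comm_class he.1 (avgFun K)]
      _ = BlocksCore.conv (BlocksCore.conv e e) (BlocksCore.conv (avgFun K) (avgFun K)) := by
          simp only [conv_assoc']
      _ = _ := by rw [hee, conv_avgFun_self]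
  have h0 := sum_mul_translate_eq_zero hM (u := u) (y := (1 : G)) (a := a)
    (h.pow.imp fun k hk => hk.dvd) (by rw [orderOf_one]; exact hM.1.not_dvd_one)
    (Commute.one_right u) (conv_memLocalRing he.2 (avgFun_memLocalRing hM h.coprime)) haa
    (conjInv_conv (conjInv_of_class he.1 u) (avgFun_conjInv (h.normal huC)))
    (fun g => by simp) hsmall (BlocksCore.irr_class χ)
  rw [ha, sum_conv_blockCoeff_mul, Set.indicator_of_mem (BlocksCore.mem_blockOf_self χ),
    Pi.one_apply, one_mul, sum_avgFun K fun z => (χ : G → ℂ) (u * 1 * z)] at h0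
  simp only [mul_one] at h0
  exact (mul_eq_zero.mp h0).resolve_left (inv_ne_zero (Nat.cast_ne_zero.mpr Nat.card_pos.ne'))

end Cfsg.Agent.ZStar
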