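import Cfsg.Agent.BC84.BrauerCount
import Cfsg.Agent.BC84.Isomorphic
import Cfsg.Agent.Lib.BlocksDefect.Kernel
import Cfsg.Agent.ZStar.Blocks

/-!
# Counting the principal block by sections
-/

set_option autoImplicit false

open Cfsg

namespace Cfsg.Agent.ZStar

universe u

variable {G : Type u} [Group G] [Finite G] {p : ℕ} [Fact p.Prime] {M : Ideal AlgInt}

/-- Brauer's count for the principal block, with the third main theorem built in. -/
theorem natCard_principal_eq_sum (hM : IsPModular p M) (X : Finset G)
    (hX : ∀ x ∈ X, ∃ k : ℕ, orderOf x = p ^ k)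
    (hXrep : ∀ g : G, (∃ k : ℕ, orderOf g = p ^ k) → ∃! x, x ∈ X ∧ IsConj g x) :
    Nat.card (principalBlock M G) =
      ∑ x ∈ X, blockRank p (principalBlock M (Subgroup.centralizer ({x} : Set G))) := by
  rw [BC84.natCard_eq_sum_blockRank hM BlocksDefect.isPBlock_principal X hX hXrep]
  refine Finset.sum_congr rfl fun x hx => ?_
  obtain ⟨k, hk⟩ := hX x hx
  have hset : {b : Set (IrrCharacter (Subgroup.centralizer ({x} : Set G))) |
      IsInducedBlock M (Subgroup.centralizer ({x} : Set G)) b (principalBlock M G)} =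
      {principalBlock M (Subgroup.centralizer ({x} : Set G))} := by
    refine Set.eq_singleton_iff_unique_mem.mpr
      ⟨?_, fun b hb => BlocksDefect.eq_principal_of_induced hM hb⟩
    obtain ⟨B, hB⟩ := BC84.induced_exists hM hk BlocksDefect.isPBlock_principal
    have e := BlocksDefect.eq_principal_of_inducing hM hB
    subst e
    exact hB
  rw [hset, finsum_mem_singleton]

omit [Fact p.Prime] in
/-- The rank of the principal block is preserved by isomorphisms. -/
theorem blockRank_principal_equiv {H H' : Type u} [Group H] [Finite H] [Group H'] [Finite H']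
    (e : H ≃* H') : blockRank p (principalBlock M H) = blockRank p (principalBlock M H') := by
  classical
  haveI := Fintype.ofFinite H'
  haveI := Fintype.ofFinite H
  let L : (H' → ℂ) ≃ₗ[ℂ] (H → ℂ) := LinearEquiv.funCongrLeft ℂ ℂ e.toEquiv
  have hL : ∀ χ : H' → ℂ, L (pRegularPart p χ) = pRegularPart p fun h => χ (e h) := by
    intro χ
    funext h
    show pRegularPart p χ (e h) = _
    by_cases hh : p ∣ orderOf h
    · rw [BC85.pRegularPart_neg (by rwa [MulEquiv.orderOf_eq]), BC85.pRegularPart_neg hh]
    · rw [BC85.pRegularPart_pos (by rwa [MulEquiv.orderOf_eq]), BC85.pRegularPart_pos hh]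
  have hset : L '' ((fun χ : IrrCharacter H' => pRegularPart p (χ : H' → ℂ)) '' principalBlock M H') =
      (fun χ : IrrCharacter H => pRegularPart p (χ : H → ℂ)) '' principalBlock M H := by
    refine Set.Subset.antisymm ?_ ?_
    · rintro _ ⟨_, ⟨θ, hθ, rfl⟩, rfl⟩
      obtain ⟨φ, hφ, hval⟩ := BC84.exists_irr_comp (M := M) e hθ
      exact ⟨φ, hφ, by rw [hL]; exact congrArg _ (funext hval)⟩
    · rintro _ ⟨θ, hθ, rfl⟩
      obtain ⟨φ, hφ, hval⟩ := BC84.exists_irr_comp (M := M) e.symm hθ
      refine ⟨_, ⟨φ, hφ, rfl⟩, ?_⟩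
      rw [hL]
      exact congrArg _ (funext fun h => by rw [hval, e.symm_apply_apply])
  rw [blockRank, blockRank, ← hset, ← LinearEquiv.coe_coe, ← Submodule.map_span]
  exact L.finrank_map_eq _

/-- The centralizer of a central element has the rank of the whole group. -/
theorem blockRank_centralizer_of_mem_center {x : G} (hx : x ∈ Subgroup.center G) :
    blockRank p (principalBlock M (Subgroup.centralizer ({x} : Set G))) =
      blockRank p (principalBlock M G) := by
  have h : Subgroup.centralizer ({x} : Set G) = ⊤ := eq_top_iff.mpr fun g _ =>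
    Subgroup.mem_centralizer_singleton_iff.mpr (Subgroup.mem_center_iff.mp hx g)
  exact blockRank_principal_equiv ((MulEquiv.subgroupCongr h).trans Subgroup.topEquiv)

/-- If all regular elements lie in a normal `p'`-subgroup the principal block has rank one. -/
theorem blockRank_principal_eq_one (hM : IsPModular p M) (N : Subgroup G) [N.Normal]
    (hN : ¬ p ∣ Nat.card N) (hreg : ∀ x : G, ¬ p ∣ orderOf x → x ∈ N) :
    blockRank p (principalBlock M G) = 1 := by
  haveI := BlocksCore.isPrime hM
  haveI := Fintype.ofFinite G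
  set one : IrrCharacter G := BlocksDefect.oneIrr G
  have h1 : pRegularPart p (one : G → ℂ) ≠ 0 := by
    intro h
    have := congrFun h 1
    rw [BC85.pRegularPart_pos (by rw [orderOf_one]; exact hM.1.not_dvd_one)] at this
    exact BlocksCore.irr_one_ne_zero one this
  rw [blockRank, show Submodule.span ℂ ((fun χ : IrrCharacter G => pRegularPart p (χ : G → ℂ)) ''
      principalBlock M G) = ℂ ∙ pRegularPart p (one : G → ℂ) from ?_, finrank_span_singleton h1]
  refine le_antisymm (Submodule.span_le.mpr ?_) ((Submodule.span_singleton_le_iff_mem _ _).mpr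
    (Submodule.subset_span ⟨one, BlocksDefect.oneIrr_mem, rfl⟩))
  rintro _ ⟨χ, hχ, rfl⟩
  refine Submodule.mem_span_singleton.mpr ⟨(χ : G → ℂ) 1, funext fun g => ?_⟩
  by_cases hg : p ∣ orderOf g
  · simp [BC85.pRegularPart_neg hg]
  · rw [Pi.smul_apply]
    show _ • pRegularPart p (one : G → ℂ) g = pRegularPart p (χ : G → ℂ) g
    rw [BC85.pRegularPart_pos hg, BC85.pRegularPart_pos hg, smul_eq_mul,
      BlocksDefect.kernel_of_sameBlock hM (χ := one) hχ N hN (fun _ _ => rfl) g (hreg g hg)]
    show _ * (1 : ℂ) = _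
    rw [mul_one]

theorem blockRank_section_eq_one (hM : IsPModular p M) {x : G} {K : Subgroup G}
    (h : SectionData p x K)
    (hreg : ∀ c ∈ Subgroup.centralizer ({x} : Set G), ¬ p ∣ orderOf c → c ∈ K) :
    blockRank p (principalBlock M (Subgroup.centralizer ({x} : Set G))) = 1 := by
  set C := Subgroup.centralizer ({x} : Set G)
  haveI : (K.subgroupOf C).Normal := Subgroup.normal_subgroupOf_of_le_normalizer h.normal
  refine blockRank_principal_eq_one hM (K.subgroupOf C) ?_ fun c hc => ?_
  · rw [Nat.card_congr (Subgroup.subgroupOfEquivOfLe h.le).toEquiv]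
    exact h.coprime
  · exact Subgroup.mem_subgroupOf.mpr (hreg c c.2 (by rwa [Subgroup.orderOf_coe]))

end Cfsg.Agent.ZStar
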