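import Cfsg.Agent.ZStar.BlocksAbelian
import Cfsg.Agent.Lib.CharCore.Complete
import Cfsg.Agent.Lib.BlocksCore.DefectZero
import Cfsg.Agent.Lib.Involution.KleinSylow
import Cfsg.Agent.Lib.Involution.StronglyEmbedded

/-!
# The principal 2-block with a four-group as Sylow subgroup and one class of involutions
-/

set_option autoImplicit false

open Cfsg
open scoped ComplexConjugate

namespace Cfsg.Agent.ZStar

variable {G : Type*} [Group G] [Finite G] {P : Sylow 2 G} {a : G}

theorem klein_comm {P : Subgroup G} (hP : IsKleinFour P) :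
    ∀ x ∈ P, ∀ y ∈ P, x * y = y * x := by
  intro x hx y hy
  have h := Involution.klein_sq hP (mul_mem hx hy)
  calc x * y = (x * y)⁻¹ := eq_inv_of_mul_eq_one_right h
    _ = y * x := by
      rw [mul_inv_rev, inv_eq_of_mul_eq_one_right (Involution.klein_sq hP hy),
        inv_eq_of_mul_eq_one_right (Involution.klein_sq hP hx)]

/-- The centralizer of an involution of a four-group Sylow subgroup has an abelian `2`-complement
quotient. -/
theorem klein_sectionData (hP : IsKleinFour (P : Subgroup G)) (ha : a ∈ P) (ha2 : orderOf a = 2) :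
    ∃ K : Subgroup G, SectionData 2 a K ∧
      Nat.card (Subgroup.centralizer ({a} : Set G)) = 4 * Nat.card K ∧
      (∀ c ∈ Subgroup.centralizer ({a} : Set G), ∃ v ∈ Subgroup.centralizer ({a} : Set G),
        ∃ k ∈ K, c = v * k ∧ (∃ n : ℕ, v ^ 2 ^ n = 1) ∧
          ∀ b ∈ Subgroup.centralizer ({a} : Set G), v * b * v⁻¹ * b⁻¹ ∈ K) := by
  classical
  haveI : Fact (Nat.Prime 2) := ⟨Nat.prime_two⟩
  set C := Subgroup.centralizer ({a} : Set G)
  have hPC : (P : Subgroup G) ≤ C := fun x hx =>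
    Subgroup.mem_centralizer_singleton_iff.mpr (klein_comm hP x hx a ha)
  set T : Sylow 2 C := P.subtype hPC
  have hTK : IsKleinFour (T : Subgroup C) := by
    let e : (T : Subgroup C) ≃* (P : Subgroup G) := Subgroup.subgroupOfEquivOfLe hPC
    exact { card_four := by rw [Nat.card_congr e.toEquiv]; exact hP.card_four
            exponent_two := by rw [Monoid.exponent_eq_of_mulEquiv e]; exact hP.exponent_two }
  have hN : Subgroup.normalizer ((T : Subgroup C) : Set C) ≤
      Subgroup.centralizer ((T : Subgroup C) : Set C) := by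
    refine (Involution.klein_sylow_dichotomy T hTK).resolve_right fun hall => ?_
    obtain ⟨b, hb, hba⟩ : ∃ b : C, b ∈ (T : Subgroup C) ∧ b ≠ 1 ∧ (b : G) ≠ a := by
      by_contra hno
      simp only [not_exists, not_and, not_not] at hno
      have hsub : (T : Subgroup C) ≤ Subgroup.zpowers (⟨a, hPC ha⟩ : C) := fun x hx => by
        by_cases hx1 : x = 1
        · rw [hx1]; exact one_mem _
        · exact Subgroup.mem_zpowers_iff.mpr ⟨1, by
            rw [zpow_one]; exact Subtype.ext (hno x hx hx1).symm⟩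
      have := Subgroup.card_dvd_of_le hsub
      rw [hTK.card_four, Nat.card_zpowers, Subgroup.orderOf_mk, ha2] at this
      norm_num at this
    have hb2 : orderOf b = 2 := Involution.orderOf_eq_two_iff'.mpr
      ⟨Involution.klein_sq hTK hb, hba.1⟩
    obtain ⟨c, hc⟩ := isConj_iff.mp (hall ⟨a, hPC ha⟩ b (by rw [Subgroup.orderOf_mk, ha2]) hb2)
    apply hba.2
    rw [← hc]
    simp only [Subgroup.coe_mul, InvMemClass.coe_inv]
    rw [Subgroup.mem_centralizer_singleton_iff.mp c.2, mul_inv_cancel_right]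
  obtain ⟨K', hn, hcompl, hab⟩ : ∃ K' : Subgroup C, K'.Normal ∧
      Subgroup.IsComplement' K' (T : Subgroup C) ∧ ∀ x y : C, x * y * x⁻¹ * y⁻¹ ∈ K' := by
    refine ⟨_, inferInstance, MonoidHom.ker_transferSylow_isComplement' T hN, fun x y => ?_⟩
    have hc : ∀ s t : (T : Subgroup C), s * t = t * s :=
      fun s t => Subtype.ext (klein_comm hTK s s.2 t t.2)
    rw [MonoidHom.mem_ker, map_mul, map_mul, map_mul, map_inv, map_inv]
    rw [hc (MonoidHom.transferSylow T hN x), mul_inv_cancel_right, mul_inv_cancel]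
  refine ⟨K'.map C.subtype, ⟨⟨1, by rw [ha2]; rfl⟩, Subgroup.map_subtype_le _, ?_, ?_⟩, ?_, ?_⟩
  · intro c hc
    rw [Subgroup.mem_normalizer_iff]
    intro g
    constructor
    · rintro ⟨y, hy, rfl⟩
      exact ⟨⟨c, hc⟩ * y * ⟨c, hc⟩⁻¹, hn.conj_mem y hy _, by simp⟩
    · rintro ⟨y, hy, hye⟩
      refine ⟨⟨c, hc⟩⁻¹ * y * ⟨c, hc⟩, by simpa using hn.conj_mem y hy ⟨c, hc⟩⁻¹, ?_⟩
      simp only [Subgroup.coe_subtype, Subgroup.coe_mul, InvMemClass.coe_inv] at hye ⊢
      rw [hye]; group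
  · rw [Subgroup.card_map_of_injective (Subgroup.subtype_injective _), ← hcompl.index_eq_card]
    exact T.not_dvd_index
  · rw [Subgroup.card_map_of_injective (Subgroup.subtype_injective _), ← hcompl.card_mul,
      hTK.card_four, mul_comm]
  · intro c hc
    obtain ⟨⟨k, x⟩, hkx⟩ := (hcompl.existsUnique ⟨c, hc⟩).exists
    refine ⟨(x : C), (x : C).2, ((x : C)⁻¹ * (k : C) * x : C),
      ⟨_, by simpa using hn.conj_mem _ k.2 (x : C)⁻¹, rfl⟩, ?_, ⟨1, ?_⟩, fun b hb =>
      ⟨(x : C) * ⟨b, hb⟩ * (x : C)⁻¹ * ⟨b, hb⟩⁻¹, hab _ _, by simp⟩⟩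
    · have h1 := congrArg Subtype.val hkx
      simp only [Subgroup.coe_mul, InvMemClass.coe_inv] at h1 ⊢
      rw [← h1]
      group
    · rw [pow_one, pow_two]
      exact congrArg Subtype.val (Involution.klein_sq hTK x.2)

/-- Values of a character at `1` and at the involution. -/
theorem klein_char_data (hP : IsKleinFour (P : Subgroup G)) (ha : a ∈ P) (ha2 : orderOf a = 2)
    (hone : ∀ s t : G, orderOf s = 2 → orderOf t = 2 → IsConj s t) (χ : IrrCharacter G) :
    ∃ f x : ℤ, 0 < f ∧ (χ : G → ℂ) 1 = f ∧ (χ : G → ℂ) a = x ∧ (4 : ℤ) ∣ f - x ∧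
      (charDegree (χ : G → ℂ) : ℤ) = f := by
  classical
  haveI : Fact (Nat.Prime 2) := ⟨Nat.prime_two⟩
  haveI := Fintype.ofFinite G
  obtain ⟨f₀, hf₀, hdeg⟩ := CharCore.IsIrrCharacter.exists_degree χ.2
  obtain ⟨χf, n, ρ, hρ, hχf⟩ := χ
  subst hχf
  obtain ⟨b, ω, hω, -, -, hk⟩ := CharCore.exists_eigenvalues ρ a
  rw [ha2] at hω
  have hs : ∀ i, ∃ s : ℤ, ω i = s := fun i => by
    rcases mul_self_eq_mul_self_iff.mp (show ω i * ω i = 1 * 1 by
      rw [one_mul, ← pow_two]; exact hω i) with h | h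
    · exact ⟨1, by simpa using h⟩
    · exact ⟨-1, by simpa using h⟩
  choose s hs using hs
  set x : ℤ := ∑ i, s i
  have hxa : ρ.character a = x := by
    have := hk 1
    rw [pow_one] at this
    rw [this]
    simp [x, pow_one, hs]
  refine ⟨f₀, x, by exact_mod_cast hf₀, by push_cast; exact hdeg, hxa, ?_, ?_⟩
  · haveI : Fintype (P : Subgroup G) := Fintype.ofFinite _
    obtain ⟨m, hm⟩ := CharCore.IsCharacter.exists_classInner_eq_natCast
      (CharCore.isCharacter_restrict ⟨n, ρ, rfl⟩ (P : Subgroup G))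
      (CharCore.isCharacter_one (G := (P : Subgroup G)))
    have hsum : ∑ q : (P : Subgroup G), ρ.character (q : G) = ((f₀ : ℂ) - x) + 4 * x := by
      have : ∀ q : (P : Subgroup G), ρ.character (q : G) =
          (if q = 1 then (f₀ : ℂ) - x else 0) + x := by
        intro q
        by_cases hq : q = 1
        · rw [if_pos hq, hq, Subgroup.coe_one]
          rw [show ρ.character 1 = (f₀ : ℂ) from hdeg]
          ring
        · have hq2 : orderOf (q : G) = 2 := Involution.orderOf_eq_two_iff'.mpr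
            ⟨Involution.klein_sq hP q.2, fun e => hq (Subtype.ext e)⟩
          obtain ⟨c, hc⟩ := isConj_iff.mp (hone a q ha2 hq2)
          rw [if_neg hq, zero_add, ← hxa, ← hc]
          exact Representation.char_conj ρ a c
      rw [Finset.sum_congr rfl (fun q _ => this q), Finset.sum_add_distrib, Finset.sum_ite_eq',
        Finset.sum_const, Finset.card_univ, ← Nat.card_eq_fintype_card, hP.card_four]
      simp
    rw [CharCore.classInner_def, hP.card_four] at hm
    simp only [Pi.one_apply, map_one, mul_one] at hm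
    rw [hsum] at hm
    refine ⟨(m : ℤ) - x, ?_⟩
    have : ((f₀ : ℤ) : ℂ) - x = ((4 * ((m : ℤ) - x) : ℤ) : ℂ) := by
      push_cast
      linear_combination 4 * hm
    exact_mod_cast this
  · have h1 : ρ.character 1 = (f₀ : ℂ) := hdeg
    simp [charDegree, h1]

/-- **The principal block with Klein four Sylow 2-subgroup.** -/
theorem klein_principal_block {M : Ideal AlgInt} (hM : IsPModular 2 M) (P : Sylow 2 G)
    (hP : IsKleinFour (P : Subgroup G))
    (hone : ∀ s t : G, orderOf s = 2 → orderOf t = 2 → IsConj s t) :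
    ∃ ζ₂ ζ₃ ζ₄ : IrrCharacter G, ∃ ε : ℤ, (ε = 1 ∨ ε = -1) ∧
      (ζ₂ : G → ℂ) ≠ (fun _ => 1) ∧ (ζ₃ : G → ℂ) ≠ (fun _ => 1) ∧ ζ₂ ≠ ζ₃ ∧ ζ₂ ≠ ζ₄ ∧ ζ₃ ≠ ζ₄ ∧
      principalBlock M G = {χ : IrrCharacter G | (χ : G → ℂ) = (fun _ => 1) ∨ χ = ζ₂ ∨ χ = ζ₃ ∨
        χ = ζ₄} ∧
      (∀ z : G, orderOf z = 2 → (ζ₂ : G → ℂ) z = 1 ∧ (ζ₃ : G → ℂ) z = (ε : ℂ) ∧
        (ζ₄ : G → ℂ) z = -1) ∧
      (4 : ℤ) ∣ (charDegree (ζ₂ : G → ℂ) : ℤ) - 1 ∧ (4 : ℤ) ∣ (charDegree (ζ₃ : G → ℂ) : ℤ) - ε ∧
      (4 : ℤ) ∣ (charDegree (ζ₄ : G → ℂ) : ℤ) + 1 ∧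
      ∀ y : G, Odd (orderOf y) →
        1 + (ζ₂ : G → ℂ) y + (ε : ℂ) * (ζ₃ : G → ℂ) y - (ζ₄ : G → ℂ) y = 0 := by
  classical
  haveI : Fact (Nat.Prime 2) := ⟨Nat.prime_two⟩
  haveI := Fintype.ofFinite G
  haveI := BlocksCore.isPrime hM
  obtain ⟨a, ha, ha2⟩ := Involution.exists_involution_of_even (H := (P : Subgroup G))
    (by rw [hP.card_four]; decide)
  obtain ⟨K, hK, hcard, hgen⟩ := klein_sectionData hP ha ha2
  choose f x hfpos hdeg hxa hcong hchd using klein_char_data hP ha ha2 hone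
  let B := principalBlock M G
  let c : IrrCharacter G → ℤ := fun χ => if χ ∈ B then x χ else 0
  let ν : G → ℂ := fun g => ∑ b : G, ∑ j : K, if b * (a * j) * b⁻¹ = g then (1 : ℂ) else 0
  have hν : IsClassFunction G ν := by
    intro g b
    refine Fintype.sum_equiv (Equiv.mulLeft b⁻¹) _ _ fun d => Finset.sum_congr rfl fun j _ => ?_
    refine if_congr ?_ rfl rfl
    simp only [Equiv.coe_mulLeft]
    constructor
    · intro h
      rw [show b⁻¹ * d * (a * j) * (b⁻¹ * d)⁻¹ = b⁻¹ * (d * (a * j) * d⁻¹) * b by group, h]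
      group
    · intro h
      rw [← h]; group
  have hinner : ∀ χ : IrrCharacter G,
      classInner ν (χ : G → ℂ) = (Nat.card K : ℂ) * c χ := by
    intro χ
    have h1 : ∑ g, ν g * conj ((χ : G → ℂ) g) =
        (Nat.card G : ℂ) * conj (∑ᶠ j : K, (χ : G → ℂ) (a * j)) := by
      simp only [ν, Finset.sum_mul]
      rw [Finset.sum_comm, Finset.sum_congr rfl (g := fun _ : G =>
        conj (∑ᶠ j : K, (χ : G → ℂ) (a * j)))]
      · rw [Finset.sum_const, Finset.card_univ, nsmul_eq_mul, Nat.card_eq_fintype_card]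
      intro b _
      rw [Finset.sum_comm, finsum_eq_sum_of_fintype, map_sum]
      refine Finset.sum_congr rfl fun j _ => ?_
      simp [ite_mul, CharCore.irr_isClassFunction χ (a * j) b]
    rw [CharCore.classInner_def, h1, ← mul_assoc,
      inv_mul_cancel₀ (Nat.cast_ne_zero.mpr Nat.card_pos.ne'), one_mul]
    by_cases hB : χ ∈ B
    · rw [finsum_eq_sum_of_fintype,
        Finset.sum_congr rfl (fun (j : K) _ => apply_mul_eq hM hK hB (v := (j : G)) j.2),
        Finset.sum_const, Finset.card_univ, ← Nat.card_eq_fintype_card, nsmul_eq_mul, hxa]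
      simp [c, hB]
    · rw [sum_eq_zero_of_abelian hM hK hgen hB]
      simp [c, hB]
  have hexp : ∀ g, ν g = (Nat.card K : ℂ) * ∑ χ : IrrCharacter G, (c χ : ℂ) * (χ : G → ℂ) g := by
    intro g
    have h := congrFun (CharCore.eq_sum_classInner hν) g
    rw [h, Finset.sum_apply, Finset.mul_sum]
    exact Finset.sum_congr rfl fun χ _ => by rw [Pi.smul_apply, hinner, smul_eq_mul, mul_assoc]
  have hKne : (Nat.card K : ℂ) ≠ 0 := Nat.cast_ne_zero.mpr Nat.card_pos.ne'
  have hjodd : ∀ j : K, Odd (orderOf (j : G)) := fun j =>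
    Nat.not_even_iff_odd.mp fun he => hK.coprime
      ((even_iff_two_dvd.mp he).trans (Subgroup.orderOf_dvd_natCard K j.2))
  have hja : ∀ j : K, Commute a (j : G) := fun j =>
    (Subgroup.mem_centralizer_singleton_iff.mp (hK.le j.2)).symm
  have hν0 : ∀ g, Odd (orderOf g) → ν g = 0 := by
    intro g hg
    refine Finset.sum_eq_zero fun b _ => Finset.sum_eq_zero fun j _ => if_neg fun h => ?_
    rw [← h, Involution.orderOf_conj, (hja j).orderOf_mul_eq_mul_orderOf_of_coprime (by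
      rw [ha2]; exact Nat.coprime_two_left.mpr (hjodd j)), ha2] at hg
    exact Nat.not_even_iff_odd.mpr hg (even_two_mul _)
  have hνa : ν a = (Nat.card K : ℂ) * 4 := by
    have hiff : ∀ (b : G) (j : K), b * (a * j) * b⁻¹ = a ↔
        b ∈ Subgroup.centralizer ({a} : Set G) ∧ j = 1 := by
      intro b j
      constructor
      · intro h
        have h2 : (j : G) ^ 2 = 1 := by
          have h5 : (a * j) ^ 2 = 1 := by
            rw [← conj_eq_one_iff (a := b), ← conj_pow, h, ← ha2, pow_orderOf_eq_one]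
          rw [(hja j).mul_pow, ← ha2, pow_orderOf_eq_one, one_mul, ha2] at h5
          exact h5
        have h6 : (j : G) = 1 := by
          rw [← orderOf_eq_one_iff]
          exact Nat.eq_one_of_dvd_coprimes (Nat.coprime_two_left.mpr (hjodd j))
            (orderOf_dvd_of_pow_eq_one h2) dvd_rfl
        refine ⟨?_, Subtype.ext h6⟩
        rw [h6, mul_one] at h
        rw [Subgroup.mem_centralizer_singleton_iff]
        exact mul_inv_eq_iff_eq_mul.mp h
      · rintro ⟨h, rfl⟩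
        rw [Subgroup.coe_one, mul_one]
        exact mul_inv_eq_iff_eq_mul.mpr (Subgroup.mem_centralizer_singleton_iff.mp h)
    simp only [ν, hiff, ite_and, Finset.sum_ite_irrel, Finset.sum_ite_eq', Finset.mem_univ,
      if_true, Finset.sum_const_zero]
    rw [Finset.sum_boole]
    norm_cast
    rw [Nat.card_eq_fintype_card, Fintype.card_subtype] at hcard
    rw [hcard, mul_comm]
  -- the equations
  have e1 : ∀ y : G, Odd (orderOf y) → ∑ χ, (c χ : ℂ) * (χ : G → ℂ) y = 0 := by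
    intro y hy
    have h := hexp y
    rw [hν0 y hy] at h
    exact (mul_eq_zero.mp h.symm).resolve_left hKne
  have e3 : ∑ χ, c χ * c χ = 4 := by
    have h := hexp a
    rw [hνa] at h
    have h' := mul_left_cancel₀ hKne h
    have h'' : ((∑ χ, c χ * c χ : ℤ) : ℂ) = ((4 : ℤ) : ℂ) := by
      push_cast
      rw [h']
      refine Finset.sum_congr rfl fun χ _ => ?_
      by_cases hB : χ ∈ B <;> simp [c, hB, hxa]
    exact_mod_cast h''
  -- the trivial character
  let one : IrrCharacter G := ⟨fun _ => 1, CharCore.isIrrCharacter_one⟩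
  have hx1 : x one = 1 := by
    have := hxa one; simp only [one] at this; exact_mod_cast this.symm
  have honeB : one ∈ B := BlocksCore.sameBlock_refl _
  have hc1 : c one = 1 := by simp [c, honeB, hx1]
  -- no member of the block vanishes at the involution
  have hBne : ∀ χ ∈ B, x χ ≠ 0 := by
    intro χ hχ h0
    have hvan : ∀ g : G, g ≠ 1 → (∃ k, orderOf g = 2 ^ k) → (χ : G → ℂ) g = 0 := by
      rintro g hg ⟨k, hk⟩
      have hp : IsPGroup 2 (Subgroup.zpowers g) := IsPGroup.of_card (by rw [Nat.card_zpowers, hk])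
      obtain ⟨Q, hQ⟩ := hp.exists_le_sylow
      obtain ⟨d, hd⟩ := MulAction.exists_smul_eq G Q P
      have hm : d * g * d⁻¹ ∈ P :=
        hd ▸ Involution.conj_mem_sylow_smul d (hQ (Subgroup.mem_zpowers g))
      have ho : orderOf (d * g * d⁻¹) = 2 := Involution.orderOf_eq_two_iff'.mpr
        ⟨Involution.klein_sq hP hm, fun e => hg (conj_eq_one_iff.mp e)⟩
      obtain ⟨e, he⟩ := isConj_iff.mp (hone a _ ha2 ho)
      rw [← CharCore.irr_isClassFunction χ g d, ← he, CharCore.irr_isClassFunction χ a e, hxa, h0,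
        Int.cast_zero]
    have hsing := (BlocksCore.blockOf_eq_singleton_iff hM χ).mpr
      (BlocksCore.not_dvd_of_vanishes χ hvan)
    have h1 : one ∈ blockOf M (χ : G → ℂ) := by
      rw [← BlocksCore.blockOf_eq_of_sameBlock hχ]; exact honeB
    rw [hsing, Set.mem_singleton_iff] at h1
    rw [← h1, hx1] at h0
    exact one_ne_zero h0
  set A := (Finset.univ.filter fun χ => c χ ≠ 0).erase one with hA
  have split : ∀ F : IrrCharacter G → ℂ, ∑ χ, (c χ : ℂ) * F χ =
      F one + ∑ χ ∈ A, (c χ : ℂ) * F χ := by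
    intro F
    rw [← Finset.add_sum_erase _ _ (Finset.mem_univ one), hc1, Int.cast_one, one_mul]
    congr 1
    refine (Finset.sum_subset ?_ ?_).symm
    · intro χ hχ
      simp only [A, Finset.mem_erase, Finset.mem_filter] at hχ
      exact Finset.mem_erase.mpr ⟨hχ.1, Finset.mem_univ _⟩
    · intro χ h1 h2
      simp only [A, Finset.mem_erase, Finset.mem_filter, Finset.mem_univ, true_and, not_and,
        not_not] at h2
      simp [h2 (Finset.mem_erase.mp h1).1]
  have hsq3 : ∑ χ ∈ A, c χ * c χ = 3 := by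
    have h := split fun χ => (c χ : ℂ)
    have h' : ((∑ χ, c χ * c χ : ℤ) : ℂ) = ((1 + ∑ χ ∈ A, c χ * c χ : ℤ) : ℂ) := by
      push_cast; rw [h, hc1]; simp
    have := Int.cast_injective h'
    rw [e3] at this
    linarith
  have hA0 : ∀ χ ∈ A, c χ ≠ 0 := fun χ hχ =>
    (Finset.mem_filter.mp (Finset.mem_erase.mp hχ).2).2
  have hA1 : ∀ χ ∈ A, c χ = 1 ∨ c χ = -1 := by
    intro χ hχ
    have h := Finset.single_le_sum (fun i _ => mul_self_nonneg (c i)) hχ
    rw [hsq3] at h
    have h0 := hA0 χ hχ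
    have : -1 ≤ c χ ∧ c χ ≤ 1 := by constructor <;> nlinarith
    omega
  have hcard3 : A.card = 3 := by
    have : ∑ χ ∈ A, c χ * c χ = (A.card : ℤ) := by
      rw [Finset.card_eq_sum_ones, Nat.cast_sum]
      exact Finset.sum_congr rfl fun χ hχ => by rcases hA1 χ hχ with h | h <;> simp [h]
    omega
  have hneone : ∀ χ ∈ A, χ ≠ one := fun χ hχ => (Finset.mem_erase.mp hχ).1
  have hAB : ∀ χ ∈ A, χ ∈ B ∧ c χ = x χ := fun χ hχ => by
    by_cases hB : χ ∈ B
    · exact ⟨hB, by simp [c, hB]⟩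
    · exact absurd (by simp [c, hB]) (hA0 χ hχ)
  have e0 : ∑ χ ∈ A, c χ * f χ = -1 := by
    have h := e1 1 (by rw [orderOf_one]; exact odd_one)
    rw [split] at h
    simp only [hdeg] at h
    have hf1 : (f one : ℂ) = 1 := (hdeg one).symm
    rw [hf1] at h
    have : ((∑ χ ∈ A, c χ * f χ : ℤ) : ℂ) = ((-1 : ℤ) : ℂ) := by
      push_cast; linear_combination h
    exact_mod_cast this
  obtain ⟨ζ₂, h2, h2c⟩ : ∃ ζ ∈ A, c ζ = 1 := by
    by_contra hno
    simp only [not_exists, not_and] at hno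
    have h' : ∑ χ ∈ A, c χ * f χ ≤ ∑ χ ∈ A, (-1 : ℤ) := Finset.sum_le_sum fun χ hχ => by
      rw [(hA1 χ hχ).resolve_left (hno χ hχ)]
      linarith [hfpos χ]
    rw [e0, Finset.sum_const, hcard3] at h'
    norm_num at h'
  obtain ⟨ζ₄, h4, h4c⟩ : ∃ ζ ∈ A, c ζ = -1 := by
    by_contra hno
    simp only [not_exists, not_and] at hno
    have h' : 0 ≤ ∑ χ ∈ A, c χ * f χ := Finset.sum_nonneg fun χ hχ => by
      rw [(hA1 χ hχ).resolve_right (hno χ hχ)]
      linarith [hfpos χ]
    omega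
  have h24 : ζ₂ ≠ ζ₄ := fun e => by rw [e, h4c] at h2c; norm_num at h2c
  have h4' : ζ₄ ∈ A.erase ζ₂ := Finset.mem_erase.mpr ⟨h24.symm, h4⟩
  obtain ⟨ζ₃, h3⟩ := Finset.card_eq_one.mp (show ((A.erase ζ₂).erase ζ₄).card = 1 by
    rw [Finset.card_erase_of_mem h4', Finset.card_erase_of_mem h2, hcard3])
  have h3m : ζ₃ ∈ (A.erase ζ₂).erase ζ₄ := by rw [h3]; exact Finset.mem_singleton_self _
  simp only [Finset.mem_erase] at h3m
  obtain ⟨h34, h32, h3A⟩ := h3m
  have hAeq : ∀ χ ∈ A, χ = ζ₂ ∨ χ = ζ₃ ∨ χ = ζ₄ := by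
    intro χ hχ
    by_contra hno
    simp only [not_or] at hno
    have : χ ∈ (A.erase ζ₂).erase ζ₄ :=
      Finset.mem_erase.mpr ⟨hno.2.2, Finset.mem_erase.mpr ⟨hno.1, hχ⟩⟩
    rw [h3, Finset.mem_singleton] at this
    exact hno.2.1 this
  have hval : ∀ χ ∈ A, ∀ z : G, orderOf z = 2 → (χ : G → ℂ) z = (c χ : ℂ) := by
    intro χ hχ z hz
    obtain ⟨d, hd⟩ := isConj_iff.mp (hone a z ha2 hz)
    rw [← hd, CharCore.irr_isClassFunction χ a d, hxa, (hAB χ hχ).2]
  refine ⟨ζ₂, ζ₃, ζ₄, c ζ₃, hA1 ζ₃ h3A, fun e => hneone ζ₂ h2 (Subtype.ext e),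
    fun e => hneone ζ₃ h3A (Subtype.ext e), fun e => h32 e.symm, h24, h34, ?_, fun z hz => ?_,
    ?_, ?_, ?_, fun y hy => ?_⟩
  · refine Set.ext fun χ => ⟨fun hχ => ?_, ?_⟩
    · by_cases h : χ = one
      · exact Or.inl (by rw [h])
      · refine Or.inr (hAeq χ (Finset.mem_erase.mpr ⟨h, Finset.mem_filter.mpr
          ⟨Finset.mem_univ _, ?_⟩⟩))
        have hcx : c χ = x χ := if_pos hχ
        rw [hcx]
        exact hBne χ hχ
    · rintro (h | h | h | h)
      · rw [show χ = one from Subtype.ext h]; exact honeB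
      · rw [h]; exact (hAB _ h2).1
      · rw [h]; exact (hAB _ h3A).1
      · rw [h]; exact (hAB _ h4).1
  · refine ⟨?_, hval ζ₃ h3A z hz, ?_⟩
    · rw [hval ζ₂ h2 z hz, h2c, Int.cast_one]
    · rw [hval ζ₄ h4 z hz, h4c]; simp
  · rw [hchd, ← h2c, (hAB _ h2).2]; exact hcong ζ₂
  · rw [hchd, (hAB _ h3A).2]; exact hcong ζ₃
  · rw [hchd, show f ζ₄ + 1 = f ζ₄ - x ζ₄ by rw [← (hAB _ h4).2, h4c]; ring]; exact hcong ζ₄
  · have h := e1 y hy
    rw [split, show A = {ζ₂, ζ₃, ζ₄} from Finset.ext fun χ => ⟨fun hχ => by simpa using hAeq χ hχ,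
      fun hχ => by
        simp only [Finset.mem_insert, Finset.mem_singleton] at hχ
        rcases hχ with rfl | rfl | rfl <;> assumption⟩,
      Finset.sum_insert (by simp [h24, Ne.symm h32]), Finset.sum_pair h34, h2c, h4c] at h
    simp only [one] at h
    push_cast at h
    linear_combination h

end Cfsg.Agent.ZStar
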