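import Mathlib

/-!
# Facts on the quaternion group of order eight, in any group isomorphic to it
-/

set_option autoImplicit false

open QuaternionGroup

namespace Cfsg.Agent.ZStar

theorem q8_sq_eq_one : ∀ x : QuaternionGroup 2, x * x = 1 → x = 1 ∨ x = a 2 := by decide

theorem q8_sq : ∀ x : QuaternionGroup 2, x * x ≠ 1 → x * x = a 2 := by decide

theorem q8_inverts : ∀ x : QuaternionGroup 2, x * x ≠ 1 → ∃ y, y * x * y⁻¹ = x⁻¹ := by decide

theorem q8_comm : ∀ x y : QuaternionGroup 2, x * x ≠ 1 → x * y = y * x →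
    y = 1 ∨ y = x ∨ y = x * x ∨ y = x⁻¹ := by decide

set_option synthInstance.maxSize 2000 in
set_option synthInstance.maxHeartbeats 200000 in
theorem q8_axes : ∀ x y w : QuaternionGroup 2, x * x ≠ 1 → y * y ≠ 1 → y ≠ x → y ≠ x⁻¹ →
    w * w ≠ 1 → w = x ∨ w = x⁻¹ ∨ w = y ∨ w = y⁻¹ ∨ w = x * y ∨ w = (x * y)⁻¹ := by
  decide +kernel

set_option synthInstance.maxSize 2000 in
set_option synthInstance.maxHeartbeats 200000 in
theorem q8_outside : ∀ x b c : QuaternionGroup 2, x * x ≠ 1 → b * b ≠ 1 → c * c ≠ 1 →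
    b ≠ x → b ≠ x⁻¹ → c ≠ x → c ≠ x⁻¹ →
    b * c = 1 ∨ b * c = x ∨ b * c = x * x ∨ b * c = x⁻¹ := by decide +kernel

theorem q8_exists_outside : ∀ x : QuaternionGroup 2,
    ∃ y, y ≠ 1 ∧ y ≠ x ∧ y ≠ x * x ∧ y ≠ x⁻¹ := by decide +kernel

/-- The facts about the Sylow subgroup that the argument uses, stated in the ambient group. -/
structure Q8Facts {G : Type*} [Group G] (P : Subgroup G) (t : G) : Prop where
  mem : t ∈ P
  sq_eq_one : ∀ x ∈ P, x * x = 1 → x = 1 ∨ x = t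
  sq : ∀ x ∈ P, x * x ≠ 1 → x * x = t
  inverts : ∀ x ∈ P, x * x ≠ 1 → ∃ y ∈ P, y * x * y⁻¹ = x⁻¹
  comm : ∀ x ∈ P, ∀ y ∈ P, x * x ≠ 1 → x * y = y * x → y = 1 ∨ y = x ∨ y = x * x ∨ y = x⁻¹
  axes : ∀ x ∈ P, ∀ y ∈ P, ∀ w ∈ P, x * x ≠ 1 → y * y ≠ 1 → y ≠ x → y ≠ x⁻¹ → w * w ≠ 1 →
    w = x ∨ w = x⁻¹ ∨ w = y ∨ w = y⁻¹ ∨ w = x * y ∨ w = (x * y)⁻¹
  outside : ∀ x ∈ P, ∀ b ∈ P, ∀ c ∈ P, x * x ≠ 1 → b * b ≠ 1 → c * c ≠ 1 →
    b ≠ x → b ≠ x⁻¹ → c ≠ x → c ≠ x⁻¹ →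
    b * c = 1 ∨ b * c = x ∨ b * c = x * x ∨ b * c = x⁻¹
  exists_outside : ∀ x ∈ P, ∃ y ∈ P, y ≠ 1 ∧ y ≠ x ∧ y ≠ x * x ∧ y ≠ x⁻¹
  exists_four : ∃ x ∈ P, x * x ≠ 1

theorem q8Facts {G : Type*} [Group G] {P : Subgroup G} (e : P ≃* QuaternionGroup 2) {t : G}
    (htP : t ∈ P) (ht : orderOf t = 2) : Q8Facts P t := by
  have hinj : ∀ x y : P, e x = e y → (x : G) = (y : G) := fun x y h => by rw [e.injective h]
  have hsq : ∀ x : P, (x : G) * x ≠ 1 → e x * e x ≠ 1 := fun x h h' => h (by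
    rw [← map_mul, ← map_one e] at h'
    simpa using hinj _ _ h')
  have hne : ∀ x y : P, (x : G) ≠ y → e x ≠ e y := fun x y h h' => h (hinj _ _ h')
  have ht2 : t * t = 1 := by rw [← pow_two, ← ht]; exact pow_orderOf_eq_one t
  have ht1 : t ≠ 1 := fun h => by simp [h] at ht
  have het : e ⟨t, htP⟩ = a 2 := by
    rcases q8_sq_eq_one (e ⟨t, htP⟩) (by
      rw [← map_mul, ← map_one e]; exact congrArg e (Subtype.ext (by simpa using ht2))) with h | h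
    · exact absurd (by simpa using hinj _ 1 (h.trans (map_one e).symm)) ht1
    · exact h
  refine ⟨htP, ?_, ?_, ?_, ?_, ?_, ?_, ?_, ?_⟩
  · intro x hx h
    rcases q8_sq_eq_one (e ⟨x, hx⟩) (by
      rw [← map_mul, ← map_one e]; exact congrArg e (Subtype.ext (by simpa using h))) with h1 | h1
    · exact Or.inl (by simpa using hinj _ 1 (h1.trans (map_one e).symm))
    · exact Or.inr (hinj _ ⟨t, htP⟩ (h1.trans het.symm))
  · intro x hx h
    have h1 := q8_sq _ (hsq ⟨x, hx⟩ h)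
    rw [← map_mul] at h1
    exact hinj _ ⟨t, htP⟩ (h1.trans het.symm)
  · intro x hx h
    obtain ⟨y, hy⟩ := q8_inverts _ (hsq ⟨x, hx⟩ h)
    obtain ⟨z, rfl⟩ := e.surjective y
    rw [← map_inv, ← map_mul, ← map_mul, ← map_inv] at hy
    exact ⟨z, z.2, by simpa using hinj _ _ hy⟩
  · intro x hx y hy h hc
    have h1 := q8_comm (e ⟨x, hx⟩) (e ⟨y, hy⟩) (hsq ⟨x, hx⟩ h) (by
      rw [← map_mul, ← map_mul]; exact congrArg e (Subtype.ext hc))
    simp only [← map_mul, ← map_inv] at h1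
    rw [← map_one e] at h1
    rcases h1 with h1 | h1 | h1 | h1 <;> have h2 := hinj _ _ h1 <;> simp at h2 <;> simp [h2]
  · intro x hx y hy w hw h1 h2 h3 h4 h5
    have := q8_axes _ _ _ (hsq ⟨x, hx⟩ h1) (hsq ⟨y, hy⟩ h2) (hne _ _ h3)
      (by rw [← map_inv]; exact hne _ _ (by simpa using h4)) (hsq ⟨w, hw⟩ h5)
    simp only [← map_mul, ← map_inv] at this
    rcases this with h | h | h | h | h | h <;> have h6 := hinj _ _ h <;> simp at h6 <;> simp [h6]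
  · intro x hx b hb c hc h1 h2 h3 h4 h5 h6 h7
    have := q8_outside _ _ _ (hsq ⟨x, hx⟩ h1) (hsq ⟨b, hb⟩ h2) (hsq ⟨c, hc⟩ h3) (hne _ _ h4)
      (by rw [← map_inv]; exact hne _ _ (by simpa using h5)) (hne _ _ h6)
      (by rw [← map_inv]; exact hne _ _ (by simpa using h7))
    simp only [← map_mul, ← map_inv] at this
    rw [← map_one e] at this
    rcases this with h | h | h | h <;> have h8 := hinj _ _ h <;> simp at h8 <;> simp [h8]
  · intro x hx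
    obtain ⟨y, a1, a2, a3, a4⟩ := q8_exists_outside (e ⟨x, hx⟩)
    obtain ⟨z, rfl⟩ := e.surjective y
    refine ⟨z, z.2, fun h => a1 ?_, fun h => a2 ?_, fun h => a3 ?_, fun h => a4 ?_⟩
    · rw [show z = 1 from Subtype.ext h, map_one]
    · rw [show z = ⟨x, hx⟩ from Subtype.ext h]
    · rw [← map_mul]; exact congrArg e (Subtype.ext h)
    · rw [← map_inv]; exact congrArg e (Subtype.ext h)
  · obtain ⟨x, hx⟩ := e.surjective (a 1)
    refine ⟨x, x.2, fun h => ?_⟩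
    have h' : e x * e x = 1 := by
      rw [← map_mul, ← map_one e]; exact congrArg e (Subtype.ext (by simpa using h))
    rw [hx] at h'
    exact absurd h' (by decide)

end Cfsg.Agent.ZStar
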