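import Mathlib

/-!
# Arithmetic for the quaternion group of order eight
-/

set_option autoImplicit false

namespace Cfsg.Agent.ZStar

theorem zmod4_parity : ∀ a b k l : ZMod 4, a = 3 + 2 * k → b = 3 + 2 * l →
    (k * b - l * a) ^ 2 = k ^ 2 * b + l ^ 2 * a → 2 * k = 0 ∧ 2 * l = 0 := by
  decide +kernel

theorem two_dvd_of_two_mul_eq_zero {k : ℤ} (h : (2 : ZMod 4) * (k : ZMod 4) = 0) : 2 ∣ k := by
  have h' : ((2 * k : ℤ) : ZMod 4) = 0 := by push_cast; exact h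
  rw [ZMod.intCast_zmod_eq_zero_iff_dvd] at h'
  norm_num at h'
  omega

theorem descent_eq_zero {a b : ℤ} (ha : (a : ZMod 4) = 3) (hb : (b : ZMod 4) = 3) :
    ∀ (n : ℕ) (k l : ℤ), k.natAbs + l.natAbs = n →
      (k * b - l * a) ^ 2 = k ^ 2 * b + l ^ 2 * a → k = 0 ∧ l = 0 := by
  intro n
  induction n using Nat.strong_induction_on with
  | _ n ih =>
    intro k l hn h
    by_contra hne
    have h4 : ((k : ZMod 4) * b - l * a) ^ 2 = (k : ZMod 4) ^ 2 * b + (l : ZMod 4) ^ 2 * a := by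
      exact_mod_cast congrArg (fun z : ℤ => (z : ZMod 4)) h
    rw [ha, hb] at h4
    have key : ∀ k l : ZMod 4, (k * 3 - l * 3) ^ 2 = k ^ 2 * 3 + l ^ 2 * 3 →
        2 * k = 0 ∧ 2 * l = 0 := by decide +kernel
    obtain ⟨hk, hl⟩ := key _ _ h4
    obtain ⟨k', rfl⟩ := two_dvd_of_two_mul_eq_zero hk
    obtain ⟨l', rfl⟩ := two_dvd_of_two_mul_eq_zero hl
    have h' : (k' * b - l' * a) ^ 2 = k' ^ 2 * b + l' ^ 2 * a := by
      refine mul_left_cancel₀ (show (4 : ℤ) ≠ 0 by norm_num) ?_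
      linear_combination h
    by_cases h0 : k' = 0 ∧ l' = 0
    · exact hne ⟨by simp [h0.1], by simp [h0.2]⟩
    · exact h0 (ih _ (by omega) k' l' rfl h')

/-- The case of one positive and two negative signs. -/
theorem arith_pmm {f1 f2 f3 k1 k2 k3 : ℤ} (hf2 : (f2 : ZMod 4) = 3 + 2 * k2)
    (hf3 : (f3 : ZMod 4) = 3 + 2 * k3) (h1 : f1 = f2 + f3 - 1) (h2 : k1 = k2 + k3)
    (h3 : k1 ^ 2 * (f2 * f3) - k2 ^ 2 * (f1 * f3) - k3 ^ 2 * (f1 * f2) = 0) : k2 = 0 := by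
  subst h1 h2
  have h : (k2 * f3 - k3 * f2) ^ 2 = k2 ^ 2 * f3 + k3 ^ 2 * f2 := by linear_combination -h3
  have h4 : ((k2 : ZMod 4) * f3 - k3 * f2) ^ 2 = (k2 : ZMod 4) ^ 2 * f3 + (k3 : ZMod 4) ^ 2 * f2 := by
    exact_mod_cast congrArg (fun z : ℤ => (z : ZMod 4)) h
  obtain ⟨hk, hl⟩ := zmod4_parity _ _ _ _ hf2 hf3 h4
  rw [hk, add_zero] at hf2
  rw [hl, add_zero] at hf3
  exact (descent_eq_zero hf2 hf3 _ _ _ rfl h).1

/-- The case of two positive and one negative sign. -/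
theorem arith_ppm {f1 f2 f3 k1 k2 k3 : ℤ} (p1 : 0 < f1) (p2 : 0 < f2)
    (h1 : f3 = f1 + f2 + 1) (h2 : k3 = k1 + k2)
    (h3 : k1 ^ 2 * (f2 * f3) + k2 ^ 2 * (f1 * f3) - k3 ^ 2 * (f1 * f2) = 0) : k1 = 0 := by
  subst h1 h2
  have h : (k1 * f2 - k2 * f1) ^ 2 + k1 ^ 2 * f2 + k2 ^ 2 * f1 = 0 := by linear_combination h3
  have hz : k1 ^ 2 * f2 = 0 := by
    nlinarith [sq_nonneg (k1 * f2 - k2 * f1), mul_nonneg (sq_nonneg k1) p2.le,
      mul_nonneg (sq_nonneg k2) p1.le]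
  exact pow_eq_zero_iff two_ne_zero |>.mp ((mul_eq_zero.mp hz).resolve_right p2.ne')

/-- The three nonprincipal characters of the principal block. -/
theorem arith_three {f1 f2 f3 k1 k2 k3 c1 c2 c3 : ℤ} (p1 : 0 < f1) (p2 : 0 < f2) (p3 : 0 < f3)
    (n1 : 0 ≤ k1) (n2 : 0 ≤ k2) (n3 : 0 ≤ k3)
    (hc1 : c1 = 1 ∨ c1 = -1) (hc2 : c2 = 1 ∨ c2 = -1) (hc3 : c3 = 1 ∨ c3 = -1)
    (g1 : (f1 : ZMod 4) = c1 + 2 * k1) (g2 : (f2 : ZMod 4) = c2 + 2 * k2)
    (g3 : (f3 : ZMod 4) = c3 + 2 * k3)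
    (h1 : c1 * f1 + c2 * f2 + c3 * f3 = -1) (h2 : c1 * k1 + c2 * k2 + c3 * k3 = 0)
    (h3 : c1 * (k1 ^ 2 * (f2 * f3)) + c2 * (k2 ^ 2 * (f1 * f3)) + c3 * (k3 ^ 2 * (f1 * f2)) = 0) :
    k1 = 0 ∨ k2 = 0 ∨ k3 = 0 := by
  have m : ((-1 : ℤ) : ZMod 4) = 3 := by decide
  rcases hc1 with rfl | rfl <;> rcases hc2 with rfl | rfl <;> rcases hc3 with rfl | rfl
  · exfalso; linarith
  · exact Or.inl (arith_ppm (f1 := f1) (f2 := f2) (f3 := f3) (k1 := k1) (k2 := k2) (k3 := k3) p1 p2 (by linarith) (by linarith)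
      (by linear_combination h3))
  · exact Or.inl (arith_ppm (f1 := f1) (f2 := f3) (f3 := f2) (k1 := k1) (k2 := k3) (k3 := k2)
      p1 p3 (by linarith) (by linarith)
      (by linear_combination h3))
  · rw [m] at g2 g3
    exact Or.inr (Or.inl (arith_pmm (f1 := f1) (f2 := f2) (f3 := f3) (k1 := k1) (k2 := k2) (k3 := k3)
      g2 g3 (by linarith) (by linarith)
      (by linear_combination h3)))
  · exact Or.inr (Or.inl (arith_ppm (f1 := f2) (f2 := f3) (f3 := f1) (k1 := k2) (k2 := k3) (k3 := k1)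
      p2 p3 (by linarith) (by linarith)
      (by linear_combination h3)))
  · rw [m] at g1 g3
    exact Or.inl (arith_pmm (f1 := f2) (f2 := f1) (f3 := f3) (k1 := k2) (k2 := k1) (k3 := k3)
      g1 g3 (by linarith) (by linarith)
      (by linear_combination h3))
  · rw [m] at g1 g2
    exact Or.inl (arith_pmm (f1 := f3) (f2 := f1) (f3 := f2) (k1 := k3) (k2 := k1) (k3 := k2)
      g1 g2 (by linarith) (by linarith)
      (by linear_combination h3))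
  · exact Or.inl (by linarith)

end Cfsg.Agent.ZStar
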