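import Cfsg.Agent.ZStar.Blocks
import Cfsg.Agent.ZStar.Q8Facts
import Cfsg.Agent.ZStar.QuaternionArith
import Cfsg.Agent.Lib.CharCore.Complete
import Cfsg.Agent.Lib.CharCore.Linear
import Cfsg.Agent.S0216
import Cfsg.Agent.Lib.Involution.StronglyEmbedded
import Cfsg.Agent.Blocks88.Modular
import Mathlib.GroupTheory.Focal

/-!
# The Brauer–Suzuki theorem for a quaternion Sylow 2-subgroup of order eight
-/

set_option autoImplicit false

open Cfsg
open scoped ComplexConjugate commutatorElement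

namespace Cfsg.Agent.ZStar

variable {G : Type*} [Group G]

theorem isPGroup_two_of_le_sylow [Finite G] {H : Subgroup G} (hH : IsPGroup 2 H) (P : Sylow 2 G) :
    ∃ c : G, ∀ h ∈ H, c * h * c⁻¹ ∈ P := by
  haveI : Fact (Nat.Prime 2) := ⟨Nat.prime_two⟩
  obtain ⟨Q, hQ⟩ := hH.exists_le_sylow
  obtain ⟨c, hc⟩ := MulAction.exists_smul_eq G Q P
  exact ⟨c, fun h hh => by rw [← hc]; exact Involution.conj_mem_sylow_smul c (hQ hh)⟩

variable [Finite G] {P : Sylow 2 G} {t : G}

theorem Q8Facts.sq_t (hf : Q8Facts (P : Subgroup G) t) : t * t = 1 := by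
  obtain ⟨x, hx, hx2⟩ := hf.exists_four
  by_contra h'
  have := hf.sq t hf.mem h'
  exact hx2 ((hf.sq x hx hx2).trans (mul_eq_left.mp this))

theorem Q8Facts.orderOf_four (hf : Q8Facts (P : Subgroup G) t) {x : G} (hx : x ∈ P)
    (hx2 : x * x ≠ 1) : orderOf x = 4 :=
  orderOf_eq_prime_pow (p := 2) (n := 1) (by rw [pow_one, pow_two]; exact hx2) (by
    rw [show 2 ^ (1 + 1) = 2 + 2 from rfl, pow_add, pow_two, hf.sq x hx hx2, hf.sq_t])

/-- An element of `P` in the cyclic subgroup generated by an element of order four. -/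
theorem Q8Facts.mem_zpowers (hf : Q8Facts (P : Subgroup G) t) {x y : G} (hx : x ∈ P) (hy : y ∈ P)
    (hx2 : x * x ≠ 1) (hc : x * y = y * x) : y ∈ Subgroup.zpowers x := by
  rcases hf.comm x hx y hy hx2 hc with h | h | h | h <;> rw [h]
  · exact one_mem _
  · exact Subgroup.mem_zpowers x
  · exact mul_mem (Subgroup.mem_zpowers x) (Subgroup.mem_zpowers x)
  · exact inv_mem (Subgroup.mem_zpowers x)

/-- If the class of `u` meets `P` outside the axis of `u` for every `u`, one class results. -/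
theorem Q8Facts.exists_conj_outside (hf : Q8Facts (P : Subgroup G) t)
    (hG : commutator G = ⊤) {u : G} (hu : u ∈ P) (hu2 : u * u ≠ 1) :
    ∃ v ∈ P, v * v ≠ 1 ∧ v ≠ u ∧ v ≠ u⁻¹ ∧ IsConj u v := by
  haveI : Fact (Nat.Prime 2) := ⟨Nat.prime_two⟩
  by_contra hno
  simp only [not_exists, not_and] at hno
  have hle : (P : Subgroup G).focalSubgroup ≤ Subgroup.zpowers u := by
    rw [Subgroup.focalSubgroup_def, Subgroup.closure_le]
    rintro g ⟨hg, x, hx, c, rfl⟩
    have hy : c * x⁻¹ * c⁻¹ ∈ P := by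
      have := mul_mem (inv_mem hx) hg
      rwa [commutatorElement_def, show x⁻¹ * (x * c * x⁻¹ * c⁻¹) = c * x⁻¹ * c⁻¹ by group] at this
    rw [SetLike.mem_coe, commutatorElement_def,
      show x * c * x⁻¹ * c⁻¹ = x * (c * x⁻¹ * c⁻¹) by group]
    set y := c * x⁻¹ * c⁻¹ with hydef
    have hyy : y * y = 1 ↔ x * x = 1 := by
      rw [hydef, show c * x⁻¹ * c⁻¹ * (c * x⁻¹ * c⁻¹) = c * (x * x)⁻¹ * c⁻¹ by group,
        conj_eq_one_iff, inv_eq_one]
    by_cases hxx : x * x = 1
    · rcases hf.sq_eq_one x hx hxx with h1 | h1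
      · rw [hydef, h1]; simp
      · rcases hf.sq_eq_one y hy (hyy.mpr hxx) with h2 | h2
        · refine absurd ?_ hu2
          have hxt : x = 1 := by
            rw [hydef, conj_eq_one_iff, inv_eq_one] at h2; exact h2
          rw [← hf.sq u hu hu2] at h1
          rw [← h1, hxt]
        · rw [h1, h2, hf.sq_t]; exact one_mem _
    · have hyne : y * y ≠ 1 := fun h => hxx (hyy.mp h)
      obtain ⟨z, -, hz⟩ := hf.inverts x hx hxx
      have hxy : IsConj x y := by
        rw [isConj_iff]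
        exact ⟨c * z, by rw [hydef, ← hz]; group⟩
      have key : ∀ a, a ∈ P → a * a ≠ 1 → IsConj u a → a = u ∨ a = u⁻¹ := by
        intro a ha ha2 hc
        by_contra h
        rw [not_or] at h
        exact hno a ha ha2 h.1 h.2 hc
      have huu : IsConj u u⁻¹ := by
        obtain ⟨z, -, hz⟩ := hf.inverts u hu hu2
        exact isConj_iff.mpr ⟨z, hz⟩
      have hmem : ∀ a, a = u ∨ a = u⁻¹ → a ∈ Subgroup.zpowers u := fun a ha => by
        rcases ha with rfl | rfl
        · exact Subgroup.mem_zpowers _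
        · exact inv_mem (Subgroup.mem_zpowers _)
      by_cases hxu : x = u ∨ x = u⁻¹
      · have hux : IsConj u x := by
          rcases hxu with h | h
          · rw [h]
          · rw [h]; exact huu
        exact mul_mem (hmem x hxu) (hmem y (key y hy hyne (hux.trans hxy)))
      · have hyu : ¬ (y = u ∨ y = u⁻¹) := fun h => hxu (key x hx hxx (by
          rcases h with h | h
          · rw [← h]; exact hxy.symm
          · exact huu.trans (h ▸ hxy.symm)))
        rw [not_or] at hxu hyu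
        rcases hf.outside u hu x hx y hy hu2 hxx hyne hxu.1 hxu.2 hyu.1 hyu.2 with
          h | h | h | h <;> rw [h]
        · exact one_mem _
        · exact Subgroup.mem_zpowers u
        · exact mul_mem (Subgroup.mem_zpowers u) (Subgroup.mem_zpowers u)
        · exact inv_mem (Subgroup.mem_zpowers u)
  rw [← Subgroup.commutator_inf_eq_focalSubgroup, hG, top_inf_eq] at hle
  obtain ⟨y, hy, n1, n2, n3, n4⟩ := hf.exists_outside u hu
  have hc : u * y = y * u := by
    obtain ⟨i, hi⟩ := Subgroup.mem_zpowers_iff.mp (hle hy)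
    rw [← hi]
    exact (Commute.self_zpow u i).eq
  rcases hf.comm u hu y hy hu2 hc with h | h | h | h
  exacts [n1 h, n2 h, n3 h, n4 h]

/-- All elements of order four of `P` are conjugate when `G` is perfect. -/
theorem Q8Facts.isConj_four (hf : Q8Facts (P : Subgroup G) t) (hG : commutator G = ⊤)
    {u w : G} (hu : u ∈ P) (hu2 : u * u ≠ 1) (hw : w ∈ P) (hw2 : w * w ≠ 1) : IsConj u w := by
  have huu : ∀ a, a ∈ P → a * a ≠ 1 → IsConj a a⁻¹ := fun a ha ha2 => by
    obtain ⟨z, -, hz⟩ := hf.inverts a ha ha2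
    exact isConj_iff.mpr ⟨z, hz⟩
  obtain ⟨v, hv, hv2, v1, v2, huv⟩ := hf.exists_conj_outside hG hu hu2
  obtain ⟨z, hz, hz2, z1, z2, hwz⟩ := hf.exists_conj_outside hG hw hw2
  rcases hf.axes u hu v hv w hw hu2 hv2 v1 v2 hw2 with h | h | h | h | h | h
  · rw [h]
  · rw [h]; exact huu u hu hu2
  · rw [h]; exact huv
  · rw [h]; exact huv.trans (huu v hv hv2)
  · rcases hf.axes u hu v hv z hz hu2 hv2 v1 v2 hz2 with h' | h' | h' | h' | h' | h'
    · exact (h' ▸ hwz).symm
    · exact (huu u hu hu2).trans (h' ▸ hwz).symm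
    · exact huv.trans (h' ▸ hwz).symm
    · exact (huv.trans (huu v hv hv2)).trans (h' ▸ hwz).symm
    · exact absurd (h'.trans h.symm) z1
    · exact absurd (h'.trans (by rw [h])) z2
  · rcases hf.axes u hu v hv z hz hu2 hv2 v1 v2 hz2 with h' | h' | h' | h' | h' | h'
    · exact (h' ▸ hwz).symm
    · exact (huu u hu hu2).trans (h' ▸ hwz).symm
    · exact huv.trans (h' ▸ hwz).symm
    · exact (huv.trans (huu v hv hv2)).trans (h' ▸ hwz).symm
    · exact absurd (h'.trans (by rw [h, inv_inv])) z2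
    · exact absurd (h'.trans h.symm) z1

/-- The centralizer of an element of order four of `P` is `⟨u⟩ K` with `K` of odd order. -/
theorem Q8Facts.sectionData (hf : Q8Facts (P : Subgroup G) t) {u : G} (hu : u ∈ P)
    (hu2 : u * u ≠ 1) :
    ∃ K : Subgroup G, SectionData 2 u K ∧
      ∀ c ∈ Subgroup.centralizer ({u} : Set G), ∃ i : ℕ, ∃ k ∈ K, c = u ^ i * k := by
  haveI : Fact (Nat.Prime 2) := ⟨Nat.prime_two⟩
  have hu4 := hf.orderOf_four hu hu2
  set C := Subgroup.centralizer ({u} : Set G)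
  let u' : C := ⟨u, Subgroup.mem_centralizer_singleton_iff.mpr rfl⟩
  have hcomm : ∀ c : C, (c : G) * u = u * c := fun c =>
    Subgroup.mem_centralizer_singleton_iff.mp c.2
  have hUp : IsPGroup 2 (Subgroup.zpowers u') := IsPGroup.of_card (n := 2) (by
    rw [Nat.card_zpowers, ← Subgroup.orderOf_coe, show (u' : G) = u from rfl, hu4]; norm_num)
  obtain ⟨T, hT⟩ := hUp.exists_le_sylow
  have hTeq : (T : Subgroup C) = Subgroup.zpowers u' := by
    refine le_antisymm (fun s hs => ?_) hT
    obtain ⟨c, hc⟩ := isPGroup_two_of_le_sylow (T.2.map C.subtype) P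
    have h1 : c * u * c⁻¹ ∈ P := hc u ⟨u', hT (Subgroup.mem_zpowers u'), rfl⟩
    have h2 : c * s * c⁻¹ ∈ P := hc s ⟨s, hs, rfl⟩
    have h3 : c * u * c⁻¹ * (c * u * c⁻¹) ≠ 1 := by
      rw [show c * u * c⁻¹ * (c * u * c⁻¹) = c * (u * u) * c⁻¹ by group]
      exact fun h => hu2 (conj_eq_one_iff.mp h)
    obtain ⟨i, hi⟩ := Subgroup.mem_zpowers_iff.mp (hf.mem_zpowers h1 h2 h3 (by
      rw [show c * u * c⁻¹ * (c * s * c⁻¹) = c * (u * s) * c⁻¹ by group,
        show c * s * c⁻¹ * (c * u * c⁻¹) = c * (s * u) * c⁻¹ by group, hcomm s]))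
    rw [conj_zpow] at hi
    exact Subgroup.mem_zpowers_iff.mpr ⟨i, Subtype.ext
      (by simpa using mul_left_cancel (mul_right_cancel hi))⟩
  have hcen : ∀ x ∈ (T : Subgroup C), ∀ c : C, x * c = c * x := by
    intro x hx c
    rw [hTeq] at hx
    obtain ⟨i, rfl⟩ := Subgroup.mem_zpowers_iff.mp hx
    exact (Commute.zpow_left (Subtype.ext (hcomm c).symm : u' * c = c * u') i).eq
  have hN : Subgroup.normalizer ((T : Subgroup C) : Set C) ≤
      Subgroup.centralizer ((T : Subgroup C) : Set C) :=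
    fun c _ => Subgroup.mem_centralizer_iff.mpr fun x hx => hcen x hx c
  obtain ⟨K', hn, hcompl⟩ : ∃ K' : Subgroup C, K'.Normal ∧
      Subgroup.IsComplement' K' (T : Subgroup C) :=
    ⟨_, inferInstance, MonoidHom.ker_transferSylow_isComplement' T hN⟩
  refine ⟨K'.map C.subtype, ⟨⟨2, by rw [hu4]; norm_num⟩, Subgroup.map_subtype_le _, ?_, ?_⟩, ?_⟩
  · intro c hc
    rw [Subgroup.mem_normalizer_iff]
    intro g
    constructor
    · rintro ⟨y, hy, rfl⟩
      exact ⟨⟨c, hc⟩ * y * ⟨c, hc⟩⁻¹, hn.conj_mem y hy _, by simp⟩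
    · rintro ⟨y, hy, hye⟩
      refine ⟨⟨c, hc⟩⁻¹ * y * ⟨c, hc⟩, by simpa using hn.conj_mem y hy ⟨c, hc⟩⁻¹, ?_⟩
      simp only [Subgroup.coe_subtype, Subgroup.coe_mul, InvMemClass.coe_inv] at hye ⊢
      rw [hye]; group
  · rw [Subgroup.card_map_of_injective (Subgroup.subtype_injective _),
      ← hcompl.index_eq_card]
    exact T.not_dvd_index
  · intro c hc
    obtain ⟨⟨k, x⟩, hkx⟩ := hcompl.existsUnique ⟨c, hc⟩ |>.exists
    have hx : (x : C) ∈ Subgroup.zpowers u' := hTeq ▸ x.2
    rw [← mem_powers_iff_mem_zpowers, Submonoid.mem_powers_iff] at hx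
    obtain ⟨i, hi⟩ := hx
    refine ⟨i, (k : C), ⟨k, k.2, rfl⟩, ?_⟩
    have h1 := congrArg (fun z : C => (z : G)) hkx
    simp only [Subgroup.coe_mul] at h1
    rw [← h1, ← hi, SubgroupClass.coe_pow]
    exact (Commute.pow_right (hcomm (k : C)) i).eq

/-- The arithmetic data attached to one character. -/
theorem exists_char_data (hf : Q8Facts (P : Subgroup G) t) (hG : commutator G = ⊤)
    (e : (P : Subgroup G) ≃* QuaternionGroup 2) {u : G} (hu : u ∈ P) (hu2 : u * u ≠ 1)
    (χ : IrrCharacter G) :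
    ∃ (f k x : ℤ), 0 < f ∧ 0 ≤ k ∧ (χ : G → ℂ) 1 = f ∧ (χ : G → ℂ) t = f - 4 * k ∧
      (χ : G → ℂ) u = x ∧ (f : ZMod 4) = x + 2 * k := by
  classical
  haveI : Fact (Nat.Prime 2) := ⟨Nat.prime_two⟩
  haveI := Fintype.ofFinite G
  have hclass := CharCore.irr_isClassFunction χ
  have hconj : ∀ a b : G, IsConj a b → (χ : G → ℂ) a = (χ : G → ℂ) b := by
    intro a b h
    obtain ⟨c, rfl⟩ := isConj_iff.mp h
    exact (hclass a c).symm
  obtain ⟨z, hz, hzu⟩ := hf.inverts u hu hu2
  have hu4 := hf.orderOf_four hu hu2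
  obtain ⟨f₀, hf₀, hdeg⟩ := CharCore.IsIrrCharacter.exists_degree χ.2
  obtain ⟨χf, n, ρ, hρ, hχf⟩ := χ
  subst hχf
  replace hdeg : ρ.character 1 = f₀ := hdeg
  replace hconj : ∀ a b : G, IsConj a b → ρ.character a = ρ.character b := hconj
  obtain ⟨b, ω, hω, -, -, hk⟩ := CharCore.exists_eigenvalues ρ u
  rw [hu4] at hω
  have hI : ∀ w : ℂ, w ^ 4 = 1 → ∃ r s : ℤ, w = r + s * Complex.I ∧ w ^ 2 = 1 - 2 * (s : ℂ) ^ 2 := by
    intro w hw
    have h0 : (w * w - 1 * 1) * (w * w - Complex.I * Complex.I) = 0 := by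
      rw [Complex.I_mul_I]; linear_combination hw
    rcases mul_eq_zero.mp h0 with h | h <;>
      rcases mul_self_eq_mul_self_iff.mp (sub_eq_zero.mp h) with rfl | rfl
    · exact ⟨1, 0, by simp, by simp⟩
    · exact ⟨-1, 0, by simp, by simp⟩
    · exact ⟨0, 1, by simp, by rw [Complex.I_sq]; norm_num⟩
    · exact ⟨0, -1, by simp, by rw [neg_sq, Complex.I_sq]; norm_num⟩
  choose r s hrs hsq using fun i => hI (ω i) (hω i)
  set x : ℤ := ∑ i, r i with hx
  have h1 : ρ.character u = x + (∑ i, s i : ℤ) * Complex.I := by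
    have := hk 1
    rw [pow_one] at this
    rw [this, hx]
    push_cast
    rw [Finset.sum_mul, ← Finset.sum_add_distrib]
    exact Finset.sum_congr rfl fun i _ => by rw [pow_one, hrs i]
  have hreal : conj (ρ.character u) = ρ.character u := by
    rw [← CharCore.character_inv]
    exact (hconj u u⁻¹ (isConj_iff.mpr ⟨z, hzu⟩)).symm
  have hs0 : ∑ i, s i = 0 := by
    rw [h1] at hreal
    have := congrArg Complex.im hreal
    simp [-Complex.ofReal_intCast] at this
    have h' : ((∑ i, s i : ℤ) : ℝ) = 0 := by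
      push_cast
      linarith
    exact_mod_cast h'
  have hxu : ρ.character u = x := by rw [h1, hs0]; simp
  obtain ⟨k, hk2⟩ : Even (∑ i, s i * s i) := by
    have h2 : Even (∑ i, s i * (s i - 1)) :=
      Finset.even_sum _ fun i _ => Int.even_mul_pred_self (s i)
    simpa only [mul_sub, mul_one, Finset.sum_sub_distrib, hs0, sub_zero] using h2
  have hk0 : 0 ≤ k := by
    have := Finset.sum_nonneg fun i (_ : i ∈ Finset.univ) => mul_self_nonneg (s i)
    omega
  have hf' : (f₀ : ℂ) = n := by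
    rw [← hdeg]; simp [Representation.char_one]
  have ht : ρ.character t = (f₀ : ℂ) - 4 * k := by
    have := hk 2
    rw [show u ^ 2 = t by rw [pow_two]; exact hf.sq u hu hu2,
      Finset.sum_congr rfl (fun i _ => hsq i), Finset.sum_sub_distrib, ← Finset.mul_sum] at this
    rw [this, show (∑ i, (s i : ℂ) ^ 2) = ((k + k : ℤ) : ℂ) by
      rw [← hk2]; push_cast; simp [pow_two]]
    simp [Module.finrank_fin_fun, hf']
    ring
  refine ⟨f₀, k, x, by exact_mod_cast hf₀, hk0, by push_cast; exact hdeg, by push_cast; exact ht,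
    hxu, ?_⟩
  -- the restriction to `P`
  haveI : Fintype (P : Subgroup G) := Fintype.ofFinite _
  obtain ⟨m, hm⟩ := CharCore.IsCharacter.exists_classInner_eq_natCast
    (CharCore.isCharacter_restrict ⟨n, ρ, rfl⟩ (P : Subgroup G))
    (CharCore.isCharacter_one (G := (P : Subgroup G)))
  have hcard : Nat.card (P : Subgroup G) = 8 := by
    rw [Nat.card_congr e.toEquiv, Nat.card_eq_fintype_card, QuaternionGroup.card]
  have hsum : ∑ q : (P : Subgroup G), ρ.character (q : G) =
      ((f₀ : ℂ) - x) + (((f₀ : ℂ) - 4 * k) - x) + 8 * x := by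
    have : ∀ q : (P : Subgroup G), ρ.character (q : G) = (if q = 1 then (f₀ : ℂ) - x else 0) +
        (if q = ⟨t, hf.mem⟩ then (f₀ : ℂ) - 4 * k - x else 0) + x := by
      intro q
      have htne : (⟨t, hf.mem⟩ : (P : Subgroup G)) ≠ 1 := fun h =>
        hu2 ((hf.sq u hu hu2).trans (congrArg Subtype.val h))
      by_cases hq : (q : G) * q = 1
      · rcases hf.sq_eq_one q q.2 hq with h | h
        · rw [if_pos (Subtype.ext h), if_neg (fun h' => htne (by
            rw [← h']; exact Subtype.ext h)), h, hdeg]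
          ring
        · rw [if_neg (fun h' => htne (by rw [← h']; exact Subtype.ext h.symm)),
            if_pos (Subtype.ext h), h, ht]
          ring
      · rw [if_neg (fun h' => hq (by simp [h'])), if_neg (fun h' => hq (by rw [h']; exact hf.sq_t)),
          ← hconj u q (hf.isConj_four hG hu hu2 q.2 hq), hxu]
        ring
    rw [Finset.sum_congr rfl (fun q _ => this q), Finset.sum_add_distrib, Finset.sum_add_distrib,
      Finset.sum_ite_eq', Finset.sum_ite_eq', Finset.sum_const, Finset.card_univ,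
      ← Nat.card_eq_fintype_card, hcard]
    simp
  rw [CharCore.classInner_def, hcard] at hm
  simp only [Pi.one_apply, map_one, mul_one] at hm
  rw [hsum] at hm
  have hZ : (f₀ : ℤ) = 4 * (m : ℤ) + 2 * k - 3 * x := by
    have : ((f₀ : ℤ) : ℂ) = ((4 * (m : ℤ) + 2 * k - 3 * x : ℤ) : ℂ) := by
      push_cast
      linear_combination 4 * hm
    exact_mod_cast this
  rw [hZ]
  push_cast
  have h4 : (4 : ZMod 4) = 0 := rfl
  linear_combination ((m : ZMod 4) - (x : ZMod 4)) * h4

/-- **Brauer–Suzuki for `Q₈`**: the involution lies in a proper normal subgroup. -/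
theorem exists_normal_of_quaternion (P : Sylow 2 G) (e : (P : Subgroup G) ≃* QuaternionGroup 2)
    {t : G} (htP : t ∈ P) (ht : orderOf t = 2) :
    ∃ N : Subgroup G, N.Normal ∧ N ≠ ⊤ ∧ t ∈ N := by
  classical
  haveI : Fact (Nat.Prime 2) := ⟨Nat.prime_two⟩
  haveI := Fintype.ofFinite G
  have hf := q8Facts e htP ht
  obtain ⟨u, hu, hu2⟩ := hf.exists_four
  obtain ⟨z, hz, hzu⟩ := hf.inverts u hu hu2
  by_cases hG : commutator G = ⊤
  swap
  · refine ⟨commutator G, inferInstance, hG, ?_⟩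
    have h := Subgroup.commutator_mem_commutator (Subgroup.mem_top u) (Subgroup.mem_top z)
    have he : ⁅u, z⁆ = t := by
      have h' : u⁻¹ = z⁻¹ * u * z := by
        calc u⁻¹ = z⁻¹ * (z * u * z⁻¹)⁻¹ * z := by group
          _ = z⁻¹ * u * z := by rw [hzu, inv_inv]
      rw [← hf.sq u hu hu2, commutatorElement_def]
      calc u * z * u⁻¹ * z⁻¹ = u * z * (z⁻¹ * u * z) * z⁻¹ := by rw [h']
        _ = u * u := by group
    rw [he] at h
    exact h
  obtain ⟨M, hM⟩ := Blocks88.exists_isPModular Nat.prime_two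
  haveI := BlocksCore.isPrime hM
  obtain ⟨K, hK, hgen⟩ := hf.sectionData hu hu2
  have hiso : ∀ g : G, g * t * g⁻¹ ∈ P → g * t * g⁻¹ = t := by
    intro g hg
    refine (hf.sq_eq_one _ hg ?_).resolve_left fun h => ?_
    · rw [show g * t * g⁻¹ * (g * t * g⁻¹) = g * (t * t) * g⁻¹ by group, hf.sq_t]; group
    · rw [conj_eq_one_iff] at h
      simp [h] at ht
  have hodd : ∀ h : G, Odd (orderOf (h⁻¹ * t * h * t)) := by
    intro h
    have := (S0216.result P t ht htP).mp hiso h⁻¹
    rw [inv_inv] at this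
    rwa [show h⁻¹ * t * h * t = t⁻¹ * (t * h⁻¹ * t⁻¹ * h) * (t⁻¹)⁻¹ by
      rw [show t⁻¹ * (t * h⁻¹ * t⁻¹ * h) * (t⁻¹)⁻¹ = h⁻¹ * t⁻¹ * h * t by group,
        Involution.inv_of_orderOf ht], Involution.orderOf_conj]
  choose f k x hfpos hk0 hdeg hta hxu hcong using exists_char_data hf hG e hu hu2
  let B := principalBlock M G
  let c : IrrCharacter G → ℤ := fun χ => if χ ∈ B then x χ else 0
  -- the class function supported on the section of `u`
  let ν : G → ℂ := fun g => ∑ a : G, ∑ j : K, if a * (u * j) * a⁻¹ = g then (1 : ℂ) else 0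
  have hν : IsClassFunction G ν := by
    intro g b
    refine Fintype.sum_equiv (Equiv.mulLeft b⁻¹) _ _ fun a => Finset.sum_congr rfl fun j _ => ?_
    refine if_congr ?_ rfl rfl
    simp only [Equiv.coe_mulLeft]
    constructor
    · intro h
      rw [show b⁻¹ * a * (u * j) * (b⁻¹ * a)⁻¹ = b⁻¹ * (a * (u * j) * a⁻¹) * b by group, h]
      group
    · intro h
      rw [← h]; group
  have hinner : ∀ χ : IrrCharacter G,
      classInner ν (χ : G → ℂ) = (Nat.card K : ℂ) * c χ := by
    intro χ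
    have h1 : ∑ g, ν g * conj ((χ : G → ℂ) g) =
        (Nat.card G : ℂ) * conj (∑ᶠ j : K, (χ : G → ℂ) (u * j)) := by
      simp only [ν, Finset.sum_mul]
      rw [Finset.sum_comm, Finset.sum_congr rfl (g := fun _ : G =>
        conj (∑ᶠ j : K, (χ : G → ℂ) (u * j)))]
      · rw [Finset.sum_const, Finset.card_univ, nsmul_eq_mul, Nat.card_eq_fintype_card]
      intro a _
      rw [Finset.sum_comm, finsum_eq_sum_of_fintype, map_sum]
      refine Finset.sum_congr rfl fun j _ => ?_
      simp [ite_mul, CharCore.irr_isClassFunction χ (u * j) a]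
    rw [CharCore.classInner_def, h1, ← mul_assoc,
      inv_mul_cancel₀ (Nat.cast_ne_zero.mpr Nat.card_pos.ne'), one_mul]
    by_cases hB : χ ∈ B
    · rw [finsum_eq_sum_of_fintype,
        Finset.sum_congr rfl (fun (j : K) _ => apply_mul_eq hM hK hB (v := (j : G)) j.2),
        Finset.sum_const, Finset.card_univ, ← Nat.card_eq_fintype_card, nsmul_eq_mul, hxu]
      simp [c, hB]
    · rw [sum_eq_zero_of_notMem hM hK hgen hB]
      simp [c, hB]
  have hexp : ∀ g, ν g = (Nat.card K : ℂ) * ∑ χ : IrrCharacter G, (c χ : ℂ) * (χ : G → ℂ) g := by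
    intro g
    have h := congrFun (CharCore.eq_sum_classInner hν) g
    rw [h, Finset.sum_apply, Finset.mul_sum]
    exact Finset.sum_congr rfl fun χ _ => by rw [Pi.smul_apply, hinner, smul_eq_mul, mul_assoc]
  have hKne : (Nat.card K : ℂ) ≠ 0 := Nat.cast_ne_zero.mpr Nat.card_pos.ne'
  have hjodd : ∀ j : K, Odd (orderOf (j : G)) := fun j =>
    Nat.not_even_iff_odd.mp fun he => hK.coprime
      ((even_iff_two_dvd.mp he).trans (Subgroup.orderOf_dvd_natCard K j.2))
  have hju : ∀ j : K, Commute u (j : G) := fun j =>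
    (Subgroup.mem_centralizer_singleton_iff.mp (hK.le j.2)).symm
  have hν0 : ∀ g, ¬ 4 ∣ orderOf g → ν g = 0 := by
    intro g hg
    refine Finset.sum_eq_zero fun a _ => Finset.sum_eq_zero fun j _ => if_neg fun h => hg ?_
    rw [← h, Involution.orderOf_conj, (hju j).orderOf_mul_eq_mul_orderOf_of_coprime (by
      rw [hf.orderOf_four hu hu2, show 4 = 2 ^ 2 from rfl]
      exact Nat.Coprime.pow_left 2 (Nat.coprime_two_left.mpr (hjodd j))), hf.orderOf_four hu hu2]
    exact dvd_mul_right _ _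
  have hνu : ν u = (Nat.card K : ℂ) * 4 := by
    have hone : ∀ (a : G) (j : K), a * (u * j) * a⁻¹ = u ↔
        a ∈ Subgroup.centralizer ({u} : Set G) ∧ j = 1 := by
      intro a j
      constructor
      · intro h
        have h4 : (j : G) ^ 4 = 1 := by
          have h5 : (u * j) ^ 4 = 1 := by
            rw [← conj_eq_one_iff (a := a), ← conj_pow, h, ← hf.orderOf_four hu hu2,
              pow_orderOf_eq_one]
          rw [(hju j).mul_pow, ← hf.orderOf_four hu hu2, pow_orderOf_eq_one, one_mul,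
            hf.orderOf_four hu hu2] at h5
          exact h5
        have h6 : (j : G) = 1 := by
          rw [← orderOf_eq_one_iff]
          have h7 := orderOf_dvd_of_pow_eq_one h4
          exact Nat.eq_one_of_dvd_coprimes (show (2 ^ 2).Coprime (orderOf (j : G)) from
            Nat.Coprime.pow_left 2 (Nat.coprime_two_left.mpr (hjodd j))) h7 dvd_rfl
        refine ⟨?_, Subtype.ext h6⟩
        rw [h6, mul_one] at h
        rw [Subgroup.mem_centralizer_singleton_iff]
        exact mul_inv_eq_iff_eq_mul.mp h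
      · rintro ⟨h, rfl⟩
        rw [Subgroup.coe_one, mul_one]
        exact mul_inv_eq_iff_eq_mul.mpr (Subgroup.mem_centralizer_singleton_iff.mp h)
    simp only [ν, hone, ite_and, Finset.sum_ite_irrel, Finset.sum_ite_eq', Finset.mem_univ,
      if_true, Finset.sum_const_zero]
    rw [Finset.sum_boole]
    norm_cast
    -- the centralizer has order `4 |K|`
    have hcc : Nat.card (Subgroup.centralizer ({u} : Set G)) =
        Nat.card (Subgroup.zpowers u) * Nat.card K := by
      rw [← Nat.card_prod]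
      refine (Nat.card_eq_of_bijective (fun q : Subgroup.zpowers u × K =>
        (⟨(q.1 : G) * q.2, mul_mem (Subgroup.zpowers_le.mpr
          (Subgroup.mem_centralizer_singleton_iff.mpr rfl) q.1.2) (hK.le q.2.2)⟩ :
          Subgroup.centralizer ({u} : Set G))) ⟨fun q q' h => ?_, fun g => ?_⟩).symm
      · have h' : ((q'.1 : G))⁻¹ * q.1 = (q'.2 : G) * (q.2 : G)⁻¹ := by
          have := congrArg Subtype.val h
          calc ((q'.1 : G))⁻¹ * q.1 = (q'.1 : G)⁻¹ * ((q.1 : G) * q.2) * (q.2 : G)⁻¹ := by group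
            _ = _ := by rw [show (q.1 : G) * q.2 = q'.1 * q'.2 from this]; group
        have hbot : ((q'.1 : G))⁻¹ * q.1 = 1 := by
          rw [← orderOf_eq_one_iff]
          refine Nat.eq_one_of_dvd_coprimes (a := 2 ^ 2) (b := Nat.card K)
            (Nat.Coprime.pow_left 2 (Nat.prime_two.coprime_iff_not_dvd.mpr hK.coprime)) ?_ ?_
          · refine (Subgroup.orderOf_dvd_natCard _ (mul_mem (inv_mem q'.1.2) q.1.2)).trans ?_
            rw [Nat.card_zpowers, hf.orderOf_four hu hu2]
          · rw [h']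
            exact Subgroup.orderOf_dvd_natCard _ (mul_mem q'.2.2 (inv_mem q.2.2))
        have h1 : q.1 = q'.1 := Subtype.ext (inv_mul_eq_one.mp hbot).symm
        rw [hbot] at h'
        exact Prod.ext h1 (Subtype.ext (mul_inv_eq_one.mp h'.symm).symm)
      · obtain ⟨i, j, hj, hij⟩ := hgen g g.2
        exact ⟨(⟨u ^ i, pow_mem (Subgroup.mem_zpowers u) i⟩, ⟨j, hj⟩), Subtype.ext hij.symm⟩
    rw [Nat.card_zpowers, hf.orderOf_four hu hu2, Nat.card_eq_fintype_card,
      Fintype.card_subtype] at hcc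
    rw [hcc, mul_comm]
  -- the equations
  have ht2 : ¬ 4 ∣ orderOf t := by rw [ht]; decide
  have e1 : ∑ χ, (c χ : ℂ) * (f χ : ℂ) = 0 := by
    have h := hexp 1
    rw [hν0 1 (by simp)] at h
    simp only [hdeg] at h
    exact (mul_eq_zero.mp h.symm).resolve_left hKne
  have e2 : ∑ χ, (c χ : ℂ) * ((f χ : ℂ) - 4 * k χ) = 0 := by
    have h := hexp t
    rw [hν0 t ht2] at h
    simp only [hta] at h
    exact (mul_eq_zero.mp h.symm).resolve_left hKne
  have e3 : ∑ χ, c χ * c χ = 4 := by
    have h := hexp u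
    rw [hνu] at h
    have h' := mul_left_cancel₀ hKne h
    have h'' : ((∑ χ, c χ * c χ : ℤ) : ℂ) = ((4 : ℤ) : ℂ) := by
      push_cast
      rw [h']
      refine Finset.sum_congr rfl fun χ _ => ?_
      by_cases hB : χ ∈ B <;> simp [c, hB, hxu]
    exact_mod_cast h''
  have e4 : ∑ χ, (c χ : ℂ) * (((f χ : ℂ) - 4 * k χ) ^ 2 / f χ) = 0 := by
    have h0 : ∑ h : G, ∑ χ : IrrCharacter G, (c χ : ℂ) * (χ : G → ℂ) (h⁻¹ * t * h * t) = 0 := by
      refine Finset.sum_eq_zero fun h _ => ?_
      have h1 := hexp (h⁻¹ * t * h * t)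
      rw [hν0 _ (fun h4 => Nat.not_even_iff_odd.mpr (hodd h)
        (even_iff_two_dvd.mpr ((by norm_num : 2 ∣ 4).trans h4)))] at h1
      exact (mul_eq_zero.mp h1.symm).resolve_left hKne
    rw [Finset.sum_comm] at h0
    simp only [← Finset.mul_sum, BlocksCore.sum_char_conj_mul, hta, hdeg] at h0
    refine (mul_eq_zero.mp (?_ : (Nat.card G : ℂ) * _ = 0)).resolve_left
      (Nat.cast_ne_zero.mpr Nat.card_pos.ne')
    rw [Finset.mul_sum, ← h0]
    exact Finset.sum_congr rfl fun χ _ => by ring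
  -- the trivial character
  let one : IrrCharacter G := ⟨fun _ => 1, CharCore.isIrrCharacter_one⟩
  have hf1 : f one = 1 := by
    have := hdeg one; simp only [one] at this; exact_mod_cast this.symm
  have hk1 : k one = 0 := by
    have := hta one; simp only [one] at this
    rw [show f ⟨fun _ => 1, CharCore.isIrrCharacter_one⟩ = 1 from hf1] at this
    push_cast at this
    have h' : ((k one : ℤ) : ℂ) = 0 := by linear_combination this / 4
    exact_mod_cast h'
  have hc1 : c one = 1 := by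
    have hB : one ∈ B := BlocksCore.sameBlock_refl _
    have := hxu one; simp only [one] at this
    simp only [c, hB, if_true]
    exact_mod_cast this.symm
  set A := (Finset.univ.filter fun χ => c χ ≠ 0).erase one with hA
  have split : ∀ F : IrrCharacter G → ℂ, ∑ χ, (c χ : ℂ) * F χ =
      F one + ∑ χ ∈ A, (c χ : ℂ) * F χ := by
    intro F
    rw [← Finset.add_sum_erase _ _ (Finset.mem_univ one), hc1, Int.cast_one, one_mul]
    congr 1
    refine (Finset.sum_subset ?_ ?_).symm
    · intro χ hχ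
      simp only [A, Finset.mem_erase, Finset.mem_filter] at hχ
      exact Finset.mem_erase.mpr ⟨hχ.1, Finset.mem_univ _⟩
    · intro χ h1 h2
      simp only [A, Finset.mem_erase, Finset.mem_filter, Finset.mem_univ, true_and, not_and,
        not_not] at h2
      simp [h2 (Finset.mem_erase.mp h1).1]
  have hsq3 : ∑ χ ∈ A, c χ * c χ = 3 := by
    have h := split fun χ => (c χ : ℂ)
    have h' : ((∑ χ, c χ * c χ : ℤ) : ℂ) = ((1 + ∑ χ ∈ A, c χ * c χ : ℤ) : ℂ) := by
      push_cast; rw [h, hc1]; simp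
    have := Int.cast_injective h'
    rw [e3] at this
    linarith
  have hA0 : ∀ χ ∈ A, c χ ≠ 0 := fun χ hχ =>
    (Finset.mem_filter.mp (Finset.mem_erase.mp hχ).2).2
  have hA1 : ∀ χ ∈ A, c χ = 1 ∨ c χ = -1 := by
    intro χ hχ
    have h := Finset.single_le_sum (fun i _ => mul_self_nonneg (c i)) hχ
    rw [hsq3] at h
    have h0 := hA0 χ hχ
    have : -1 ≤ c χ ∧ c χ ≤ 1 := by constructor <;> nlinarith
    omega
  have hcard : A.card = 3 := by
    have : ∑ χ ∈ A, c χ * c χ = (A.card : ℤ) := by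
      rw [Finset.card_eq_sum_ones, Nat.cast_sum]
      exact Finset.sum_congr rfl fun χ hχ => by rcases hA1 χ hχ with h | h <;> simp [h]
    omega
  obtain ⟨a, b, d, hab, had, hbd, hAabd⟩ := Finset.card_eq_three.mp hcard
  have split3 : ∀ F : IrrCharacter G → ℂ, ∑ χ, (c χ : ℂ) * F χ =
      F one + ((c a : ℂ) * F a + (c b : ℂ) * F b + (c d : ℂ) * F d) := by
    intro F
    rw [split, hAabd, Finset.sum_insert (by simp [hab, had]), Finset.sum_pair hbd]
    ring
  have ha : a ∈ A := by rw [hAabd]; simp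
  have hb : b ∈ A := by rw [hAabd]; simp
  have hd : d ∈ A := by rw [hAabd]; simp
  have hcB : ∀ χ ∈ A, c χ = x χ := fun χ hχ => by
    by_cases hB : χ ∈ B
    · simp [c, hB]
    · exact absurd (by simp [c, hB]) (hA0 χ hχ)
  rw [split3, hf1] at e1
  rw [split3, hf1, hk1] at e2
  rw [split3, hf1, hk1] at e4
  have z1 : c a * f a + c b * f b + c d * f d = -1 := by
    have : ((c a * f a + c b * f b + c d * f d : ℤ) : ℂ) = ((-1 : ℤ) : ℂ) := by
      push_cast at e1 ⊢; linear_combination e1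
    exact_mod_cast this
  have z2 : c a * k a + c b * k b + c d * k d = 0 := by
    have : ((c a * k a + c b * k b + c d * k d : ℤ) : ℂ) = ((0 : ℤ) : ℂ) := by
      push_cast at e1 e2 ⊢; linear_combination (e1 - e2) / 4
    exact_mod_cast this
  have hne : ∀ χ, (f χ : ℂ) ≠ 0 := fun χ => Int.cast_ne_zero.mpr (hfpos χ).ne'
  have z3 : c a * (k a ^ 2 * (f b * f d)) + c b * (k b ^ 2 * (f a * f d)) +
      c d * (k d ^ 2 * (f a * f b)) = 0 := by
    have hq : ∀ χ, ((f χ : ℂ) - 4 * k χ) ^ 2 / f χ = f χ - 8 * k χ + 16 * ((k χ : ℂ) ^ 2 / f χ) :=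
      fun χ => by have := hne χ; field_simp; ring
    have h2 : ((c a : ℂ) * k a + c b * k b + c d * k d) = 0 := by exact_mod_cast z2
    simp only [hq] at e4
    have h3 : (c a : ℂ) * ((k a : ℂ) ^ 2 / f a) + c b * ((k b : ℂ) ^ 2 / f b) +
        c d * ((k d : ℂ) ^ 2 / f d) = 0 := by
      push_cast at e1 e4
      linear_combination (e4 - e1 + 8 * h2) / 16
    have : ((c a * (k a ^ 2 * (f b * f d)) + c b * (k b ^ 2 * (f a * f d)) +
        c d * (k d ^ 2 * (f a * f b)) : ℤ) : ℂ) = ((0 : ℤ) : ℂ) := by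
      have := hne a; have := hne b; have := hne d
      field_simp at h3
      push_cast
      linear_combination h3
    exact_mod_cast this
  have hker : ∀ χ : IrrCharacter G, χ ≠ one → k χ = 0 →
      ∃ N : Subgroup G, N.Normal ∧ N ≠ ⊤ ∧ t ∈ N := by
    intro χ hχ hk
    refine ⟨CharCore.charKernel (CharCore.irr_isCharacter χ), inferInstance, fun htop => ?_,
      (CharCore.mem_charKernel _ t).mpr (by rw [hta, hdeg, hk]; simp)⟩
    have hall : ∀ g, (χ : G → ℂ) g = (f χ : ℂ) := fun g => by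
      rw [← hdeg]
      exact (CharCore.mem_charKernel (CharCore.irr_isCharacter χ) g).mp (htop ▸ Subgroup.mem_top g)
    have h0 := CharCore.classInner_irr_of_ne hχ
    simp only [CharCore.classInner_def, hall, one, map_one, mul_one, Finset.sum_const,
      Finset.card_univ, nsmul_eq_mul, ← Nat.card_eq_fintype_card] at h0
    rw [← mul_assoc, inv_mul_cancel₀ (Nat.cast_ne_zero.mpr Nat.card_pos.ne'), one_mul] at h0
    exact hne χ h0
  have hneone : ∀ χ ∈ A, χ ≠ one := fun χ hχ => (Finset.mem_erase.mp hχ).1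
  rcases arith_three (hfpos a) (hfpos b) (hfpos d) (hk0 a) (hk0 b) (hk0 d) (hA1 a ha) (hA1 b hb)
    (hA1 d hd) (by rw [hcB a ha]; exact hcong a) (by rw [hcB b hb]; exact hcong b)
    (by rw [hcB d hd]; exact hcong d) z1 z2 z3 with h | h | h
  exacts [hker a (hneone a ha) h, hker b (hneone b hb) h, hker d (hneone d hd) h]

end Cfsg.Agent.ZStar
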