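import Cfsg.Agent.ZStar.OddComm
import Cfsg.Agent.ZStar.Quaternion
import Cfsg.Agent.Lib.BlocksCore.WeakOrth
import Cfsg.Agent.S0016
import Cfsg.Agent.S0847

/-!
# Glauberman's Z*-theorem
-/

set_option autoImplicit false

open Cfsg
open scoped ComplexConjugate

namespace Cfsg.Agent.ZStar

universe v

variable {G : Type v} [Group G] [Finite G]

theorem class_apply_of_isConj {χ : G → ℂ} (hχ : IsClassFunction G χ) {a b : G} (h : IsConj a b) :
    χ a = χ b := by
  obtain ⟨c, rfl⟩ := isConj_iff.mp h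
  exact (hχ a c).symm

/-- In the principal block, `χ (s * u') = χ (s * u)` for every conjugate `u'` of `u`. -/
theorem apply_mul_conj_eq {M : Ideal AlgInt} (hM : IsPModular 2 M) {u s : G}
    (hu : orderOf u = 2) (hiso : OddComm u) (hs : orderOf s = 2) (hnc : ¬ IsConj u s)
    (hcomm : Commute u s) (hz : s * u ∉ Subgroup.center G)
    (IH : ∀ (H : Type v) [Group H] [Finite H], Nat.card H < Nat.card G → HasZStar H)
    {χ : IrrCharacter G} (hχ : χ ∈ principalBlock M G) (g : G) :
    (χ : G → ℂ) (s * (g * u * g⁻¹)) = (χ : G → ℂ) (s * u) := by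
  haveI : Fact (Nat.Prime 2) := ⟨Nat.prime_two⟩
  haveI := Fintype.ofFinite G
  classical
  generalize hu'def : g * u * g⁻¹ = u'
  have hu' : orderOf u' = 2 := by rw [← hu'def, Involution.orderOf_conj, hu]
  have hiso' : OddComm u' := hu'def ▸ hiso.conj g
  have hs2 := Involution.mul_self_of_orderOf hs
  have hu'2 := Involution.mul_self_of_orderOf hu'
  set r := s * u' with hr
  have hncu' : ¬ IsConj s u' := fun h => hnc ((isConj_iff.mpr ⟨g, hu'def⟩).trans h.symm)
  have heven : Even (orderOf r) :=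
    Nat.not_odd_iff_even.mp fun h => hncu' (Involution.isConj_of_odd hs hu' h)
  obtain ⟨m, hm⟩ := heven
  have hhalf : orderOf r / 2 = m := by omega
  have hz2 : orderOf (r ^ m) = 2 := by
    rw [← hhalf]; exact Involution.orderOf_pow_half ⟨m, hm⟩ (orderOf_pos r).ne'
  have hzu : Commute (r ^ m) u' := by
    rw [← hhalf]; exact Involution.commute_pow_half_right hs2 hu'2 ⟨m, hm⟩
  have hzs : Commute (r ^ m) s := by
    rw [← hhalf]; exact Involution.commute_pow_half_left hs2 hu'2 ⟨m, hm⟩
  -- `r ^ j * u' * r ^ (-j) = r ^ (2 j) * u'`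
  have hinv : u' * r * u'⁻¹ = r⁻¹ := by
    rw [hr, mul_inv_rev, Involution.inv_of_orderOf hu', Involution.inv_of_orderOf hs, mul_assoc,
      mul_assoc, hu'2, mul_one]
  have hconjr : ∀ j : ℕ, r ^ j * u' * (r ^ j)⁻¹ = r ^ (2 * j) * u' := by
    intro j
    have h1 := Involution.mul_zpow_of_inverts hinv (-(j : ℤ))
    rw [neg_neg, zpow_neg, zpow_natCast] at h1
    rw [mul_assoc, h1, ← mul_assoc, ← pow_add, two_mul]
  have hmodd : Odd m := by
    by_contra h
    obtain ⟨j, rfl⟩ := Nat.not_odd_iff_even.mp h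
    have hc : IsConj u' (r ^ (j + j) * u') := isConj_iff.mpr ⟨r ^ j, by rw [hconjr, two_mul]⟩
    have h1 := hiso'.eq_of_commute hu' hc (hzu.symm.mul_right (Commute.refl u'))
    exact Involution.ne_one_of_orderOf hz2 (mul_eq_right.mp h1)
  obtain ⟨j, hj⟩ := hmodd
  -- the commuting conjugate `v = s * r ^ m` of `u`
  set v := r ^ m * s with hv
  have hconjv : IsConj u' v := isConj_iff.mpr ⟨r ^ (j + 1), by
    rw [hconjr, hv, show 2 * (j + 1) = m + 1 by omega, pow_succ, hr, mul_assoc (_ ^ m),
      mul_assoc s, hu'2, mul_one]⟩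
  have huv : IsConj u v := (isConj_iff.mpr ⟨g, hu'def⟩).trans hconjv
  have hvs : Commute v s := (hzs.mul_left (Commute.refl s))
  have hv2 : orderOf v = 2 := by
    obtain ⟨c, hc⟩ := isConj_iff.mp huv
    rw [← hc, Involution.orderOf_conj, hu]
  obtain ⟨c, hc⟩ := isConj_iff.mp huv
  obtain ⟨k, hk⟩ := Involution.exists_conj_of_odd (x := u) (y := v)
    (Involution.mul_self_of_orderOf hu) (Involution.mul_self_of_orderOf hv2)
    (hc ▸ hiso.mul_odd hu c)
  set d := (u * v) ^ k with hd
  have hds : Commute d s := (hcomm.mul_left hvs).zpow_left k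
  have hzconj : d * (s * u) * d⁻¹ = r ^ m := by
    calc d * (s * u) * d⁻¹ = (d * s * d⁻¹) * (d * u * d⁻¹) := by group
      _ = s * v := by rw [hds.eq, mul_inv_cancel_right, hk]
      _ = r ^ m := by rw [hv, hzs.eq, ← mul_assoc, hs2, one_mul]
  have hznc : Subgroup.centralizer ({r ^ m} : Set G) ≠ ⊤ := by
    intro htop
    refine hz (Subgroup.mem_center_iff.mpr fun x => ?_)
    have h1 := Subgroup.mem_centralizer_singleton_iff.mp
      (htop ▸ Subgroup.mem_top (d * x * d⁻¹) : d * x * d⁻¹ ∈ Subgroup.centralizer ({r ^ m} : Set G))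
    rw [← hzconj] at h1
    have h2 : d * (x * (s * u)) * d⁻¹ = d * (s * u * x) * d⁻¹ := by
      calc d * (x * (s * u)) * d⁻¹ = d * x * d⁻¹ * (d * (s * u) * d⁻¹) := by group
        _ = _ := h1
        _ = d * (s * u * x) * d⁻¹ := by group
    exact mul_left_cancel (mul_right_cancel h2)
  set C := Subgroup.centralizer ({r ^ m} : Set G) with hC
  have hu'C : u' ∈ C := Subgroup.mem_centralizer_singleton_iff.mpr hzu.eq.symm
  have hsC : s ∈ C := Subgroup.mem_centralizer_singleton_iff.mpr hzs.eq.symm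
  obtain ⟨N, hN, hNodd, hNc⟩ := IH C (card_lt_of_ne_top hznc) ⟨u', hu'C⟩
    (by rw [Subgroup.orderOf_mk, hu']) (hiso'.restrict C hu'C)
  have hdata : SectionData 2 (r ^ m) (N.map C.subtype) := by
    refine ⟨⟨1, by rw [pow_one, hz2]⟩, Subgroup.map_subtype_le _, ?_, ?_⟩
    · intro c hc
      rw [Subgroup.mem_normalizer_iff]
      intro x
      constructor
      · rintro ⟨y, hy, rfl⟩
        exact ⟨⟨c, hc⟩ * y * ⟨c, hc⟩⁻¹, hN.conj_mem y hy _, by simp⟩
      · rintro ⟨y, hy, hye⟩
        refine ⟨⟨c, hc⟩⁻¹ * y * ⟨c, hc⟩, by simpa using hN.conj_mem y hy ⟨c, hc⟩⁻¹, ?_⟩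
        simp only [Subgroup.coe_subtype, Subgroup.coe_mul, InvMemClass.coe_inv] at hye ⊢
        rw [hye]; group
    · rw [Subgroup.card_map_of_injective (Subgroup.subtype_injective _)]
      exact fun h => Nat.not_even_iff_odd.mpr hNodd (even_iff_two_dvd.mpr h)
  have hr2 : r ^ (2 : ℤ) ∈ N.map C.subtype := by
    refine ⟨_, inv_mem (hNc ⟨s, hsC⟩), ?_⟩
    simp only [Subgroup.coe_subtype, InvMemClass.coe_inv, Subgroup.coe_mul]
    rw [hr, Involution.inv_of_orderOf hs, Involution.inv_of_orderOf hu', zpow_two, mul_inv_rev,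
      mul_inv_rev, mul_inv_rev, Involution.inv_of_orderOf hs, Involution.inv_of_orderOf hu']
    simp [mul_assoc]
  have hw : (r ^ m)⁻¹ * r ∈ N.map C.subtype := by
    have h1 : (r ^ m)⁻¹ * r = (r ^ (2 : ℤ)) ^ (-(j : ℤ)) := by
      rw [← zpow_mul, hj, ← zpow_natCast, ← zpow_neg, ← zpow_add_one]
      congr 1
      push_cast
      ring
    rw [h1]
    exact Subgroup.zpow_mem _ hr2 _
  have h := apply_mul_eq hM hdata hχ hw
  rw [mul_inv_cancel_left] at h
  rw [h]
  exact (class_apply_of_isConj (CharCore.irr_isClassFunction χ)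
    (isConj_iff.mpr ⟨d, hzconj⟩)).symm

/-- The product formula `χ(s u) χ(1) = χ(s) χ(u)` in the principal block. -/
theorem apply_mul_degree {M : Ideal AlgInt} (hM : IsPModular 2 M) {u s : G}
    (hu : orderOf u = 2) (hiso : OddComm u) (hs : orderOf s = 2) (hnc : ¬ IsConj u s)
    (hcomm : Commute u s) (hz : s * u ∉ Subgroup.center G)
    (IH : ∀ (H : Type v) [Group H] [Finite H], Nat.card H < Nat.card G → HasZStar H)
    {χ : IrrCharacter G} (hχ : χ ∈ principalBlock M G) :
    (χ : G → ℂ) (s * u) * (χ : G → ℂ) 1 = (χ : G → ℂ) u * (χ : G → ℂ) s := by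
  haveI := Fintype.ofFinite G
  classical
  have h := BlocksCore.sum_char_conj_mul χ u s
  have h1 : ∀ x : G, (χ : G → ℂ) (x⁻¹ * u * x * s) = (χ : G → ℂ) (s * u) := by
    intro x
    rw [← apply_mul_conj_eq hM hu hiso hs hnc hcomm hz IH hχ x⁻¹, inv_inv]
    exact class_apply_of_isConj (CharCore.irr_isClassFunction χ)
      (isConj_iff.mpr ⟨s, by group⟩)
  rw [Finset.sum_congr rfl (fun x _ => h1 x), Finset.sum_const, Finset.card_univ,
    ← Nat.card_eq_fintype_card, nsmul_eq_mul, eq_div_iff (CharCore.irr_apply_one_ne_zero χ),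
    mul_assoc, mul_assoc] at h
  exact mul_left_cancel₀ (Nat.cast_ne_zero.mpr Nat.card_pos.ne') h

/-- Another class of involutions makes `u` central. -/
theorem central_of_two_classes (hO : pPrimeCore 2 G = ⊥) {u s : G} (hu : orderOf u = 2)
    (hiso : OddComm u) (hs : orderOf s = 2) (hnc : ¬ IsConj u s) (hcomm : Commute u s)
    (IH : ∀ (H : Type v) [Group H] [Finite H], Nat.card H < Nat.card G → HasZStar H) :
    u ∈ Subgroup.center G := by
  haveI : Fact (Nat.Prime 2) := ⟨Nat.prime_two⟩
  haveI := Fintype.ofFinite G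
  classical
  by_contra hu_nc
  have hsu_ne : s * u ≠ 1 := fun h => hnc (by
    rw [mul_eq_one_iff_eq_inv.mp h, Involution.inv_of_orderOf hu])
  have hu2 := Involution.mul_self_of_orderOf hu
  have hsu : orderOf (s * u) = 2 := Involution.orderOf_eq_two_iff'.mpr ⟨by
    rw [mul_assoc, ← mul_assoc u s, hcomm.eq, mul_assoc, hu2, mul_one,
      Involution.mul_self_of_orderOf hs], hsu_ne⟩
  have hcomm' : Commute u (s * u) := hcomm.mul_right (Commute.refl u)
  have hnc' : ¬ IsConj u (s * u) := fun h =>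
    Involution.ne_one_of_orderOf hs (mul_eq_right.mp (hiso.eq_of_commute hu h hcomm'))
  have hcs : s ∉ Subgroup.center G := fun h =>
    hu_nc (central_of_central hO hu hiso hs h (fun e => hnc (e ▸ IsConj.refl _)) IH)
  have hcsu : s * u ∉ Subgroup.center G := fun h =>
    hu_nc (central_of_central hO hu hiso hsu h
      (fun e => Involution.ne_one_of_orderOf hs (mul_eq_right.mp e)) IH)
  obtain ⟨M, hM⟩ := Blocks88.exists_isPModular Nat.prime_two
  haveI := BlocksCore.isPrime hM
  let one : IrrCharacter G := ⟨fun _ => 1, CharCore.isIrrCharacter_one⟩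
  have hB : IsPBlock M (principalBlock M G) := ⟨one, rfl⟩
  have hkey : ∀ χ ∈ principalBlock M G, χ ≠ one →
      (χ : G → ℂ) s + (χ : G → ℂ) (s * u) = 0 := by
    intro χ hχ hne
    have e1 := apply_mul_degree hM hu hiso hs hnc hcomm hcsu IH hχ
    have e2 := apply_mul_degree hM hu hiso hsu hnc' hcomm'
      (by rwa [mul_assoc, hu2, mul_one]) IH hχ
    rw [mul_assoc, hu2, mul_one] at e2
    have hf := CharCore.irr_apply_one_ne_zero χ
    have hd : (χ : G → ℂ) 1 - (χ : G → ℂ) u ≠ 0 := by
      intro h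
      have hk := (sub_eq_zero.mp h).symm
      have hker : (CharCore.charKernel (CharCore.irr_isCharacter χ)) ≠ ⊤ := by
        intro htop
        have hall : ∀ x, (χ : G → ℂ) x = (χ : G → ℂ) 1 := fun x =>
          (CharCore.mem_charKernel (CharCore.irr_isCharacter χ) x).mp (htop ▸ Subgroup.mem_top x)
        have h0 := CharCore.classInner_irr_of_ne hne
        simp only [CharCore.classInner_def, hall, one, map_one, mul_one, Finset.sum_const,
          Finset.card_univ, nsmul_eq_mul, ← Nat.card_eq_fintype_card] at h0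
        rw [← mul_assoc, inv_mul_cancel₀ (Nat.cast_ne_zero.mpr Nat.card_pos.ne'), one_mul] at h0
        exact hf h0
      exact hu_nc (central_of_normal hO hu hiso (IH _ (card_lt_of_ne_top hker))
        ((CharCore.mem_charKernel _ u).mpr hk))
    exact (mul_eq_zero.mp (show ((χ : G → ℂ) 1 - (χ : G → ℂ) u) *
      ((χ : G → ℂ) s + (χ : G → ℂ) (s * u)) = 0 by linear_combination e1 + e2)).resolve_left hd
  have h1 := BlocksCore.weakOrth hM hB (x := (1 : G)) (y := s)
    (by rw [orderOf_one]; decide) (by rw [hs])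
  have h2 := BlocksCore.weakOrth hM hB (x := (1 : G)) (y := s * u)
    (by rw [orderOf_one]; decide) (by rw [hsu])
  rw [finsum_mem_eq_toFinset_sum] at h1 h2
  have h3 := congrArg₂ (· + ·) h1 h2
  simp only [← Finset.sum_add_distrib, ← mul_add, ← map_add, add_zero] at h3
  rw [Finset.sum_eq_single one] at h3
  · norm_num [one, Complex.ext_iff] at h3
  · intro χ hχ hne
    rw [hkey χ (Set.mem_toFinset.mp hχ) hne, map_zero, mul_zero]
  · intro h
    exact absurd (Set.mem_toFinset.mpr (BlocksCore.sameBlock_refl _)) h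

/-- One class of involutions: the Sylow 2-subgroup is cyclic or quaternion. -/
theorem central_of_one_class (hO : pPrimeCore 2 G = ⊥) {u : G} (hu : orderOf u = 2)
    (hiso : OddComm u) (hall : ∀ s : G, orderOf s = 2 → IsConj u s)
    (IH : ∀ (H : Type v) [Group H] [Finite H], Nat.card H < Nat.card G → HasZStar H) :
    u ∈ Subgroup.center G := by
  haveI : Fact (Nat.Prime 2) := ⟨Nat.prime_two⟩
  obtain ⟨P, hP⟩ : ∃ P : Sylow 2 G, u ∈ P := by
    have hp : IsPGroup 2 (Subgroup.zpowers u) :=
      IsPGroup.of_card (n := 1) (by rw [Nat.card_zpowers, hu]; norm_num)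
    obtain ⟨P, hP⟩ := hp.exists_le_sylow
    exact ⟨P, hP (Subgroup.mem_zpowers u)⟩
  have huniq : ∀ x ∈ P, orderOf x = 2 → x = u := by
    intro x hx hx2
    obtain ⟨g, hg⟩ := isConj_iff.mp (hall x hx2)
    have hcx : Commute u x := mul_inv_eq_iff_eq_mul.mp (hiso.isolated hu P.2 hP hx) |>.symm
    exact hiso.eq_of_commute hu (hall x hx2) hcx
  have huniq' : ∀ H K : Subgroup (P : Subgroup G), Nat.card H = 2 → Nat.card K = 2 → H = K := by
    intro H K hH hK
    have key : ∀ H : Subgroup (P : Subgroup G), Nat.card H = 2 → ∀ x ∈ H, x = 1 ∨ (x : G) = u := by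
      intro H hH x hx
      rcases (Nat.dvd_prime Nat.prime_two).mp (hH ▸ Subgroup.orderOf_dvd_natCard H hx) with h | h
      · exact Or.inl (orderOf_eq_one_iff.mp h)
      · exact Or.inr (huniq x x.2 (by rw [Subgroup.orderOf_coe, h]))
    have sub : ∀ H K : Subgroup (P : Subgroup G), Nat.card H = 2 → Nat.card K = 2 → H ≤ K := by
      intro H K hH hK x hx
      rcases key H hH x hx with h | h
      · rw [h]; exact one_mem K
      · obtain ⟨y, hy, hy1⟩ := (Subgroup.ne_bot_iff_exists_ne_one.mp (fun e : K = ⊥ => by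
          rw [e, Subgroup.card_bot] at hK; omega) |> fun ⟨y, hy⟩ => (⟨(y : _), y.2,
            fun e => hy (Subtype.ext e)⟩ : ∃ y, y ∈ K ∧ y ≠ 1))
        rcases key K hK y hy with h' | h'
        · exact absurd h' hy1
        · rwa [Subtype.ext (h.trans h'.symm) (a1 := x) (a2 := y)]
    exact le_antisymm (sub H K hH hK) (sub K H hK hH)
  have heven : Even (Nat.card G) := even_iff_two_dvd.mpr (hu ▸ orderOf_dvd_natCard u)
  have hcyclic : IsCyclic (P : Subgroup G) → u ∈ Subgroup.center G := by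
    intro hc
    obtain ⟨H, hH⟩ := Involution.exists_index_two_of_cyclic_sylow heven P hc
    haveI := Subgroup.normal_of_index_eq_two hH
    rcases Nat.even_or_odd (Nat.card H) with hev | hodd
    · obtain ⟨x, hxH, hx⟩ := Involution.exists_involution_of_even hev
      obtain ⟨g, hg⟩ := isConj_iff.mp (hall x hx)
      have huH : u ∈ H := by
        rw [show u = g⁻¹ * x * g⁻¹⁻¹ by rw [← hg]; group]
        exact Subgroup.Normal.conj_mem inferInstance x hxH _
      refine central_of_normal hO hu hiso (IH H (card_lt_of_ne_top ?_)) huH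
      intro e
      rw [e, Subgroup.index_top] at hH
      omega
    · have h2 : Nat.card G = 2 := by
        rw [← H.card_mul_index, hH, le_bot_of_odd_of_core hO hodd, Subgroup.card_bot]
      haveI := isCyclic_of_prime_card h2
      letI : CommGroup G := IsCyclic.commGroup
      exact Subgroup.mem_center_iff.mpr fun g => mul_comm g u
  rcases S0016.result 2 P.2 huniq' with hc | ⟨-, n, ⟨e⟩⟩
  · exact hcyclic hc
  match n, e with
  | 0, e =>
    haveI : IsCyclic (QuaternionGroup (2 ^ 0)) := QuaternionGroup.quaternionGroup_one_isCyclic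
    exact hcyclic (isCyclic_of_surjective e.symm.toMonoidHom e.symm.surjective)
  | 1, e =>
    obtain ⟨N, hN, hNne, huN⟩ := exists_normal_of_quaternion P e hP hu
    exact central_of_normal hO hu hiso (IH N (card_lt_of_ne_top hNne)) huN
  | n + 2, e =>
    have hZ := S0847.result P n e fun N hN hodd => le_bot_of_odd_of_core hO hodd
    obtain ⟨x, hxc, hx⟩ := Involution.exists_involution_of_even (H := Subgroup.center G)
      (by rw [hZ]; exact even_two)
    obtain ⟨g, hg⟩ := isConj_iff.mp (hall x hx)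
    rw [show u = g⁻¹ * x * g⁻¹⁻¹ by rw [← hg]; group]
    exact Subgroup.Normal.conj_mem inferInstance x hxc _

theorem zStar_aux : ∀ (n : ℕ) (G : Type v) [Group G] [Finite G], Nat.card G = n → HasZStar G := by
  intro n
  induction n using Nat.strong_induction_on with
  | _ n ih =>
    intro G _ _ hn
    have IH : ∀ (H : Type v) [Group H] [Finite H], Nat.card H < Nat.card G → HasZStar H :=
      fun H _ _ hlt => ih _ (hn ▸ hlt) H rfl
    refine hasZStar_of_core (fun hO u hu hiso => ?_) IH
    haveI : Fact (Nat.Prime 2) := ⟨Nat.prime_two⟩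
    by_cases hall : ∀ s : G, orderOf s = 2 → IsConj u s
    · exact central_of_one_class hO hu hiso hall IH
    simp only [not_forall] at hall
    obtain ⟨s, hs, hnc⟩ := hall
    -- move `s` to commute with `u`
    obtain ⟨P, hP⟩ : ∃ P : Sylow 2 G, u ∈ P := by
      have hp : IsPGroup 2 (Subgroup.zpowers u) :=
        IsPGroup.of_card (n := 1) (by rw [Nat.card_zpowers, hu]; norm_num)
      obtain ⟨P, hP⟩ := hp.exists_le_sylow
      exact ⟨P, hP (Subgroup.mem_zpowers u)⟩
    obtain ⟨c, hc⟩ := isPGroup_two_of_le_sylow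
      (IsPGroup.of_card (n := 1) (by rw [Nat.card_zpowers, hs]; norm_num) :
        IsPGroup 2 (Subgroup.zpowers s)) P
    have hcs := hc s (Subgroup.mem_zpowers s)
    refine central_of_two_classes hO hu hiso (s := c * s * c⁻¹)
      (by rw [Involution.orderOf_conj, hs])
      (fun h => hnc (h.trans (isConj_iff.mpr ⟨c, rfl⟩).symm))
      (mul_inv_eq_iff_eq_mul.mp (hiso.isolated hu P.2 hP hcs)).symm IH

/-- **Glauberman's Z*-theorem.** -/
theorem zStar {G : Type*} [Group G] [Finite G] {u : G} (hu : orderOf u = 2) (hiso : OddComm u) :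
    ∃ N : Subgroup G, N.Normal ∧ Odd (Nat.card N) ∧ ∀ g : G, u * g * u⁻¹ * g⁻¹ ∈ N :=
  zStar_aux _ G rfl u hu hiso

end Cfsg.Agent.ZStar
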