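import Cfsg.Agent.ZStar.Main
import Cfsg.Agent.TwoFusion36.Isolated
import Mathlib.GroupTheory.Sylow

/-!
# Sylow subgroups normalised by an isolated involution
-/

set_option autoImplicit false

open Cfsg

namespace Cfsg.Agent.ZStar

variable {G : Type*} [Group G] [Finite G] {z : G}

theorem oddComm_of_isolated (hz : IsIsolatedInvolution z) : OddComm z := fun g => by
  have h2 : z * g * z⁻¹ * g⁻¹ = z * (g * z * g⁻¹ * z) * z⁻¹ := by
    rw [show z * (g * z * g⁻¹ * z) * z⁻¹ = z * g * z * g⁻¹ by group,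
      Involution.inv_of_orderOf hz.1]
  rw [h2, Involution.orderOf_conj]
  exact TwoFusion36.odd_conj_mul hz g

theorem isolated_restrict (hz : IsIsolatedInvolution z) (H : Subgroup G) (hzH : z ∈ H) :
    IsIsolatedInvolution (⟨z, hzH⟩ : H) :=
  ⟨by rw [Subgroup.orderOf_mk, hz.1], fun g hg =>
    Subtype.ext (hz.2 g (show z * _ = _ * z by simpa using congrArg Subtype.val hg.eq))⟩

/-- An isolated involution normalises a Sylow `p`-subgroup, for `p` odd. -/
theorem exists_invariant_sylow_odd (hz : IsIsolatedInvolution z) {p : ℕ} [hp : Fact p.Prime]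
    (hp2 : p ≠ 2) : ∃ R : Sylow p G, z ∈ Subgroup.normalizer ((R : Subgroup G) : Set G) := by
  classical
  haveI : Fact (Nat.Prime 2) := ⟨Nat.prime_two⟩
  obtain ⟨N, hN, hodd, hc⟩ := zStar hz.1 (oddComm_of_isolated hz)
  haveI := hN
  obtain ⟨R₀⟩ : Nonempty (Sylow p G) := inferInstance
  set X : Subgroup G := N ⊔ (R₀ : Subgroup G) with hX
  have hXodd : Odd (Nat.card X) := by
    rw [Nat.odd_iff, ← Nat.two_dvd_ne_zero]
    intro h2
    have h4 : Nat.card X ∣ Nat.card (R₀ : Subgroup G) * Nat.card N := by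
      rw [hX, sup_comm]; exact Thompson.card_sup_dvd_mul _ N
    rcases (Nat.prime_two.dvd_mul).mp (h2.trans h4) with h | h
    · obtain ⟨k, hk⟩ := IsPGroup.iff_card.mp R₀.2
      rw [hk] at h
      exact hp2 ((Nat.prime_dvd_prime_iff_eq Nat.prime_two hp.out).mp
        (Nat.prime_two.dvd_of_dvd_pow h)).symm
    · exact Nat.not_even_iff_odd.mpr hodd (even_iff_two_dvd.mpr h)
  have hzX : ∀ x ∈ X, z * x * z⁻¹ ∈ X := fun x hx => by
    have h := mul_mem ((le_sup_left : N ≤ X) (hc x)) hx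
    rwa [inv_mul_cancel_right] at h
  -- the Sylow `p`-subgroups of `G` inside `X`
  let S : Set (Sylow p G) := {R | (R : Subgroup G) ≤ X}
  have hS : ∀ R : Sylow p G, R ∈ S → z • R ∈ S := by
    intro R hR x hx
    rw [Sylow.coe_subgroup_smul] at hx
    obtain ⟨y, hy, rfl⟩ := hx
    exact hzX y (hR hy)
  have hzz : z * z = 1 := Involution.mul_self_of_orderOf hz.1
  let σ : S → S := fun R => ⟨z • (R : Sylow p G), hS R.1 R.2⟩
  have hσ : Function.Involutive σ := fun R => Subtype.ext (by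
    show z • z • (R : Sylow p G) = R
    rw [← mul_smul, hzz, one_smul])
  -- an odd number of them
  have hSodd : Odd (Nat.card S) := by
    have hcard : Nat.card S = Nat.card (Sylow p X) := by
      refine Nat.card_eq_of_bijective (fun R : S => (R.1.subtype R.2 : Sylow p X)) ⟨?_, ?_⟩
      · intro R R' h
        exact Subtype.ext (Sylow.subtype_injective h)
      · intro Q
        have hR₀ : (R₀ : Subgroup G) ≤ X := le_sup_right
        obtain ⟨x, hx⟩ := MulAction.exists_smul_eq X (R₀.subtype hR₀) Q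
        have hmem : ((x : G) • R₀ : Sylow p G) ∈ S := by
          intro y hy
          rw [Sylow.coe_subgroup_smul] at hy
          obtain ⟨w, hw, rfl⟩ := hy
          exact mul_mem (mul_mem x.2 (hR₀ hw)) (inv_mem x.2)
        refine ⟨⟨_, hmem⟩, ?_⟩
        rw [← hx]
        exact (Sylow.smul_subtype hR₀ x).symm
    rw [hcard]
    obtain ⟨Q⟩ : Nonempty (Sylow p X) := inferInstance
    exact hXodd.of_dvd_nat (Q.card_dvd_index.trans (Subgroup.index_dvd_card _))
  haveI : Fintype S := Fintype.ofFinite _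
  obtain ⟨R, hR⟩ := Equiv.Perm.exists_fixed_point_of_prime (p := 2) (n := 1)
    (by
      rw [← Nat.card_eq_fintype_card, ← even_iff_two_dvd, Nat.not_even_iff_odd]
      exact hSodd)
    (σ := hσ.toPerm σ) (by
      rw [pow_one, pow_two]
      exact Equiv.ext fun R => hσ R)
  exact ⟨R, Sylow.smul_eq_iff_mem_normalizer.mp (congrArg Subtype.val hR)⟩

/-- An isolated involution normalises a Sylow `p`-subgroup. -/
theorem exists_invariant_sylow (hz : IsIsolatedInvolution z) (p : ℕ) [Fact p.Prime] :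
    ∃ R : Sylow p G, z ∈ Subgroup.normalizer ((R : Subgroup G) : Set G) := by
  by_cases hp2 : p = 2
  · subst hp2
    obtain ⟨R, hR⟩ := (IsPGroup.of_card (p := 2) (n := 1) (G := Subgroup.zpowers z)
      (by rw [Nat.card_zpowers, hz.1]; norm_num)).exists_le_sylow
    exact ⟨R, Subgroup.le_normalizer (hR (Subgroup.mem_zpowers z))⟩
  · exact exists_invariant_sylow_odd hz hp2

/-- A maximal invariant `p`-subgroup is a Sylow subgroup. -/
theorem exists_sylow_eq_of_maximal (hz : IsIsolatedInvolution z) {p : ℕ} [Fact p.Prime]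
    (Q : Subgroup G) (hQ : IsPGroup p Q) (hzQ : z ∈ Subgroup.normalizer (Q : Set G))
    (hmax : ∀ R : Subgroup G, IsPGroup p R → z ∈ Subgroup.normalizer (R : Set G) → Q ≤ R → R = Q) :
    ∃ P : Sylow p G, (P : Subgroup G) = Q := by
  set N := Subgroup.normalizer (Q : Set G) with hN
  obtain ⟨R, hR⟩ := exists_invariant_sylow (isolated_restrict hz N hzQ) p
  have hQN : Q ≤ N := Subgroup.le_normalizer
  have hQR : Q.subgroupOf N ≤ (R : Subgroup N) := by
    haveI : (Q.subgroupOf N).Normal := Subgroup.normal_in_normalizer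
    exact (hQ.of_equiv (Subgroup.subgroupOfEquivOfLe hQN).symm).le_sylow_of_normal R
  have hzR : z ∈ Subgroup.normalizer (((R : Subgroup N).map N.subtype : Subgroup G) : Set G) := by
    rw [Subgroup.mem_normalizer_iff]
    intro x
    constructor
    · rintro ⟨y, hy, rfl⟩
      exact ⟨⟨z, hzQ⟩ * y * ⟨z, hzQ⟩⁻¹, (Subgroup.mem_normalizer_iff.mp hR y).mp hy, by simp⟩
    · rintro ⟨y, hy, hye⟩
      refine ⟨⟨z, hzQ⟩⁻¹ * y * ⟨z, hzQ⟩, (Subgroup.mem_normalizer_iff.mp hR _).mpr (by
        simpa [mul_assoc] using (show y ∈ (R : Subgroup N) from hy)), ?_⟩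
      simp only [Subgroup.coe_subtype, Subgroup.coe_mul, InvMemClass.coe_inv] at hye ⊢
      rw [hye]; group
  have hle : Q ≤ (R : Subgroup N).map N.subtype := fun x hx =>
    ⟨⟨x, hQN hx⟩, hQR hx, rfl⟩
  have heq := hmax _ (R.2.map _) hzR hle
  -- `Q` is a Sylow subgroup of its normaliser
  obtain ⟨P, hP⟩ := hQ.exists_le_sylow
  refine ⟨P, le_antisymm ?_ hP⟩
  by_contra hne
  have hlt : Q.subgroupOf (P : Subgroup G) < ⊤ := by
    rw [lt_top_iff_ne_top, Ne, Subgroup.subgroupOf_eq_top]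
    exact hne
  haveI : Group.IsNilpotent (P : Subgroup G) := P.2.isNilpotent
  have h1 := Group.normalizerCondition_of_isNilpotent (G := (P : Subgroup G)) _ hlt
  obtain ⟨x, hxN, hxQ⟩ := SetLike.exists_of_lt h1
  have hxN' : (x : G) ∈ N := by
    rw [hN, Subgroup.mem_normalizer_iff]
    intro y
    constructor
    · intro hy
      exact (Subgroup.mem_normalizer_iff.mp hxN ⟨y, hP hy⟩).mp hy
    · intro hy
      have hyP : y ∈ (P : Subgroup G) := by
        have := mul_mem (mul_mem (inv_mem x.2) (hP hy)) x.2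
        rwa [show (x : G)⁻¹ * ((x : G) * y * (x : G)⁻¹) * x = y by group] at this
      exact (Subgroup.mem_normalizer_iff.mp hxN ⟨y, hyP⟩).mpr hy
  -- a larger `p`-subgroup of `N`
  have hp1 : IsPGroup p ((P : Subgroup G) ⊓ N : Subgroup G) := P.2.to_le inf_le_left
  have h2 : IsPGroup p (((P : Subgroup G) ⊓ N).subgroupOf N) :=
    hp1.of_equiv (Subgroup.subgroupOfEquivOfLe inf_le_right).symm
  have hle2 : (R : Subgroup N) ≤ ((P : Subgroup G) ⊓ N).subgroupOf N := by
    intro y hy
    have : (y : G) ∈ Q := heq ▸ ⟨y, hy, rfl⟩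
    exact ⟨hP this, y.2⟩
  have h3 := R.is_maximal' h2 hle2
  apply hxQ
  rw [Subgroup.mem_subgroupOf, ← heq]
  exact ⟨⟨x, hxN'⟩, h3 ▸ (show (⟨x, hxN'⟩ : N) ∈ ((P : Subgroup G) ⊓ N).subgroupOf N from
    ⟨x.2, hxN'⟩), rfl⟩

/-- Two invariant Sylow subgroups are conjugate by an element of the centralizer. -/
theorem exists_centralizer_conj (hz : IsIsolatedInvolution z) {p : ℕ} [Fact p.Prime]
    (P P' : Sylow p G) (hP : z ∈ Subgroup.normalizer ((P : Subgroup G) : Set G))
    (hP' : z ∈ Subgroup.normalizer ((P' : Subgroup G) : Set G)) :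
    ∃ h : G, z * h = h * z ∧ h • P = P' := by
  obtain ⟨g, hg⟩ := MulAction.exists_smul_eq G P P'
  have h2 : z * z = 1 := Involution.mul_self_of_orderOf hz.1
  have hzi := TwoFusion36.conj_self_inv hz
  set c := g⁻¹ * z * g⁻¹⁻¹ * z with hc
  have hK := TwoFusion36.inK_conj_mul hz g⁻¹
  rw [← hc] at hK
  have hcN : c ∈ Subgroup.normalizer ((P : Subgroup G) : Set G) := by
    refine Sylow.smul_eq_iff_mem_normalizer.mp ?_
    rw [hc, inv_inv, mul_smul, mul_smul, mul_smul,
      Sylow.smul_eq_iff_mem_normalizer.mpr hP, hg, Sylow.smul_eq_iff_mem_normalizer.mpr hP',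
      ← hg, inv_smul_smul]
  set s := TwoFusion36.sqrtOdd c with hs
  have hsN : s ∈ Subgroup.normalizer ((P : Subgroup G) : Set G) := pow_mem hcN _
  refine ⟨g * s, ?_, ?_⟩
  · have h3 : s * z * s⁻¹ = c * z := hK.conj_mul hz
    rw [hc, mul_assoc _ z z, h2, mul_one, inv_inv] at h3
    calc z * (g * s) = g * (g⁻¹ * z * g) * s := by group
      _ = g * (s * z * s⁻¹) * s := by rw [h3]
      _ = g * s * z := by group
  · rw [mul_smul, Sylow.smul_eq_iff_mem_normalizer.mpr hsN, hg]

end Cfsg.Agent.ZStar
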