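import Cfsg.Agent.ZStar.HomocyclicBlock
import Cfsg.Agent.Lib.Thompson.Cores
import Cfsg.Agent.Lib.BlocksDefect.Covering

/-!
# Groups without odd core and with a homocyclic Sylow 2-subgroup
-/

set_option autoImplicit false

open Cfsg

namespace Cfsg.Agent.ZStar

universe u

/-- The centralizer of an abelian normal Sylow subgroup is that subgroup when the odd core is
trivial. -/
theorem centralizer_eq_of_normal {G : Type*} [Group G] [Finite G] (P : Sylow 2 G)
    (hc : ∀ x ∈ P, ∀ y ∈ P, x * y = y * x) [hn : (P : Subgroup G).Normal]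
    (hO : ∀ N : Subgroup G, N.Normal → Odd (Nat.card N) → N = ⊥) :
    Subgroup.centralizer ((P : Subgroup G) : Set G) = (P : Subgroup G) := by
  haveI : Fact (Nat.Prime 2) := ⟨Nat.prime_two⟩
  set C := Subgroup.centralizer ((P : Subgroup G) : Set G) with hC
  have hPC : (P : Subgroup G) ≤ C := fun x hx =>
    Subgroup.mem_centralizer_iff.mpr fun y hy => hc y hy x hx
  set T : Sylow 2 C := P.subtype hPC
  have hNC : Subgroup.normalizer ((T : Subgroup C) : Set C) ≤
      Subgroup.centralizer ((T : Subgroup C) : Set C) := fun n _ =>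
    Subgroup.mem_centralizer_iff.mpr fun s hs =>
      Subtype.ext (Subgroup.mem_centralizer_iff.mp n.2 s hs)
  have hcompl := MonoidHom.ker_transferSylow_isComplement' T hNC
  set L := (MonoidHom.transferSylow T hNC).ker
  obtain ⟨k, hk⟩ := IsPGroup.iff_card.mp T.2
  have hidx : L.index = 2 ^ k := hcompl.symm.index_eq_card.trans hk
  have hLodd : Odd (Nat.card L) := by
    rw [← hcompl.index_eq_card, ← Nat.not_even_iff_odd, even_iff_two_dvd]
    exact T.not_dvd_index
  have hLn : (L.map C.subtype).Normal := by
    refine ⟨fun x hx g => ?_⟩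
    obtain ⟨y, hy, rfl⟩ := hx
    haveI : C.Normal := Subgroup.normal_centralizer
    refine ⟨⟨g * y * g⁻¹, Subgroup.Normal.conj_mem ‹C.Normal› _ y.2 g⟩,
      BlocksDefect.mem_of_not_dvd_orderOf hidx ?_, rfl⟩
    rw [Subgroup.orderOf_mk, Involution.orderOf_conj, Subgroup.orderOf_coe]
    intro hd
    exact Nat.not_even_iff_odd.mpr hLodd
      (even_iff_two_dvd.mpr (hd.trans (Subgroup.orderOf_dvd_natCard L hy)))
  have hbot : L = ⊥ := by
    have := hO _ hLn (by rw [Subgroup.card_map_of_injective (Subgroup.subtype_injective _)]; exact hLodd)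
    rwa [Subgroup.map_eq_bot_iff_of_injective _ (Subgroup.subtype_injective _)] at this
  rw [hbot, Subgroup.isComplement'_bot_left] at hcompl
  refine le_antisymm (fun x hx => ?_) hPC
  have : (⟨x, hx⟩ : C) ∈ (T : Subgroup C) := hcompl ▸ Subgroup.mem_top _
  exact this

/-- Brauer's theorem, by induction on the order. -/
theorem homocyclic_normal {M : Ideal AlgInt} (hM : IsPModular 2 M) :
    ∀ (n : ℕ) (G : Type u) [Group G] [Finite G], Nat.card G ≤ n → ∀ (P : Sylow 2 G) (m : ℕ),
      2 ≤ m → ((P : Subgroup G) ≃* Multiplicative (ZMod (2 ^ m) × ZMod (2 ^ m))) →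
      (∀ N : Subgroup G, N.Normal → Odd (Nat.card N) → N = ⊥) →
      (P : Subgroup G).Normal ∧ Subgroup.centralizer (P : Set G) = (P : Subgroup G) ∧
        ((P : Subgroup G).index = 1 ∨ (P : Subgroup G).index = 3) := by
  intro n
  induction n with
  | zero => intro G _ _ hn; exact absurd hn (by have := Nat.card_pos (α := G); omega)
  | succ n ih =>
    intro G _ _ hn P m hm e hO
    haveI : Fact (Nat.Prime 2) := ⟨Nat.prime_two⟩
    obtain ⟨a, b, h⟩ := threeInv_of_equiv P (by omega) e
    suffices hnorm : (P : Subgroup G).Normal by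
      haveI := hnorm
      have hC := centralizer_eq_of_normal P h.comm hO
      refine ⟨hnorm, hC, ?_⟩
      rcases h.relIndex_dichotomy with ⟨-, h1⟩ | ⟨-, h3⟩
      · left
        rw [hC, Subgroup.normalizer_eq_top, Subgroup.relIndex_top_right] at h1
        exact h1
      · right
        rw [hC, Subgroup.normalizer_eq_top, Subgroup.relIndex_top_right] at h3
        exact h3
    rcases h.relIndex_dichotomy with ⟨hle, -⟩ | ⟨hex, -⟩
    · have hcompl := MonoidHom.ker_transferSylow_isComplement' P hle
      set L := (MonoidHom.transferSylow P hle).ker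
      have hLodd : Odd (Nat.card L) := by
        rw [← hcompl.index_eq_card, ← Nat.not_even_iff_odd, even_iff_two_dvd]
        exact P.not_dvd_index
      rw [hO L inferInstance hLodd, Subgroup.isComplement'_bot_left] at hcompl
      rw [hcompl]
      infer_instance
    · obtain ⟨r, hrN, hra⟩ := hex b h.b_mem h.b_sq h.b_ne
      have hrrfix : r * r * a * (r * r)⁻¹ ≠ a := by
        intro hfix
        have hfix' : r * b * r⁻¹ = a := by
          calc r * b * r⁻¹ = r * (r * a * r⁻¹) * r⁻¹ := by rw [hra]
            _ = r * r * a * (r * r)⁻¹ := by group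
            _ = a := hfix
        have hab : a * b = b * a := h.comm a h.a_mem b h.b_mem
        have hab1 : a * b ≠ 1 := fun e => h.ne (by
          rw [← inv_eq_of_mul_eq_one_right e, inv_eq_of_mul_eq_one_right h.a_sq])
        have hrC := h.mem_centralizer_of_fix' hrN (mul_mem h.a_mem h.b_mem) hab1
          (mul_inv_eq_iff_eq_mul.mp (by
            calc r * (a * b) * r⁻¹ = (r * a * r⁻¹) * (r * b * r⁻¹) := by group
              _ = a * b := by rw [hra, hfix', hab]))
        exact h.ne (by
          rw [← hra, ← Subgroup.mem_centralizer_iff.mp hrC a h.a_mem, mul_inv_cancel_right])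
      have hcard : Nat.card (P : Subgroup G) = 4 * 4 ^ (m - 1) := by
        rw [Nat.card_congr e.toEquiv, Nat.card_congr Multiplicative.toAdd, Nat.card_prod,
          Nat.card_zmod, ← pow_succ', ← mul_pow, show m - 1 + 1 = m by omega]
        norm_num
      have hq : 4 ^ (m - 1) = 4 ∨ (16 ≤ 4 ^ (m - 1) ∧ 4 ∣ 4 ^ (m - 1)) := by
        rcases (by omega : m = 2 ∨ 3 ≤ m) with rfl | hm3
        · exact Or.inl rfl
        · refine Or.inr ⟨?_, dvd_pow_self 4 (by omega)⟩
          calc 16 = 4 ^ 2 := rfl
            _ ≤ 4 ^ (m - 1) := Nat.pow_le_pow_right (by norm_num) (by omega)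
      obtain ⟨K, hK, hKtop, hPK⟩ :=
        exists_proper_normal_of_homocyclic hM h hrN hra hrrfix hcard hq
      have hKcard : Nat.card K ≤ n := by
        have hlt : Nat.card K < Nat.card G := lt_of_le_of_ne (Subgroup.card_le_card_group K)
          fun e => hKtop ((Subgroup.card_eq_iff_eq_top K).mp e)
        omega
      have hOK : ∀ N : Subgroup K, N.Normal → Odd (Nat.card N) → N = ⊥ := by
        intro N hN hodd
        have h1 : N ≤ pPrimeCore 2 K := Thompson.le_pPrimeCore hN (Nat.coprime_two_right.mpr hodd)
        have h2 : pPrimeCore 2 G = ⊥ := hO _ inferInstance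
          (Nat.coprime_two_right.mp Thompson.card_pPrimeCore_coprime)
        have h3 := (Subgroup.map_mono (f := K.subtype) h1).trans (Thompson.map_pPrimeCore_normal_le K)
        rw [h2, le_bot_iff, Subgroup.map_eq_bot_iff_of_injective _ (Subgroup.subtype_injective _)]
          at h3
        exact h3
      obtain ⟨hPn, -, -⟩ := ih K hKcard (P.subtype hPK) m hm
        ((Subgroup.subgroupOfEquivOfLe hPK).trans e) hOK
      haveI : ((P.subtype hPK : Sylow 2 K) : Subgroup K).Normal := hPn
      haveI := (P.subtype hPK).characteristic_of_normal hPn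
      have hmap := Thompson.map_subtype_normal_of_characteristic K
        ((P.subtype hPK : Sylow 2 K) : Subgroup K)
      have heq : (((P.subtype hPK : Sylow 2 K) : Subgroup K)).map K.subtype = (P : Subgroup G) := by
        rw [Sylow.coe_subtype, Subgroup.subgroupOf_map_subtype]
        exact inf_of_le_left hPK
      rwa [heq] at hmap

end Cfsg.Agent.ZStar
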