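import Cfsg.Agent.ZStar.Q8Facts
import Cfsg.Agent.Lib.Involution.Dihedral
import Cfsg.Agent.Lib.Involution.IndexTwo
import Cfsg.Agent.Lib.Transfer.Frobenius
import Cfsg.Agent.TwoFusion36.Basic

/-!
# Elements of odd order acting on small 2-groups
-/

set_option autoImplicit false

open Cfsg

namespace Cfsg.Agent.ZStar

variable {G : Type*} [Group G]

/-- An element of odd order fixing the involutions of an abelian 2-subgroup it normalises
centralises that subgroup. -/
theorem commute_of_fix_involutions {B : Subgroup G} (hB : IsPGroup 2 B)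
    (hcomm : ∀ x ∈ B, ∀ y ∈ B, x * y = y * x) {g : G} (hg : g ∈ Subgroup.normalizer (B : Set G))
    (hodd : Odd (orderOf g)) (hfix : ∀ x ∈ B, x * x = 1 → g * x = x * g) :
    ∀ x ∈ B, g * x = x * g := by
  intro x hx
  obtain ⟨k, hk⟩ := hB ⟨x, hx⟩
  replace hk : x ^ 2 ^ k = 1 := congrArg Subtype.val hk
  induction k generalizing x with
  | zero => rw [pow_zero, pow_one] at hk; simp [hk]
  | succ k ih =>
    have h2 : g * (x * x) = x * x * g :=
      ih (x * x) (mul_mem hx hx) (by rw [← pow_two, ← pow_mul, ← pow_succ']; exact hk)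
    set d := x⁻¹ * (g * x * g⁻¹) with hd
    have hdB : d ∈ B := mul_mem (inv_mem hx) ((Subgroup.mem_normalizer_iff.mp hg x).mp hx)
    have hdd : d * d = 1 := by
      calc d * d = x⁻¹ * ((g * x * g⁻¹) * x⁻¹) * (g * x * g⁻¹) := by rw [hd]; group
        _ = x⁻¹ * (x⁻¹ * (g * x * g⁻¹)) * (g * x * g⁻¹) := by
          rw [hcomm (g * x * g⁻¹) ((Subgroup.mem_normalizer_iff.mp hg x).mp hx) x⁻¹ (inv_mem hx)]
        _ = (x * x)⁻¹ * (g * (x * x) * g⁻¹) := by group
        _ = 1 := by rw [h2, mul_inv_cancel_right, inv_mul_cancel]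
    have hgd : ∀ j : ℕ, g ^ j * x * (g ^ j)⁻¹ = x * d ^ j := by
      intro j
      induction j with
      | zero => simp
      | succ j ihj =>
        have hc : g * d ^ j * g⁻¹ = d ^ j := by
          rw [(Commute.pow_right (hfix d hdB hdd) j).eq, mul_inv_cancel_right]
        rw [pow_succ' g, show g * g ^ j * x * (g * g ^ j)⁻¹ =
          g * (g ^ j * x * (g ^ j)⁻¹) * g⁻¹ by group, ihj,
          show g * (x * d ^ j) * g⁻¹ = g * x * g⁻¹ * (g * d ^ j * g⁻¹) by group, hc,
          show g * x * g⁻¹ = x * d by rw [hd]; group, mul_assoc, ← pow_succ']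
    have h1 := hgd (orderOf g)
    rw [pow_orderOf_eq_one, inv_one, one_mul, mul_one, left_eq_mul] at h1
    obtain ⟨j, hj⟩ := hodd
    have hd1 : d = 1 := by rwa [hj, pow_succ, pow_mul, pow_two, hdd, one_pow, one_mul] at h1
    rw [hd, inv_mul_eq_one] at hd1
    exact mul_inv_eq_iff_eq_mul.mp hd1.symm

/-- An element of odd order normalising `⟨c⟩`, `c` a 2-element, centralises `c`. -/
theorem commute_of_normalizes_zpowers [Finite G] {c g : G} (hc : IsPGroup 2 (Subgroup.zpowers c))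
    (hg : g ∈ Subgroup.normalizer (Subgroup.zpowers c : Set G)) (hodd : Odd (orderOf g)) :
    g * c = c * g := by
  refine commute_of_fix_involutions hc ?_ hg hodd ?_ c (Subgroup.mem_zpowers c)
  · rintro x ⟨i, rfl⟩ y ⟨j, rfl⟩
    exact (Commute.zpow_zpow_self c i j).eq
  · intro x hx hxx
    by_cases hx1 : x = 1
    · simp [hx1]
    have h1 : g * x * g⁻¹ ∈ Subgroup.zpowers c := (Subgroup.mem_normalizer_iff.mp hg x).mp hx
    have ho : orderOf x = 2 := Involution.orderOf_eq_two_iff'.mpr ⟨hxx, hx1⟩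
    have ho' : orderOf (g * x * g⁻¹) = 2 := Involution.orderOf_eq_two_iff'.mpr ⟨by
      rw [show g * x * g⁻¹ * (g * x * g⁻¹) = g * (x * x) * g⁻¹ by group, hxx]; group,
      fun h => hx1 (conj_eq_one_iff.mp h)⟩
    haveI : IsCyclic (Subgroup.zpowers c) := inferInstance
    have := Involution.involution_unique_of_isCyclic (a := (⟨_, h1⟩ : Subgroup.zpowers c))
      (b := ⟨x, hx⟩) (by rw [Subgroup.orderOf_mk, ho']) (by rw [Subgroup.orderOf_mk, ho])
    exact mul_inv_eq_iff_eq_mul.mp (congrArg Subtype.val this)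

/-- If `g` of odd order fixes a 2-element `d` and `g x g⁻¹ = x d`, then `g` fixes `x`. -/
theorem commute_of_coset_fix {g x d : G} (hodd : Odd (orderOf g)) {k : ℕ} (hd : d ^ 2 ^ k = 1)
    (hgd : g * d = d * g) (hgx : g * x * g⁻¹ = x * d) : g * x = x * g := by
  have h : ∀ j : ℕ, g ^ j * x * (g ^ j)⁻¹ = x * d ^ j := by
    intro j
    induction j with
    | zero => simp
    | succ j ihj =>
      have hc : g * d ^ j * g⁻¹ = d ^ j := by
        rw [(Commute.pow_right hgd j).eq, mul_inv_cancel_right]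
      rw [pow_succ' g, show g * g ^ j * x * (g * g ^ j)⁻¹ =
        g * (g ^ j * x * (g ^ j)⁻¹) * g⁻¹ by group, ihj,
        show g * (x * d ^ j) * g⁻¹ = g * x * g⁻¹ * (g * d ^ j * g⁻¹) by group, hc, hgx, mul_assoc,
        ← pow_succ']
  have h1 := h (orderOf g)
  rw [pow_orderOf_eq_one, inv_one, one_mul, mul_one, left_eq_mul] at h1
  have hd1 : d = 1 := orderOf_eq_one_iff.mp (Nat.eq_one_of_dvd_coprimes
    (Nat.Coprime.pow_left k (Nat.coprime_two_left.mpr hodd))
    (orderOf_dvd_of_pow_eq_one hd) (orderOf_dvd_of_pow_eq_one h1))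
  rw [hd1, mul_one] at hgx
  exact mul_inv_eq_iff_eq_mul.mp hgx

/-- A quaternion subgroup of order eight rotated by an element of odd order. -/
structure Q8Rotation (a b y : G) : Prop where
  sq_ne : a * a ≠ 1
  pow_four : a * a * (a * a) = 1
  sq_eq : b * b = a * a
  inverts : b * a * b⁻¹ = a⁻¹
  conj_a : y * a * y⁻¹ = b
  conj_b : y * b * y⁻¹ = a * b
  odd : Odd (orderOf y)

/-- In a quaternion group, elements outside the cyclic maximal subgroup square to the involution
and invert it. -/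
structure QuatSylow (T : Subgroup G) (a₀ t : G) : Prop where
  mem : a₀ ∈ T
  t_ne : t ≠ 1
  t_sq : t * t = 1
  out_sq : ∀ x ∈ T, x ∉ Subgroup.zpowers a₀ → x * x = t
  out_inv : ∀ x ∈ T, x ∉ Subgroup.zpowers a₀ → x * a₀ * x⁻¹ = a₀⁻¹
  out_mul : ∀ x ∈ T, ∀ z ∈ T, x ∉ Subgroup.zpowers a₀ → z ∉ Subgroup.zpowers a₀ →
    x⁻¹ * z ∈ Subgroup.zpowers a₀

theorem quatSylow_of_equiv {T : Subgroup G} {m : ℕ} [NeZero m] (e : T ≃* QuaternionGroup m) :
    ∃ a₀ t : G, QuatSylow T a₀ t := by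
  set a' : T := e.symm (QuaternionGroup.a 1) with ha'
  set t' : T := e.symm (QuaternionGroup.a (m : ZMod (2 * m))) with ht'
  have hzp : ∀ i : ZMod (2 * m),
      ((e.symm (QuaternionGroup.a i) : T) : G) ∈ Subgroup.zpowers (a' : G) := by
    intro i
    rw [← ZMod.natCast_zmod_val i, ← QuaternionGroup.a_one_pow, map_pow, SubgroupClass.coe_pow]
    exact pow_mem (Subgroup.mem_zpowers _) _
  have hout : ∀ x ∈ T, x ∉ Subgroup.zpowers (a' : G) →
      ∃ i, x = ((e.symm (QuaternionGroup.xa i) : T) : G) := by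
    intro x hx hn
    obtain ⟨q, hq⟩ := e.symm.surjective ⟨x, hx⟩
    cases q with
    | a i => exact absurd (by simpa [hq] using hzp i) hn
    | xa i => exact ⟨i, by rw [hq]⟩
  refine ⟨a', t', ⟨a'.2, ?_, ?_, ?_, ?_, ?_⟩⟩
  · intro h
    have h1 : e.symm (QuaternionGroup.a (m : ZMod (2 * m))) = 1 := Subtype.ext h
    rw [map_eq_one_iff _ e.symm.injective, QuaternionGroup.one_def] at h1
    simp only [QuaternionGroup.a.injEq] at h1
    rw [ZMod.natCast_eq_zero_iff] at h1
    have hm : 0 < m := NeZero.pos m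
    have := Nat.le_of_dvd hm h1
    omega
  · rw [ht', ← Subgroup.coe_mul, ← map_mul, QuaternionGroup.a_mul_a,
      show (m : ZMod (2 * m)) + m = 0 by rw [← Nat.cast_add, ← two_mul, ZMod.natCast_self],
      ← QuaternionGroup.one_def, map_one, Subgroup.coe_one]
  · intro x hx hn
    obtain ⟨i, rfl⟩ := hout x hx hn
    rw [← Subgroup.coe_mul, ← map_mul, QuaternionGroup.xa_mul_xa, add_sub_cancel_right, ht']
  · intro x hx hn
    obtain ⟨i, rfl⟩ := hout x hx hn
    rw [ha', ← InvMemClass.coe_inv, ← InvMemClass.coe_inv, ← Subgroup.coe_mul, ← Subgroup.coe_mul,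
      ← map_inv, ← map_inv, ← map_mul, ← map_mul, Subtype.coe_inj]
    congr 1
    rw [mul_inv_eq_iff_eq_mul, QuaternionGroup.xa_mul_a,
      show (QuaternionGroup.a (1 : ZMod (2 * m)))⁻¹ = QuaternionGroup.a (-1) from rfl,
      QuaternionGroup.a_mul_xa]
    congr 1
    ring
  · intro x hx z hz hxn hzn
    obtain ⟨i, rfl⟩ := hout x hx hxn
    obtain ⟨j, rfl⟩ := hout z hz hzn
    rw [← InvMemClass.coe_inv, ← Subgroup.coe_mul, ← map_inv, ← map_mul,
      show (QuaternionGroup.xa i)⁻¹ = QuaternionGroup.xa ((m : ZMod (2 * m)) + i) from rfl,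
      QuaternionGroup.xa_mul_xa]
    exact hzp _

variable [Finite G] {T : Subgroup G} {a₀ t : G}

theorem QuatSylow.involution (h : QuatSylow T a₀ t) (hT : IsPGroup 2 T)
    (ht : t ∈ Subgroup.zpowers a₀) {x : G} (hx : x ∈ T) (hxx : x * x = 1) (hx1 : x ≠ 1) :
    x = t := by
  by_cases hxA : x ∈ Subgroup.zpowers a₀
  · have := Involution.involution_unique_of_isCyclic (a := (⟨x, hxA⟩ : Subgroup.zpowers a₀))
      (b := ⟨t, ht⟩) (by rw [Subgroup.orderOf_mk, Involution.orderOf_eq_two_iff'.mpr ⟨hxx, hx1⟩])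
      (by rw [Subgroup.orderOf_mk, Involution.orderOf_eq_two_iff'.mpr ⟨h.t_sq, h.t_ne⟩])
    exact congrArg Subtype.val this
  · exact absurd ((h.out_sq x hx hxA).symm.trans hxx) h.t_ne

/-- An element of odd order normalising and not centralising a subgroup of a quaternion 2-group
rotates a quaternion group of order eight. -/
theorem QuatSylow.exists_rotation (h : QuatSylow T a₀ t) (hT : IsPGroup 2 T) {Q : Subgroup G}
    (hQT : Q ≤ T) {g : G} (hg : g ∈ Subgroup.normalizer (Q : Set G)) (hodd : Odd (orderOf g))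
    (hnc : g ∉ Subgroup.centralizer (Q : Set G)) :
    ∃ a b y, Q8Rotation a b y ∧ a ∈ Q ∧ y ∈ Subgroup.normalizer (Q : Set G) ∧
      ∀ x ∈ Q, ∃ i : ℤ, x = a ^ i ∨ x = b * a ^ i := by
  have hpow : ∀ x ∈ T, ∃ k, x ^ 2 ^ k = 1 := fun x hx => by
    obtain ⟨k, hk⟩ := hT ⟨x, hx⟩
    exact ⟨k, congrArg Subtype.val hk⟩
  have hQp : IsPGroup 2 Q := hT.to_le hQT
  have hgQ : ∀ x ∈ Q, g * x * g⁻¹ ∈ Q := fun x hx => (Subgroup.mem_normalizer_iff.mp hg x).mp hx
  -- a generator of the cyclic part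
  haveI : IsCyclic ↥(Subgroup.zpowers a₀ ⊓ Q : Subgroup G) :=
    isCyclic_of_injective (Subgroup.inclusion inf_le_left) (Subgroup.inclusion_injective _)
  obtain ⟨⟨c, hcA⟩, hc⟩ := IsCyclic.exists_generator (α := ↥(Subgroup.zpowers a₀ ⊓ Q : Subgroup G))
  have hgen : ∀ x ∈ Q, x ∈ Subgroup.zpowers a₀ → x ∈ Subgroup.zpowers c := fun x hxQ hxA => by
    obtain ⟨i, hi⟩ := Subgroup.mem_zpowers_iff.mp (hc ⟨x, hxA, hxQ⟩)
    exact Subgroup.mem_zpowers_iff.mpr ⟨i, congrArg Subtype.val hi⟩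
  have hcQ : c ∈ Q := hcA.2
  have hcp : IsPGroup 2 (Subgroup.zpowers c) :=
    hT.to_le (Subgroup.zpowers_le.mpr (hQT hcQ))
  -- `g` cannot fix `c`
  have hnfix : g * c ≠ c * g := by
    intro hfix
    refine hnc (Subgroup.mem_centralizer_iff.mpr fun x hx => ?_)
    by_cases hxA : x ∈ Subgroup.zpowers a₀
    · obtain ⟨i, rfl⟩ := Subgroup.mem_zpowers_iff.mp (hgen x hx hxA)
      exact (Commute.zpow_right hfix i).eq.symm
    · have hgcA : ∀ z ∈ Q, z ∈ Subgroup.zpowers a₀ → g * z * g⁻¹ = z := fun z hz hzA => by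
        obtain ⟨i, rfl⟩ := Subgroup.mem_zpowers_iff.mp (hgen z hz hzA)
        rw [(Commute.zpow_right hfix i).eq, mul_inv_cancel_right]
      have hgxA : g * x * g⁻¹ ∉ Subgroup.zpowers a₀ := by
        intro hA
        have h1 := hgcA _ (hgQ x hx) hA
        have h2 : g * x * g⁻¹ = x :=
          mul_left_cancel (mul_right_cancel (h1 : g * (g * x * g⁻¹) * g⁻¹ = g * x * g⁻¹))
        exact hxA (h2 ▸ hA)
      have hd : x⁻¹ * (g * x * g⁻¹) ∈ Subgroup.zpowers a₀ :=
        h.out_mul x (hQT hx) _ (hQT (hgQ x hx)) hxA hgxA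
      have hdQ : x⁻¹ * (g * x * g⁻¹) ∈ Q := mul_mem (inv_mem hx) (hgQ x hx)
      obtain ⟨k, hk⟩ := hpow _ (hQT hdQ)
      exact (commute_of_coset_fix hodd hk (mul_inv_eq_iff_eq_mul.mp (hgcA _ hdQ hd))
        (by group)).symm
  -- `c` and `g c g⁻¹` generate the quaternion group
  set b := g * c * g⁻¹ with hb
  have hbQ : b ∈ Q := hgQ c hcQ
  have hbA : b ∉ Subgroup.zpowers a₀ := by
    intro hA
    apply hnfix
    have hle : (Subgroup.zpowers c).map (MulAut.conj g).toMonoidHom ≤ Subgroup.zpowers c := by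
      rintro _ ⟨_, ⟨i, rfl⟩, rfl⟩
      show g * c ^ i * g⁻¹ ∈ _
      rw [← conj_zpow]
      exact zpow_mem (hgen _ hbQ hA) i
    refine commute_of_normalizes_zpowers hcp (Subgroup.mem_normalizer_iff_map_conj_eq.mpr
      (Subgroup.eq_of_le_of_card_ge hle (le_of_eq ?_))) hodd
    exact (Subgroup.card_map_of_injective (MulAut.conj g).injective).symm
  have hbt : b * b = t := h.out_sq b (hQT hbQ) hbA
  have hct' : g * (c * c) * g⁻¹ = t := by rw [← hbt, hb]; group
  have hc2 : c * c ≠ 1 := fun e => h.t_ne (by rw [← hct', e]; group)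
  have hc4 : c * c * (c * c) = 1 := by
    have e : g * (c * c * (c * c)) * g⁻¹ = 1 := by
      rw [show g * (c * c * (c * c)) * g⁻¹ = g * (c * c) * g⁻¹ * (g * (c * c) * g⁻¹) by group,
        hct', h.t_sq]
    exact conj_eq_one_iff.mp e
  have hcA' : c ∈ Subgroup.zpowers a₀ := hcA.1
  have htQ : t ∈ Q := hbt ▸ mul_mem hbQ hbQ
  have hb4 : b * (c * c) * b⁻¹ = (c * c)⁻¹ := by
    obtain ⟨i, hi⟩ := Subgroup.mem_zpowers_iff.mp (mul_mem hcA' hcA')
    rw [← hi, ← conj_zpow, h.out_inv b (hQT hbQ) hbA, inv_zpow]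
  have hinv : b * c * b⁻¹ = c⁻¹ := by
    obtain ⟨i, hi⟩ := Subgroup.mem_zpowers_iff.mp hcA'
    rw [← hi, ← conj_zpow, h.out_inv b (hQT hbQ) hbA, inv_zpow]
  have htA : t ∈ Subgroup.zpowers a₀ := by
    by_contra htA
    exact absurd ((h.out_sq t (hQT htQ) htA).symm.trans h.t_sq) h.t_ne
  have hct : c * c = t := h.involution hT htA (mul_mem (hQT hcQ) (hQT hcQ)) hc4 hc2
  have hform : ∀ x ∈ Q, ∃ i : ℤ, x = c ^ i ∨ x = b * c ^ i := by
    intro x hx
    by_cases hxA : x ∈ Subgroup.zpowers a₀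
    · obtain ⟨i, hi⟩ := Subgroup.mem_zpowers_iff.mp (hgen x hx hxA)
      exact ⟨i, Or.inl hi.symm⟩
    · obtain ⟨i, hi⟩ := Subgroup.mem_zpowers_iff.mp (hgen _ (mul_mem (inv_mem hbQ) hx)
        (h.out_mul b (hQT hbQ) x (hQT hx) hbA hxA))
      exact ⟨i, Or.inr (by rw [hi, mul_inv_cancel_left])⟩
  have hz4 : c ^ (4 : ℤ) = 1 := by
    rw [show (4 : ℤ) = ((4 : ℕ) : ℤ) from rfl, zpow_natCast, pow_succ, pow_succ, pow_two, mul_assoc]
    exact hc4
  have hz3 : c ^ (3 : ℤ) = c⁻¹ := by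
    rw [show (3 : ℤ) = 4 + -1 by norm_num, zpow_add, hz4, one_mul, zpow_neg_one]
  -- the image of `b`
  have hd : g * b * g⁻¹ = c * b ∨ g * b * g⁻¹ = b * c := by
    obtain ⟨i, hi | hi⟩ := hform _ (hgQ b hbQ)
    · exfalso
      -- `g * g` normalises `⟨c⟩`
      apply hnfix
      have hle : (Subgroup.zpowers c).map (MulAut.conj (g * g)).toMonoidHom ≤
          Subgroup.zpowers c := by
        rintro _ ⟨_, ⟨j, rfl⟩, rfl⟩
        show g * g * c ^ j * (g * g)⁻¹ ∈ _
        rw [← conj_zpow, show g * g * c * (g * g)⁻¹ = g * b * g⁻¹ by rw [hb]; group, hi]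
        exact zpow_mem (Subgroup.zpow_mem_zpowers c i) j
      have hodd2 : Odd (orderOf (g * g)) := by
        rw [← pow_two]; exact hodd.of_dvd_nat (orderOf_pow_dvd 2)
      have h2 := commute_of_normalizes_zpowers hcp (Subgroup.mem_normalizer_iff_map_conj_eq.mpr
        (Subgroup.eq_of_le_of_card_ge hle (le_of_eq
          (Subgroup.card_map_of_injective (MulAut.conj (g * g)).injective).symm))) hodd2
      obtain ⟨j, hj⟩ := hodd
      have hg1 : g = (g * g) ^ (j + 1) := by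
        rw [← pow_two, ← pow_mul, show 2 * (j + 1) = 2 * j + 1 + 1 by ring, pow_succ, ← hj,
          pow_orderOf_eq_one, one_mul]
      rw [hg1]
      exact (Commute.pow_left h2 (j + 1)).eq
    · rcases Int.even_or_odd i with ⟨j, rfl⟩ | ⟨j, rfl⟩
      · exfalso
        rcases Int.even_or_odd j with ⟨l, rfl⟩ | ⟨l, rfl⟩
        · have : g * b * g⁻¹ = b := by
            rw [hi, show l + l + (l + l) = 4 * l by ring, zpow_mul,
              hz4, one_zpow, mul_one]
          apply hnfix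
          have h1 : b = c := mul_left_cancel (mul_right_cancel (this.trans hb))
          exact mul_inv_eq_iff_eq_mul.mp (hb.symm.trans h1)
        · have h1 : g * b * g⁻¹ = b⁻¹ := by
            rw [hi, show 2 * l + 1 + (2 * l + 1) = 4 * l + 2 by ring, zpow_add, zpow_mul,
              hz4, one_zpow, one_mul, zpow_two, hct,
              eq_inv_iff_mul_eq_one]
            calc b * t * b = b * (b * b) * b := by rw [hbt]
              _ = b * b * (b * b) := by group
              _ = 1 := by rw [hbt, h.t_sq]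
          apply hnfix
          have h3 : b = c⁻¹ := by
            refine mul_left_cancel (mul_right_cancel (h1.trans ?_) : g * b = g * c⁻¹)
            rw [hb]; group
          exact absurd (h3 ▸ inv_mem hcA') hbA
      · rcases Int.even_or_odd j with ⟨l, rfl⟩ | ⟨l, rfl⟩
        · refine Or.inr ?_
          rw [hi, show 2 * (l + l) + 1 = 4 * l + 1 by ring, zpow_add, zpow_mul,
            hz4, one_zpow, one_mul, zpow_one]
        · refine Or.inl ?_
          rw [hi, show 2 * (2 * l + 1) + 1 = 4 * l + 3 by ring, zpow_add, zpow_mul,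
            hz4, one_zpow, one_mul,
            hz3, ← hinv]
          rw [← mul_assoc, ← mul_assoc, hbt, mul_inv_eq_iff_eq_mul]
          calc t * c = c * c * c := by rw [hct]
            _ = c * (c * c) := mul_assoc _ _ _
            _ = c * (b * b) := by rw [hct, hbt]
            _ = c * b * b := (mul_assoc _ _ _).symm
  rcases hd with hd | hd
  · exact ⟨c, b, g, ⟨hc2, hc4, hbt.trans hct.symm, hinv, rfl, hd, hodd⟩, hcQ, hg, hform⟩
  · -- use `g⁻¹`
    have hcb : b * b = c * c := hbt.trans hct.symm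
    have h1 : g * (b * c) * g⁻¹ = c := by
      calc g * (b * c) * g⁻¹ = (g * b * g⁻¹) * b := by rw [hb]; group
        _ = (b * c * b⁻¹) * (b * b) := by rw [hd]; group
        _ = c := by rw [hinv, hcb]; group
    have h2 : g⁻¹ * c * g = b * c := by
      calc g⁻¹ * c * g = g⁻¹ * (g * (b * c) * g⁻¹) * g := by rw [h1]
        _ = b * c := by group
    refine ⟨c, b * c, g⁻¹, ⟨hc2, hc4, ?_, ?_, by rw [inv_inv]; exact h2, ?_,
      by rw [orderOf_inv]; exact hodd⟩, hcQ, inv_mem hg, fun x hx => ?_⟩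
    · calc b * c * (b * c) = b * c * b⁻¹ * (b * b) * c := by group
        _ = c * c := by rw [hinv, hcb]; group
    · calc b * c * c * (b * c)⁻¹ = b * c * b⁻¹ := by group
        _ = c⁻¹ := hinv
    · calc g⁻¹ * (b * c) * g⁻¹⁻¹ = g⁻¹ * (g * b * g⁻¹) * g := by rw [hd]; group
        _ = b := by group
        _ = c * (b * c) := by
          calc b = c * (b * c * b⁻¹) * b := by rw [hinv]; group
            _ = c * (b * c) := by group
    · obtain ⟨i, hi | hi⟩ := hform x hx
      · exact ⟨i, Or.inl hi⟩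
      · exact ⟨i - 1, Or.inr (by rw [hi]; group)⟩

/-- Without a normal 2-complement, a quaternion Sylow 2-subgroup contains a rotated `Q₈`. -/
theorem exists_rotation_of_no_complement (S : Sylow 2 G) {m : ℕ} [NeZero m]
    (e : (S : Subgroup G) ≃* QuaternionGroup m) (h : ¬ HasNormalPComplement 2 G) :
    ∃ (Q : Subgroup G) (a b y : G), Q ≤ (S : Subgroup G) ∧ Q8Rotation a b y ∧ a ∈ Q ∧
      y ∈ Subgroup.normalizer (Q : Set G) ∧ ∀ x ∈ Q, ∃ i : ℤ, x = a ^ i ∨ x = b * a ^ i := by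
  haveI : Fact (Nat.Prime 2) := ⟨Nat.prime_two⟩
  obtain ⟨a₀, t, hq⟩ := quatSylow_of_equiv e
  by_contra hne
  refine h (Transfer.hasNormalPComplement_of_normalizer_centralizer S fun Q hQ _ g hg hco => ?_)
  by_contra hnc
  obtain ⟨a, b, y, h1, h2, h3, h4⟩ :=
    hq.exists_rotation S.2 hQ hg (Nat.coprime_two_right.mp hco) hnc
  exact hne ⟨Q, a, b, y, hQ, h1, h2, h3, h4⟩

end Cfsg.Agent.ZStar
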