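import Cfsg.Agent.ZStar.SmallTwo
import Cfsg.Agent.FG72.SL2Three

/-!
# `SL(2,3)` from a rotated quaternion group
-/

set_option autoImplicit false

open Cfsg

namespace Cfsg.Agent.ZStar

open QuaternionGroup

/-- The rotation of order three of `Q₈`. -/
def q8Rot : QuaternionGroup 2 → QuaternionGroup 2
  | .a i => (xa 0 : QuaternionGroup 2) ^ i.val
  | .xa i => (a 1 * xa 0) * (xa 0 : QuaternionGroup 2) ^ i.val

theorem q8Rot_mul : ∀ u v : QuaternionGroup 2, q8Rot (u * v) = q8Rot u * q8Rot v := by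
  decide +kernel

theorem sl23_exists_rotation : ∃ t : Matrix.SpecialLinearGroup (Fin 2) (ZMod 3), t ^ 3 = 1 ∧
    (∀ u, t * FG72.SL2Three.quatFun u * t⁻¹ = FG72.SL2Three.quatFun (q8Rot u)) ∧
    ∀ g : Matrix.SpecialLinearGroup (Fin 2) (ZMod 3), ∃ (u : QuaternionGroup 2) (i : Fin 3),
      g = FG72.SL2Three.quatFun u * t ^ (i : ℕ) := by
  decide +kernel

variable {A B : Type*} [Group A] [Group B]

theorem conj_pow_eq_iterate {f : QuaternionGroup 2 →* A} {y : A}
    (h : ∀ u, y * f u * y⁻¹ = f (q8Rot u)) (n : ℕ) (u : QuaternionGroup 2) :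
    y ^ n * f u = f (q8Rot^[n] u) * y ^ n := by
  induction n with
  | zero => simp
  | succ n ih =>
    rw [pow_succ', mul_assoc, ih, Function.iterate_succ_apply', ← h]
    group

theorem q8_pow_four : ∀ u : QuaternionGroup 2, u ^ 4 = 1 := by decide +kernel

theorem q8_ne_one : ∀ u : QuaternionGroup 2, u ≠ 1 →
    u = QuaternionGroup.a 2 ∨ u * u = QuaternionGroup.a 2 := by decide +kernel

theorem rotation_mul {f : QuaternionGroup 2 →* A} {y : A} (hy : y ^ 3 = 1)
    (h : ∀ w, y * f w * y⁻¹ = f (q8Rot w)) (u v : QuaternionGroup 2) (i j : Fin 3) :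
    f u * y ^ (i : ℕ) * (f v * y ^ (j : ℕ)) =
      f (u * q8Rot^[(i : ℕ)] v) * y ^ ((i + j : Fin 3) : ℕ) := by
  rw [mul_assoc, ← mul_assoc (y ^ (i : ℕ)), conj_pow_eq_iterate h, mul_assoc, ← mul_assoc,
    ← map_mul, ← pow_add, Fin.val_add]
  congr 1
  exact pow_eq_pow_mod _ hy

/-- Two groups that are `Q₈` extended by the same rotation are isomorphic. -/
theorem equiv_of_rotation {f : QuaternionGroup 2 →* A} {y : A} {f' : QuaternionGroup 2 →* B} {y' : B}
    (hy : y ^ 3 = 1) (hy' : y' ^ 3 = 1)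
    (h : ∀ u, y * f u * y⁻¹ = f (q8Rot u)) (h' : ∀ u, y' * f' u * y'⁻¹ = f' (q8Rot u))
    (hbij : Function.Bijective fun q : QuaternionGroup 2 × Fin 3 => f q.1 * y ^ (q.2 : ℕ))
    (hbij' : Function.Bijective fun q : QuaternionGroup 2 × Fin 3 => f' q.1 * y' ^ (q.2 : ℕ)) :
    Nonempty (A ≃* B) := by
  let E := (Equiv.ofBijective _ hbij).symm.trans (Equiv.ofBijective _ hbij')
  have hE : ∀ q : QuaternionGroup 2 × Fin 3,
      E (f q.1 * y ^ (q.2 : ℕ)) = f' q.1 * y' ^ (q.2 : ℕ) := fun q => by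
    show (Equiv.ofBijective _ hbij') ((Equiv.ofBijective _ hbij).symm (f q.1 * y ^ (q.2 : ℕ))) = _
    rw [show f q.1 * y ^ (q.2 : ℕ) = Equiv.ofBijective _ hbij q from rfl, Equiv.symm_apply_apply]
    rfl
  refine ⟨MulEquiv.mk' E fun g g' => ?_⟩
  obtain ⟨⟨u, i⟩, rfl⟩ := hbij.surjective g
  obtain ⟨⟨v, j⟩, rfl⟩ := hbij.surjective g'
  show E (f u * y ^ (i : ℕ) * (f v * y ^ (j : ℕ))) = _
  rw [rotation_mul hy h, hE (_, i + j), hE (u, i), hE (v, j), rotation_mul hy' h']

variable {G : Type*} [Group G] [Finite G]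

/-- A rotated `Q₈` yields a section isomorphic to `SL(2,3)`. -/
theorem exists_sl23_section {a b y : G} (h : Q8Rotation a b y) :
    ∃ (H K : Subgroup G) (hK : (K.subgroupOf H).Normal),
      Nonempty ((H ⧸ K.subgroupOf H) ≃* Matrix.SpecialLinearGroup (Fin 2) (ZMod 3)) := by
  classical
  haveI : Fact (Nat.Prime 3) := ⟨by norm_num⟩
  set f : QuaternionGroup 2 →* G := TwoFusion36.quatLift a b
    (by rw [show 2 * 2 = 2 + 2 from rfl, pow_add, pow_two]; exact h.pow_four)
    (by rw [pow_two]; exact h.sq_eq) h.inverts with hf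
  have fa : f (QuaternionGroup.a 1) = a := by
    rw [hf]
    show (TwoFusion36.zpw a _ (1 : ZMod (2 * 2))).toMul = a
    rw [show (1 : ZMod (2 * 2)) = ((1 : ℤ) : ZMod (2 * 2)) by simp, TwoFusion36.zpw_intCast,
      zpow_one]
  have fb : f (QuaternionGroup.xa 0) = b := by
    rw [hf]
    show b * (TwoFusion36.zpw a _ (0 : ZMod (2 * 2))).toMul = b
    simp
  have hgen : ∀ u : QuaternionGroup 2, ∃ i : ℕ, u = QuaternionGroup.a 1 ^ i ∨
      u = QuaternionGroup.xa 0 * QuaternionGroup.a 1 ^ i := by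
    intro u
    cases u with
    | a i => exact ⟨i.val, Or.inl (by rw [a_one_pow, ZMod.natCast_zmod_val])⟩
    | xa i => exact ⟨i.val, Or.inr (by rw [a_one_pow, ZMod.natCast_zmod_val, xa_mul_a, zero_add])⟩
  let rot : QuaternionGroup 2 →* QuaternionGroup 2 := MonoidHom.mk' q8Rot q8Rot_mul
  have hrot : ∀ u, y * f u * y⁻¹ = f (q8Rot u) := by
    have e1 : y * f (QuaternionGroup.a 1) * y⁻¹ = f (q8Rot (QuaternionGroup.a 1)) := by
      rw [show q8Rot (QuaternionGroup.a 1) = QuaternionGroup.xa 0 from rfl, fa, fb, h.conj_a]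
    have e2 : y * f (QuaternionGroup.xa 0) * y⁻¹ = f (q8Rot (QuaternionGroup.xa 0)) := by
      rw [show q8Rot (QuaternionGroup.xa 0) = QuaternionGroup.a 1 * QuaternionGroup.xa 0 from rfl,
        fb, map_mul, fa, fb, h.conj_b]
    intro u
    have := (hgen u)
    obtain ⟨i, rfl | rfl⟩ := this
    · show y * f (QuaternionGroup.a 1 ^ i) * y⁻¹ = f (rot (QuaternionGroup.a 1 ^ i))
      rw [map_pow, map_pow, map_pow, ← conj_pow, e1]
      rfl
    · show y * f (_ * QuaternionGroup.a 1 ^ i) * y⁻¹ = f (rot (_ * QuaternionGroup.a 1 ^ i))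
      rw [map_mul, map_mul, map_mul, map_pow, map_pow, map_pow,
        show y * (f (QuaternionGroup.xa 0) * f (QuaternionGroup.a 1) ^ i) * y⁻¹ =
          y * f (QuaternionGroup.xa 0) * y⁻¹ * (y * f (QuaternionGroup.a 1) ^ i * y⁻¹) by group,
        ← conj_pow, e1, e2]
      rfl
  have hrot3 : ∀ u : QuaternionGroup 2, q8Rot^[3] u = u := by decide +kernel
  have hy3 : ∀ u, Commute (y ^ 3) (f u) := fun u => by
    show y ^ 3 * f u = f u * y ^ 3
    rw [conj_pow_eq_iterate hrot, hrot3]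
  -- the order of `y`
  have hyne : y ∉ Subgroup.zpowers (y ^ 3) := by
    intro hy
    obtain ⟨k, hk⟩ := Subgroup.mem_zpowers_iff.mp hy
    have h1 : Commute y (f (QuaternionGroup.a 1)) := hk ▸ (hy3 _).zpow_left k
    rw [fa] at h1
    have hab : b = a := by rw [← h.conj_a, h1.eq, mul_inv_cancel_right]
    have h2 := h.inverts
    rw [hab, mul_inv_cancel_right, eq_inv_iff_mul_eq_one] at h2
    exact h.sq_ne h2
  set H : Subgroup G := f.range ⊔ Subgroup.zpowers y with hH
  have hfH : ∀ u, f u ∈ H := fun u => Subgroup.mem_sup_left ⟨u, rfl⟩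
  have hyH : y ∈ H := Subgroup.mem_sup_right (Subgroup.mem_zpowers y)
  have hcen : ∀ x ∈ H, Commute (y ^ 3) x := by
    intro x hx
    have hle : H ≤ Subgroup.centralizer ({y ^ 3} : Set G) := by
      rw [hH, sup_le_iff, Subgroup.zpowers_le]
      refine ⟨?_, Subgroup.mem_centralizer_singleton_iff.mpr (Commute.self_pow y 3).eq⟩
      rintro _ ⟨u, rfl⟩
      exact Subgroup.mem_centralizer_singleton_iff.mpr (hy3 u).eq.symm
    exact (Subgroup.mem_centralizer_singleton_iff.mp (hle hx)).symm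
  haveI hKn : ((Subgroup.zpowers (y ^ 3)).subgroupOf H).Normal := ⟨fun x hx g => by
    rw [Subgroup.mem_subgroupOf] at hx ⊢
    obtain ⟨k, hk⟩ := Subgroup.mem_zpowers_iff.mp hx
    simp only [Subgroup.coe_mul, InvMemClass.coe_inv]
    rw [← hk, ((hcen g g.2).zpow_left k).eq.symm, mul_inv_cancel_right]
    exact Subgroup.zpow_mem_zpowers _ k⟩
  refine ⟨H, Subgroup.zpowers (y ^ 3), hKn, ?_⟩
  set π := QuotientGroup.mk' ((Subgroup.zpowers (y ^ 3)).subgroupOf H) with hπ
  set f' : QuaternionGroup 2 →* H ⧸ (Subgroup.zpowers (y ^ 3)).subgroupOf H :=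
    π.comp (f.codRestrict H hfH) with hf'
  set y' := π ⟨y, hyH⟩ with hy'
  have hker : ∀ x : H, π x = 1 ↔ (x : G) ∈ Subgroup.zpowers (y ^ 3) := fun x => by
    rw [hπ, QuotientGroup.mk'_apply, QuotientGroup.eq_one_iff, Subgroup.mem_subgroupOf]
  have hy'3 : y' ^ 3 = 1 := by
    rw [hy', ← map_pow, hker, SubgroupClass.coe_pow]
    exact Subgroup.mem_zpowers _
  have hrot' : ∀ u, y' * f' u * y'⁻¹ = f' (q8Rot u) := fun u => by
    show π ⟨y, hyH⟩ * π ⟨f u, hfH u⟩ * (π ⟨y, hyH⟩)⁻¹ = π ⟨f (q8Rot u), hfH _⟩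
    rw [← map_mul, ← map_inv, ← map_mul]
    exact congrArg π (Subtype.ext (hrot u))
  have hbij' : Function.Bijective fun q : QuaternionGroup 2 × Fin 3 => f' q.1 * y' ^ (q.2 : ℕ) := by
    have hinj : Function.Injective f' := by
      rw [injective_iff_map_eq_one]
      intro u hu
      have hu' : f u ∈ Subgroup.zpowers (y ^ 3) := (hker _).mp hu
      have h1 : f u = 1 := orderOf_eq_one_iff.mp (Nat.eq_one_of_dvd_coprimes
        (show (4 : ℕ).Coprime (orderOf y) from
          (show (2 ^ 2).Coprime (orderOf y) from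
            Nat.Coprime.pow_left 2 (Nat.coprime_two_left.mpr h.odd)))
        (orderOf_dvd_of_pow_eq_one (by
          rw [← map_pow, q8_pow_four u, map_one]))
        ((Subgroup.orderOf_dvd_natCard _ hu').trans (by
          rw [Nat.card_zpowers]; exact orderOf_pow_dvd 3)))
      -- `f` is injective
      by_contra hu1
      have ha2 : f (QuaternionGroup.a 2) = 1 := by
        rcases q8_ne_one u hu1 with e | e
        · rw [← e, h1]
        · rw [← e, map_mul, h1, one_mul]
      rw [show (QuaternionGroup.a 2 : QuaternionGroup 2) =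
        QuaternionGroup.a 1 * QuaternionGroup.a 1 from rfl, map_mul, fa] at ha2
      exact h.sq_ne ha2
    have hord : orderOf y' = 3 := orderOf_eq_prime hy'3 (fun e => hyne ((hker _).mp e))
    have hsep : ∀ u (k : ℕ), f' u = y' ^ k → u = 1 := by
      intro u k e
      refine hinj (by rw [map_one]; exact orderOf_eq_one_iff.mp (Nat.eq_one_of_dvd_coprimes
        (show (4 : ℕ).Coprime 3 by norm_num) (orderOf_dvd_of_pow_eq_one (by
          rw [← map_pow, q8_pow_four u, map_one]))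
        (orderOf_dvd_of_pow_eq_one (by rw [e, ← pow_mul, mul_comm, pow_mul, hy'3, one_pow]))))
    constructor
    · rintro ⟨u, i⟩ ⟨v, j⟩ e
      simp only at e
      have h1 : f' (v⁻¹ * u) = y' ^ ((j : ℕ) + 2 * (i : ℕ)) := by
        have h2 : f' u = f' v * y' ^ (j : ℕ) * (y' ^ (i : ℕ))⁻¹ := by
          rw [← e, mul_inv_cancel_right]
        have h3 : (y' ^ (i : ℕ))⁻¹ = y' ^ (2 * (i : ℕ)) := by
          rw [inv_eq_iff_mul_eq_one, ← pow_add, show (i : ℕ) + 2 * (i : ℕ) = 3 * i by ring,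
            pow_mul, hy'3, one_pow]
        rw [map_mul, map_inv, h2, h3, pow_add]
        group
      have huv : u = v := (inv_mul_eq_one.mp (hsep _ _ h1)).symm
      subst huv
      rw [mul_left_cancel_iff] at e
      exact Prod.ext rfl (Fin.ext (pow_injOn_Iio_orderOf (by rw [Set.mem_Iio, hord]; exact i.isLt)
        (by rw [Set.mem_Iio, hord]; exact j.isLt) e))
    · intro g
      obtain ⟨⟨x, hx⟩, rfl⟩ := QuotientGroup.mk'_surjective _ g
      let W : Subgroup G :=
        { carrier := {z | ∃ (u : QuaternionGroup 2) (n : ℕ), z = f u * y ^ n}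
          one_mem' := ⟨1, 0, by simp⟩
          mul_mem' := by
            rintro _ _ ⟨u, n, rfl⟩ ⟨v, k, rfl⟩
            refine ⟨u * q8Rot^[n] v, n + k, ?_⟩
            rw [mul_assoc, ← mul_assoc (y ^ n), conj_pow_eq_iterate hrot, mul_assoc, ← mul_assoc,
              ← map_mul, ← pow_add]
          inv_mem' := by
            rintro _ ⟨u, n, rfl⟩
            refine ⟨q8Rot^[(orderOf y - 1) * n] u⁻¹, (orderOf y - 1) * n, ?_⟩
            rw [mul_inv_rev, ← map_inv, ← conj_pow_eq_iterate hrot]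
            congr 1
            rw [inv_eq_iff_mul_eq_one, ← pow_add, show n + (orderOf y - 1) * n = orderOf y * n by
              rw [Nat.sub_one_mul]
              have := Nat.le_mul_of_pos_left n (orderOf_pos y)
              omega, pow_mul, pow_orderOf_eq_one, one_pow] }
      have hW : H ≤ W := by
        rw [hH, sup_le_iff, Subgroup.zpowers_le]
        exact ⟨by rintro _ ⟨u, rfl⟩; exact ⟨u, 0, by simp⟩, ⟨1, 1, by simp⟩⟩
      obtain ⟨u, n, hxn⟩ := hW hx
      refine ⟨(u, ⟨n % 3, Nat.mod_lt _ (by norm_num)⟩), ?_⟩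
      show π ⟨f u, hfH u⟩ * (π ⟨y, hyH⟩) ^ (n % 3) = π ⟨x, hx⟩
      rw [← hy', ← pow_eq_pow_mod n hy'3, hy', ← map_pow, ← map_mul]
      exact congrArg π (Subtype.ext (by simp [hxn]))
  obtain ⟨t, ht3, htrot, htgen⟩ := sl23_exists_rotation
  have hbij : Function.Bijective fun q : QuaternionGroup 2 × Fin 3 =>
      FG72.SL2Three.quat q.1 * t ^ (q.2 : ℕ) := by
    rw [Fintype.bijective_iff_surjective_and_card]
    refine ⟨fun g => ?_, by decide +kernel⟩
    obtain ⟨u, i, hi⟩ := htgen g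
    exact ⟨(u, i), hi.symm⟩
  exact equiv_of_rotation hy'3 ht3 hrot' (f' := FG72.SL2Three.quat) htrot hbij' hbij

end Cfsg.Agent.ZStar
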