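import Cfsg.Agent.ZStar.SmallTwo
import Cfsg.Agent.Lib.Involution.KleinSylow
import Mathlib.GroupTheory.Transfer

/-!
# Sylow 2-subgroups with exactly three involutions, abelian
-/

set_option autoImplicit false

open Cfsg

namespace Cfsg.Agent.ZStar

variable {G : Type*} [Group G] [Finite G]

/-- An abelian Sylow 2-subgroup with exactly three involutions. -/
structure ThreeInv (P : Sylow 2 G) (a b : G) : Prop where
  comm : ∀ x ∈ P, ∀ y ∈ P, x * y = y * x
  a_mem : a ∈ P
  b_mem : b ∈ P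
  a_sq : a * a = 1
  b_sq : b * b = 1
  a_ne : a ≠ 1
  b_ne : b ≠ 1
  ne : a ≠ b
  inv_mem : ∀ x ∈ P, x * x = 1 → x = 1 ∨ x = a ∨ x = b ∨ x = a * b

theorem zmod_two_pow_double {m : ℕ} (y : ZMod (2 ^ (m + 1))) (h : y + y = 0) :
    y = 0 ∨ y = ((2 ^ m : ℕ) : ZMod (2 ^ (m + 1))) := by
  have h1 : (2 ^ (m + 1)) ∣ y.val + y.val := by
    rw [← ZMod.natCast_eq_zero_iff, Nat.cast_add, ZMod.natCast_zmod_val, h]
  obtain ⟨c, hc⟩ := h1
  have hlt := y.val_lt
  have hp : 2 ^ (m + 1) = 2 * 2 ^ m := pow_succ' 2 m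
  have hc2 : c < 2 := by
    by_contra hh
    have : 2 ^ (m + 1) * 2 ≤ 2 ^ (m + 1) * c := Nat.mul_le_mul_left _ (by omega)
    omega
  rcases (by omega : c = 0 ∨ c = 1) with rfl | rfl
  · left
    rw [← ZMod.natCast_zmod_val y, show y.val = 0 by omega, Nat.cast_zero]
  · right
    rw [← ZMod.natCast_zmod_val y, show y.val = 2 ^ m by omega]

theorem threeInv_of_equiv (P : Sylow 2 G) {m : ℕ} (hm : 1 ≤ m)
    (e : (P : Subgroup G) ≃* Multiplicative (ZMod (2 ^ m) × ZMod (2 ^ m))) :
    ∃ a b : G, ThreeInv P a b := by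
  obtain ⟨k, rfl⟩ : ∃ k, m = k + 1 := ⟨m - 1, by omega⟩
  set h : ZMod (2 ^ (k + 1)) := ((2 ^ k : ℕ) : ZMod (2 ^ (k + 1))) with hh
  have hh2 : h + h = 0 := by
    rw [hh, ← Nat.cast_add, ← two_mul, ← pow_succ', ZMod.natCast_self]
  have hh0 : h ≠ 0 := by
    rw [hh, Ne, ZMod.natCast_eq_zero_iff]
    intro hd
    have := Nat.le_of_dvd (by positivity) hd
    have : 2 ^ k < 2 ^ (k + 1) := Nat.pow_lt_pow_right one_lt_two (by omega)
    omega
  let A : (P : Subgroup G) := e.symm (Multiplicative.ofAdd (h, 0))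
  let B : (P : Subgroup G) := e.symm (Multiplicative.ofAdd (0, h))
  have hA : A * A = 1 := by
    rw [← map_mul, ← ofAdd_add]
    simp [hh2]
  have hB : B * B = 1 := by
    rw [← map_mul, ← ofAdd_add]
    simp [hh2]
  refine ⟨A, B, ⟨?_, A.2, B.2, congrArg Subtype.val hA, congrArg Subtype.val hB, ?_, ?_, ?_, ?_⟩⟩
  · intro x hx y hy
    exact congrArg Subtype.val (e.injective (show e (⟨x, hx⟩ * ⟨y, hy⟩) = e (⟨y, hy⟩ * ⟨x, hx⟩) by
      rw [map_mul, map_mul, mul_comm]))
  · intro e1
    have := congrArg e (Subtype.ext e1 : A = 1)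
    simp [A, hh0] at this
  · intro e1
    have := congrArg e (Subtype.ext e1 : B = 1)
    simp [B, hh0] at this
  · intro e1
    have := congrArg e (Subtype.ext e1 : A = B)
    simp [A, B, hh0] at this
  · intro x hx hxx
    set v := Multiplicative.toAdd (e ⟨x, hx⟩) with hv
    have hvv : v + v = 0 := by
      rw [hv, ← toAdd_mul, ← map_mul, show (⟨x, hx⟩ : (P : Subgroup G)) * ⟨x, hx⟩ = 1 from
        Subtype.ext hxx, map_one, toAdd_one]
    have hx' : (⟨x, hx⟩ : (P : Subgroup G)) = e.symm (Multiplicative.ofAdd v) := by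
      rw [hv, ofAdd_toAdd, MulEquiv.symm_apply_apply]
    have hxG : x = ((e.symm (Multiplicative.ofAdd v) : (P : Subgroup G)) : G) :=
      congrArg Subtype.val hx'
    rcases zmod_two_pow_double v.1 (congrArg Prod.fst hvv) with h1 | h1 <;>
      rcases zmod_two_pow_double v.2 (congrArg Prod.snd hvv) with h2 | h2 <;>
      rw [← hh] at * <;> rw [hxG, show v = (v.1, v.2) from rfl, h1, h2]
    · left; simp
    · right; right; left; rfl
    · right; left; rfl
    · right; right; right
      rw [← Subgroup.coe_mul, ← map_mul, ← ofAdd_add]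
      simp

variable {P : Sylow 2 G} {a b : G}

theorem ThreeInv.sylow_le_centralizer (h : ThreeInv P a b) :
    (P : Subgroup G) ≤ Subgroup.centralizer ((P : Subgroup G) : Set G) :=
  fun x hx => Subgroup.mem_centralizer_iff.mpr fun y hy => h.comm y hy x hx

/-- A normalising element fixing an involution centralises the Sylow subgroup. -/
theorem ThreeInv.mem_centralizer_of_fix (h : ThreeInv P a b) {n : G}
    (hn : n ∈ Subgroup.normalizer ((P : Subgroup G) : Set G)) {z : G} (hz : z ∈ P) (hzz : z * z = 1)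
    (hz1 : z ≠ 1) (hfix : n * z = z * n) :
    n ∈ Subgroup.centralizer ((P : Subgroup G) : Set G) := by
  haveI : Fact (Nat.Prime 2) := ⟨Nat.prime_two⟩
  obtain ⟨k, m, hm, hord⟩ := Nat.exists_eq_two_pow_mul_odd (orderOf_pos n).ne'
  have h1 : n ^ m ∈ Subgroup.centralizer ((P : Subgroup G) : Set G) := by
    refine h.sylow_le_centralizer ?_
    have hle : Subgroup.zpowers (n ^ m) ≤ Subgroup.normalizer ((P : Subgroup G) : Set G) :=
      Subgroup.zpowers_le.mpr (pow_mem hn m)
    have hp : IsPGroup 2 (Subgroup.zpowers (n ^ m)) := IsPGroup.of_card (n := k) (by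
      rw [Nat.card_zpowers, orderOf_pow' _ hm.pos.ne', hord,
        Nat.gcd_eq_right (Dvd.intro_left _ rfl), Nat.mul_div_cancel _ hm.pos])
    exact P.is_maximal' (hp.to_sup_of_normal_right' P.isPGroup' hle) le_sup_right ▸
      Subgroup.mem_sup_left (Subgroup.mem_zpowers _)
  set q := n ^ 2 ^ k with hq
  have hqodd : Odd (orderOf q) := by
    rw [hq, orderOf_pow_of_dvd (by positivity) (hord ▸ dvd_mul_right _ _), hord,
      Nat.mul_div_cancel_left _ (by positivity)]
    exact hm
  have hqN : q ∈ Subgroup.normalizer ((P : Subgroup G) : Set G) := pow_mem hn _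
  have hqz : Commute q z := (Commute.pow_left hfix _)
  have hmap : ∀ x ∈ P, x * x = 1 → x ≠ 1 →
      q * x * q⁻¹ ∈ P ∧ q * x * q⁻¹ * (q * x * q⁻¹) = 1 ∧ q * x * q⁻¹ ≠ 1 := fun x hx hxx hx1 =>
    ⟨(Subgroup.mem_normalizer_iff.mp hqN x).mp hx, by
      rw [show q * x * q⁻¹ * (q * x * q⁻¹) = q * (x * x) * q⁻¹ by group, hxx]; group,
      fun e => hx1 (conj_eq_one_iff.mp e)⟩
  have hfixall : ∀ x ∈ P, x * x = 1 → q * x = x * q := by
    intro x hx hxx
    by_contra hnc
    have hx1 : x ≠ 1 := fun e => hnc (by simp [e])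
    have hxz : x ≠ z := fun e => hnc (e ▸ hqz.eq)
    have hmov : q * x * q⁻¹ ≠ x := fun e => hnc (mul_inv_eq_iff_eq_mul.mp e)
    obtain ⟨hy, hyy, hy1⟩ := hmap x hx hxx hx1
    have hyz : q * x * q⁻¹ ≠ z := fun e => hxz (by
      calc x = q⁻¹ * (q * x * q⁻¹) * q := by group
        _ = q⁻¹ * z * q := by rw [e]
        _ = z := by rw [mul_assoc, ← hqz.eq, inv_mul_cancel_left])
    obtain ⟨hw, hww, hw1⟩ := hmap _ hy hyy hy1
    have hwy : q * (q * x * q⁻¹) * q⁻¹ ≠ q * x * q⁻¹ := fun e =>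
      hmov (mul_left_cancel (mul_right_cancel e))
    have hwz : q * (q * x * q⁻¹) * q⁻¹ ≠ z := fun e => hyz (by
      calc q * x * q⁻¹ = q⁻¹ * (q * (q * x * q⁻¹) * q⁻¹) * q := by group
        _ = q⁻¹ * z * q := by rw [e]
        _ = z := by rw [mul_assoc, ← hqz.eq, inv_mul_cancel_left])
    -- only three involutions
    have hwx : q * (q * x * q⁻¹) * q⁻¹ = x := by
      have c1 := h.inv_mem x hx hxx
      have c2 := h.inv_mem z hz hzz
      have c3 := h.inv_mem _ hy hyy
      have c4 := h.inv_mem _ hw hww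
      generalize q * (q * x * q⁻¹) * q⁻¹ = w at c4 hw1 hwy hwz ⊢
      generalize q * x * q⁻¹ = y at c3 hy1 hyz hwy hmov
      rcases c1 with c1 | c1 | c1 | c1 <;> rcases c2 with c2 | c2 | c2 | c2 <;>
        rcases c3 with c3 | c3 | c3 | c3 <;> rcases c4 with c4 | c4 | c4 | c4 <;>
        first
        | exact absurd c1 hx1
        | exact absurd c2 hz1
        | exact absurd c3 hy1
        | exact absurd c4 hw1
        | exact absurd (c1.trans c2.symm) hxz
        | exact absurd (c3.trans c1.symm) hmov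
        | exact absurd (c3.trans c2.symm) hyz
        | exact absurd (c4.trans c3.symm) hwy
        | exact absurd (c4.trans c2.symm) hwz
        | exact c4.trans c1.symm
    obtain ⟨j, hj⟩ := hqodd
    have h2 : Commute (q * q) x := mul_inv_eq_iff_eq_mul.mp (by
      rw [show q * q * x * (q * q)⁻¹ = q * (q * x * q⁻¹) * q⁻¹ by group, hwx])
    have hq1 : q = (q * q) ^ (j + 1) := by
      rw [← pow_two, ← pow_mul, show 2 * (j + 1) = 2 * j + 1 + 1 by ring, pow_succ, ← hj,
        pow_orderOf_eq_one, one_mul]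
    exact hnc (hq1 ▸ (h2.pow_left (j + 1)).eq)
  have h2 : q ∈ Subgroup.centralizer ((P : Subgroup G) : Set G) :=
    Subgroup.mem_centralizer_iff.mpr fun x hx =>
      (commute_of_fix_involutions P.2 h.comm hqN hqodd hfixall x hx).symm
  have hbez := Int.gcd_eq_gcd_ab (m : ℤ) ((2 ^ k : ℕ) : ℤ)
  rw [Int.gcd_natCast_natCast, Nat.Coprime.pow_right k (Nat.coprime_two_right.mpr hm),
    Nat.cast_one] at hbez
  rw [show n = (n ^ m) ^ Int.gcdA (m : ℤ) ((2 ^ k : ℕ) : ℤ) *
    q ^ Int.gcdB (m : ℤ) ((2 ^ k : ℕ) : ℤ) by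
      rw [hq, ← zpow_natCast n m, ← zpow_natCast n (2 ^ k), ← zpow_mul, ← zpow_mul, ← zpow_add,
        ← hbez, zpow_one]]
  exact mul_mem (zpow_mem h1 _) (zpow_mem h2 _)

/-- Some power of a nontrivial 2-element is an involution. -/
theorem exists_pow_involution {z : G} {k : ℕ} (hk : z ^ 2 ^ k = 1) (hz1 : z ≠ 1) :
    ∃ j : ℕ, z ^ j * z ^ j = 1 ∧ z ^ j ≠ 1 := by
  induction k with
  | zero => exact absurd (by simpa using hk) hz1
  | succ k ih =>
    by_cases h : z ^ 2 ^ k = 1
    · exact ih h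
    · exact ⟨2 ^ k, by rw [← pow_add, ← two_mul, ← pow_succ', hk], h⟩

/-- A normalising element fixing a nontrivial element centralises the Sylow subgroup. -/
theorem ThreeInv.mem_centralizer_of_fix' (h : ThreeInv P a b) {n : G}
    (hn : n ∈ Subgroup.normalizer ((P : Subgroup G) : Set G)) {z : G} (hz : z ∈ P) (hz1 : z ≠ 1)
    (hfix : n * z = z * n) : n ∈ Subgroup.centralizer ((P : Subgroup G) : Set G) := by
  obtain ⟨k, hk⟩ := P.2 ⟨z, hz⟩
  obtain ⟨j, hj1, hj2⟩ := exists_pow_involution (congrArg Subtype.val hk : z ^ 2 ^ k = 1) hz1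
  exact h.mem_centralizer_of_fix hn (pow_mem hz j) hj1 hj2 (Commute.pow_right hfix j)

theorem ThreeInv.relIndex_dichotomy (h : ThreeInv P a b) :
    Subgroup.normalizer ((P : Subgroup G) : Set G) ≤
        Subgroup.centralizer ((P : Subgroup G) : Set G) ∧
      (Subgroup.centralizer ((P : Subgroup G) : Set G)).relIndex
        (Subgroup.normalizer ((P : Subgroup G) : Set G)) = 1 ∨
    (∀ x ∈ P, x * x = 1 → x ≠ 1 →
        ∃ n ∈ Subgroup.normalizer ((P : Subgroup G) : Set G), n * a * n⁻¹ = x) ∧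
      (Subgroup.centralizer ((P : Subgroup G) : Set G)).relIndex
        (Subgroup.normalizer ((P : Subgroup G) : Set G)) = 3 := by
  classical
  haveI : Fact (Nat.Prime 2) := ⟨Nat.prime_two⟩
  set N := Subgroup.normalizer ((P : Subgroup G) : Set G) with hN
  set C := Subgroup.centralizer ((P : Subgroup G) : Set G) with hC
  let S : Finset G := {a, b, a * b}
  have hab1 : a * b ≠ 1 := fun e => h.ne (by
    rw [← inv_eq_of_mul_eq_one_right e, inv_eq_of_mul_eq_one_right h.a_sq])
  have hS : ∀ n : N, (n : G) * a * (n : G)⁻¹ ∈ S := fun n => by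
    have hm := (Subgroup.mem_normalizer_iff.mp n.2 a).mp h.a_mem
    rcases h.inv_mem _ hm (by
      rw [show (n : G) * a * (n : G)⁻¹ * ((n : G) * a * (n : G)⁻¹) = (n : G) * (a * a) * (n : G)⁻¹
        by group, h.a_sq]; group) with e | e | e | e
    · exact absurd (conj_eq_one_iff.mp e) h.a_ne
    all_goals simp [S, e]
  let f : N ⧸ C.subgroupOf N → S := Quotient.lift (fun n => (⟨_, hS n⟩ : S)) fun n n' hnn => by
    have h1 : n⁻¹ * n' ∈ C.subgroupOf N := QuotientGroup.leftRel_apply.mp hnn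
    refine Subtype.ext ?_
    show (n : G) * a * (n : G)⁻¹ = (n' : G) * a * (n' : G)⁻¹
    have h2 := Subgroup.mem_centralizer_iff.mp h1 a h.a_mem
    simp only [Subgroup.coe_subtype, Subgroup.coe_mul, InvMemClass.coe_inv] at h2
    calc (n : G) * a * (n : G)⁻¹ = (n : G) * (a * ((n : G)⁻¹ * n')) * (n' : G)⁻¹ := by group
      _ = (n' : G) * a * (n' : G)⁻¹ := by rw [h2]; group
  have hf : Function.Injective f := by
    intro q q'
    induction q using QuotientGroup.induction_on with
    | H n =>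
      induction q' using QuotientGroup.induction_on with
      | H n' =>
        intro e
        have e' : (n : G) * a * (n : G)⁻¹ = (n' : G) * a * (n' : G)⁻¹ := congrArg Subtype.val e
        rw [QuotientGroup.eq, Subgroup.mem_subgroupOf]
        refine h.mem_centralizer_of_fix (n⁻¹ * n').2 h.a_mem h.a_sq h.a_ne ?_
        simp only [Subgroup.coe_mul, InvMemClass.coe_inv]
        calc (n : G)⁻¹ * n' * a = (n : G)⁻¹ * ((n' : G) * a * (n' : G)⁻¹) * n' := by group
          _ = a * ((n : G)⁻¹ * n') := by rw [← e']; group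
  have hS3 : S.card = 3 := Finset.card_eq_three.mpr ⟨a, b, a * b, h.ne,
    fun e => h.b_ne (left_eq_mul.mp e), fun e => h.a_ne (right_eq_mul.mp e), rfl⟩
  have hle : C.relIndex N ≤ 3 := by
    rw [Subgroup.relIndex, Subgroup.index_eq_card, ← hS3, ← Nat.card_eq_finsetCard S]
    exact Nat.card_le_card_of_injective f hf
  have hodd : ¬ 2 ∣ C.relIndex N := by
    intro hd
    apply P.not_dvd_index
    have hPN : (P : Subgroup G) ≤ C ⊓ N := le_inf h.sylow_le_centralizer Subgroup.le_normalizer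
    have h1 : C.relIndex N ∣ (C ⊓ N).index := by
      rw [← Subgroup.inf_relIndex_right]
      exact Subgroup.relIndex_dvd_index_of_le inf_le_right
    exact hd.trans (h1.trans (Subgroup.index_dvd_of_le hPN))
  have hpos : C.relIndex N ≠ 0 := Subgroup.index_ne_zero_of_finite
  rcases (by omega : C.relIndex N = 1 ∨ C.relIndex N = 3) with h1 | h3
  · exact Or.inl ⟨Subgroup.relIndex_eq_one.mp h1, h1⟩
  · refine Or.inr ⟨fun x hx hxx hx1 => ?_, h3⟩
    have hsurj : Function.Surjective f := (Nat.bijective_iff_injective_and_card f).mpr ⟨hf, by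
      rw [Nat.card_eq_finsetCard, hS3, ← Subgroup.index_eq_card]; exact h3⟩ |>.surjective
    have hxS : x ∈ S := by
      rcases h.inv_mem x hx hxx with e | e | e | e
      · exact absurd e hx1
      all_goals simp [S, e]
    obtain ⟨q, hq⟩ := hsurj ⟨x, hxS⟩
    induction q using QuotientGroup.induction_on with
    | H n => exact ⟨n, n.2, congrArg Subtype.val hq⟩

end Cfsg.Agent.ZStar
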