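import Cfsg.Agent.ZStar.Blocks
import Cfsg.Agent.Lib.CharCore.Eigen

/-!
# Characters outside the principal block on a section with nilpotent centralizer
-/

set_option autoImplicit false

open Cfsg

namespace Cfsg.Agent.ZStar

variable {G : Type*} [Group G] [Fintype G] [DecidableEq G] {p : ℕ} {M : Ideal AlgInt}
variable [Fact p.Prime] {u : G} {K : Subgroup G}

/-- When `C(u) / K` is an abelian `p`-group, a character outside the principal block averages to
zero on `u K`. -/
theorem sum_eq_zero_of_abelian (hM : IsPModular p M) (h : SectionData p u K)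
    (hgen : ∀ c ∈ Subgroup.centralizer ({u} : Set G), ∃ v ∈ Subgroup.centralizer ({u} : Set G),
      ∃ k ∈ K, c = v * k ∧ (∃ n : ℕ, v ^ p ^ n = 1) ∧
        ∀ b ∈ Subgroup.centralizer ({u} : Set G), v * b * v⁻¹ * b⁻¹ ∈ K)
    {χ : IrrCharacter G} (hχ : χ ∉ principalBlock M G) :
    ∑ᶠ k : K, (χ : G → ℂ) (u * k) = 0 := by
  classical
  have := BlocksCore.isPrime hM
  haveI := Fintype.ofFinite (Subgroup.centralizer ({u} : Set G))
  have hB : IsPBlock M (blockOf M (χ : G → ℂ)) := BlocksCore.isPBlock_blockOf χ
  have hne : blockOf M (χ : G → ℂ) ≠ principalBlock M G := fun he =>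
    hχ (he ▸ BlocksCore.mem_blockOf_self χ)
  set e := blockCoeff (blockOf M (χ : G → ℂ))
  have he : BlocksCore.IsIntClassFun M e := BlocksCore.isIntClassFun_blockCoeff hM hB
  have hee : BlocksCore.conv e e = e := BlocksCore.conv_blockCoeff_self _
  have huC : u ∈ (Subgroup.centralizer ({u} : Set G)) := by
    rw [Subgroup.mem_centralizer_singleton_iff]
  have hsmall := small_on_centralizer hM h e (avgFun K) he hee (avgFun_memLocalRing hM h.coprime)
    (fun g hg => avgFun_apply_notMem fun hk => hg (h.le hk))
    (fun x hx => avgFun_conjInv (h.normal hx)) (conv_avgFun_self K) (by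
    intro ξ
    rw [res_avgFun h.le]
    rcases omega_avg hM h ξ with ⟨h1, htriv⟩ | ⟨h1, -⟩
    · rw [h1, mul_one]
      rcases omega_res_blockCoeff hM h.pow hB ξ with ⟨⟨-, h2⟩, -⟩ | ⟨h2, -⟩
      · refine absurd (h2 ?_) hne
        show SameBlock M (fun _ : (Subgroup.centralizer ({u} : Set G)) => (1 : ℂ))
          (ξ : (Subgroup.centralizer ({u} : Set G)) → ℂ)
        intro g
        obtain ⟨v, hvC, k, hk, hgk, ⟨n₀, hvn⟩, hvK⟩ := hgen g g.2
        obtain ⟨χf, n, ρ, hρ, hχf⟩ := ξ
        subst hχf
        haveI := hρ
        set v' : Subgroup.centralizer ({u} : Set G) := ⟨v, hvC⟩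
        have hξg : ρ.character g = ρ.character v' := by
          rw [show g = v' * ⟨k, h.le hk⟩ from Subtype.ext hgk]
          exact htriv ⟨k, h.le hk⟩ hk _
        have hρK : ∀ x : Subgroup.centralizer ({u} : Set G), (x : G) ∈ K → ρ x = 1 := by
          intro x hx
          have h' : ρ.character x = ρ.character 1 := by
            conv_lhs => rw [← one_mul x]
            exact htriv x hx 1
          rw [Representation.char_one] at h'
          exact (CharCore.character_eq_finrank_iff ρ x).mp h'
        have hzc : IsClassFunction (Subgroup.centralizer ({u} : Set G))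
            (fun x => avgFun (K.subgroupOf (Subgroup.centralizer ({u} : Set G))) (v'⁻¹ * x)) := by
          intro a b
          show avgFun _ (v'⁻¹ * (b * a * b⁻¹)) = avgFun _ (v'⁻¹ * a)
          by_cases ha : v'⁻¹ * a ∈ K.subgroupOf (Subgroup.centralizer ({u} : Set G))
          · rw [avgFun_apply_mem ha, avgFun_apply_mem]
            have h1 : (v'⁻¹ * b * v' * b⁻¹) ∈ K.subgroupOf (Subgroup.centralizer ({u} : Set G)) := by
              rw [Subgroup.mem_subgroupOf]
              have h' := inv_mem (hvK b b.2)
              simp only [Subgroup.coe_mul, InvMemClass.coe_inv]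
              rw [show (v' : G)⁻¹ * b * v' * (b : G)⁻¹ =
                v⁻¹ * ((v * b * v⁻¹ * (b : G)⁻¹)⁻¹) * v by simp [v', mul_assoc]]
              simpa using (Subgroup.mem_normalizer_iff.mp (h.normal (inv_mem hvC)) _).mp h'
            rw [show v'⁻¹ * (b * a * b⁻¹) = v'⁻¹ * b * v' * b⁻¹ * (b * (v'⁻¹ * a) * b⁻¹) by group]
            refine mul_mem h1 ?_
            rw [Subgroup.mem_subgroupOf]
            exact (Subgroup.mem_normalizer_iff.mp (h.normal b.2) _).mp ha
          · rw [avgFun_apply_notMem ha, avgFun_apply_notMem]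
            intro hb
            apply ha
            have h1 : (v'⁻¹ * b⁻¹ * v' * b) ∈
                K.subgroupOf (Subgroup.centralizer ({u} : Set G)) := by
              rw [Subgroup.mem_subgroupOf]
              have h' := inv_mem (hvK _ (inv_mem b.2))
              simp only [Subgroup.coe_mul, InvMemClass.coe_inv]
              rw [show (v' : G)⁻¹ * (b : G)⁻¹ * v' * (b : G) =
                v⁻¹ * ((v * (b : G)⁻¹ * v⁻¹ * (b : G)⁻¹⁻¹)⁻¹) * v by simp [v', mul_assoc]]
              simpa using (Subgroup.mem_normalizer_iff.mp (h.normal (inv_mem hvC)) _).mp h'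
            rw [show v'⁻¹ * a = v'⁻¹ * b⁻¹ * v' * b * (b⁻¹ * (v'⁻¹ * (b * a * b⁻¹)) * b) by group]
            refine mul_mem h1 ?_
            rw [Subgroup.mem_subgroupOf]
            simpa using (Subgroup.mem_normalizer_iff.mp (h.normal (inv_mem b.2)) _).mp hb
        have hsum : ∑ x, avgFun (K.subgroupOf (Subgroup.centralizer ({u} : Set G))) (v'⁻¹ * x) • ρ x
            = ρ v' := by
          rw [Finset.sum_congr rfl (g := fun x =>
            avgFun (K.subgroupOf (Subgroup.centralizer ({u} : Set G))) (v'⁻¹ * x) • ρ v')]
          · rw [← Finset.sum_smul]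
            have h3 : ∑ x, avgFun (K.subgroupOf (Subgroup.centralizer ({u} : Set G))) (v'⁻¹ * x)
                = 1 := by
              rw [Fintype.sum_equiv (Equiv.mulLeft v'⁻¹)
                (fun x => avgFun (K.subgroupOf (Subgroup.centralizer ({u} : Set G))) (v'⁻¹ * x))
                (fun x => avgFun (K.subgroupOf (Subgroup.centralizer ({u} : Set G))) x * 1)
                (fun x => by simp), sum_avgFun, finsum_eq_sum_of_fintype]
              simp [Nat.card_eq_fintype_card]
            rw [h3, one_smul]
          · intro x _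
            by_cases hx : v'⁻¹ * x ∈ K.subgroupOf (Subgroup.centralizer ({u} : Set G))
            · congr 1
              calc ρ x = ρ v' * ρ (v'⁻¹ * x) := by rw [← map_mul, mul_inv_cancel_left]
                _ = ρ v' := by rw [hρK _ (Subgroup.mem_subgroupOf.mp hx), mul_one]
            · simp [avgFun_apply_notMem hx]
        have hscal := BlocksCore.sum_smul_eq_omega_smul ρ hzc
        rw [hsum] at hscal
        set z := BlocksCore.omega ρ.character
          (fun x => avgFun (K.subgroupOf (Subgroup.centralizer ({u} : Set G))) (v'⁻¹ * x))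
        have hdeg : ρ.character 1 = (n : ℂ) := by simp [Representation.char_one]
        have hn : (n : ℂ) ≠ 0 := Nat.cast_ne_zero.mpr (BlocksCore.degree_pos_of_rep ρ).ne'
        have hpow : ∀ j : ℕ, ρ.character (v' ^ j) = z ^ j * (n : ℂ) := fun j => by
          rw [Representation.character, map_pow, hscal, smul_pow, one_pow, map_smul,
            LinearMap.trace_one, Module.finrank_fin_fun, smul_eq_mul]
        have hzq : z ^ p ^ n₀ = 1 := by
          have := hpow (p ^ n₀)
          rw [show v' ^ p ^ n₀ = 1 from Subtype.ext (by simp [v', hvn]), hdeg] at this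
          exact (mul_eq_right₀ hn).mp this.symm
        have hz1 : MemLocalIdeal M (z - 1) :=
          BlocksCore.memLocalIdeal_sub_one_of_pow hM (k := n₀) hzq
        have h1 := hpow 1
        rw [pow_one, pow_one] at h1
        simp only [centralChar]
        rw [hξg, h1, hdeg, mul_one, div_one, mul_div_assoc, mul_div_assoc, div_self hn, mul_one]
        have := BlocksCore.memLocalIdeal_mul_left (BlocksCore.memLocalRing_natCast
          (M := M) (Subgroup.centralizer ({g} : Set (Subgroup.centralizer ({u} : Set G)))).index)
          (BlocksCore.memLocalIdeal_neg hz1)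
        convert this using 1
        ring
      · exact h2
    · rw [h1, mul_zero]; exact BlocksCore.memLocalIdeal_zero)
  set a := BlocksCore.conv e (avgFun K) with ha
  have haa : BlocksCore.conv a a = a := by
    rw [ha]
    calc BlocksCore.conv (BlocksCore.conv e (avgFun K)) (BlocksCore.conv e (avgFun K))
        = BlocksCore.conv e (BlocksCore.conv (BlocksCore.conv (avgFun K) e) (avgFun K)) := by
          simp only [conv_assoc']
      _ = BlocksCore.conv e (BlocksCore.conv (BlocksCore.conv e (avgFun K)) (avgFun K)) := by
          rw [conv_comm_class he.1 (avgFun K)]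
      _ = BlocksCore.conv (BlocksCore.conv e e) (BlocksCore.conv (avgFun K) (avgFun K)) := by
          simp only [conv_assoc']
      _ = _ := by rw [hee, conv_avgFun_self]
  have h0 := sum_mul_translate_eq_zero hM (u := u) (y := (1 : G)) (a := a)
    (h.pow.imp fun k hk => hk.dvd) (by rw [orderOf_one]; exact hM.1.not_dvd_one)
    (Commute.one_right u) (conv_memLocalRing he.2 (avgFun_memLocalRing hM h.coprime)) haa
    (conjInv_conv (conjInv_of_class he.1 u) (avgFun_conjInv (h.normal huC)))
    (fun g => by simp) hsmall (BlocksCore.irr_class χ)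
  rw [ha, sum_conv_blockCoeff_mul, Set.indicator_of_mem (BlocksCore.mem_blockOf_self χ),
    Pi.one_apply, one_mul, sum_avgFun K fun z => (χ : G → ℂ) (u * 1 * z)] at h0
  simp only [mul_one] at h0
  exact (mul_eq_zero.mp h0).resolve_left (inv_ne_zero (Nat.cast_ne_zero.mpr Nat.card_pos.ne'))

end Cfsg.Agent.ZStar
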