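import Cfsg.Agent.ZStar.Trace
import Cfsg.Agent.Lib.BlocksCore.Omega

/-!
# The vanishing theorem for idempotents with trivial Brauer image

For a `p`-element `u`, a commuting `p`-regular `y` and an idempotent function `a` on `G` (for
convolution), invariant under conjugation by `u` and `y` and lying in the local ideal on `C(u)`,
every class function is orthogonal to the translate of `a` by `u * y`.
-/

set_option autoImplicit false

open Cfsg

namespace Cfsg.Agent.ZStar

variable {G : Type*} [Group G] [Fintype G] [DecidableEq G]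

/-- Left multiplication by `a` composed with right translation by `h`, on the group algebra. -/
def gmat (a : G → ℂ) (h : G) : Matrix G G ℂ := Matrix.of fun g g' => a (g * h * g'⁻¹)

/-- The point mass at `x`. -/
def delta (x : G) : G → ℂ := fun g => if g = x then 1 else 0

theorem gmat_mul (a b : G → ℂ) (h k : G) :
    gmat a h * gmat b k = gmat (BlocksCore.conv a b) (h * k) := by
  ext g g'
  rw [Matrix.mul_apply]
  show ∑ m, a (g * h * m⁻¹) * b (m * k * g'⁻¹) = BlocksCore.conv a b (g * (h * k) * g'⁻¹)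
  rw [BlocksCore.conv_apply]
  refine (Fintype.sum_equiv ((Equiv.inv G).trans (Equiv.mulLeft (g * h))) _ _ fun m => ?_)
  simp [mul_assoc]

theorem gmat_one : gmat (delta 1) (1 : G) = 1 := by
  ext g g'
  show (if g * 1 * g'⁻¹ = 1 then (1 : ℂ) else 0) = _
  rw [Matrix.one_apply, mul_one]
  exact if_congr mul_inv_eq_one rfl rfl

theorem conv_delta_left (x : G) (a : G → ℂ) :
    BlocksCore.conv (delta x) a = fun g => a (x⁻¹ * g) := by
  funext g
  simp [BlocksCore.conv_apply, delta]

theorem conv_delta_right (x : G) (a : G → ℂ) :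
    BlocksCore.conv a (delta x) = fun g => a (g * x⁻¹) := by
  funext g
  rw [BlocksCore.conv_apply, Finset.sum_eq_single (g * x⁻¹)]
  · simp [delta]
  · intro b _ hb
    have : b⁻¹ * g ≠ x := fun h => hb (by rw [← h]; simp)
    simp [delta, this]
  · simp

theorem gmat_injective {a b : G → ℂ} (h : gmat a (1 : G) = gmat b 1) : a = b := by
  funext g
  simpa [gmat] using congrFun (congrFun h g) (1 : G)

theorem gmat_add (a b : G → ℂ) (h : G) : gmat (a + b) h = gmat a h + gmat b h := rfl

theorem gmat_sum {κ : Type*} (s : Finset κ) (f : κ → G → ℂ) (h : G) :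
    gmat (∑ i ∈ s, f i) h = ∑ i ∈ s, gmat (f i) h := by
  ext g g'
  rw [Matrix.sum_apply]
  exact Finset.sum_apply _ _ _

theorem gmat_delta_pow (x h : G) (l : ℕ) : gmat (delta x) h ^ l = gmat (delta (x ^ l)) (h ^ l) := by
  induction l with
  | zero => rw [pow_zero, pow_zero, pow_zero, gmat_one]
  | succ l ih =>
    rw [pow_succ, ih, gmat_mul, pow_succ, pow_succ]
    congr 1
    rw [conv_delta_right]
    funext g
    simp only [delta]
    exact if_congr (mul_inv_eq_iff_eq_mul) rfl rfl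

/-- `a` is invariant under conjugation by `x`. -/
def ConjInv (x : G) (a : G → ℂ) : Prop := ∀ g, a (x * g * x⁻¹) = a g

theorem commute_delta {x : G} {a : G → ℂ} (ha : ConjInv x a) (h : G) :
    Commute (gmat (delta x) h) (gmat a 1) := by
  show gmat (delta x) h * gmat a 1 = gmat a 1 * gmat (delta x) h
  rw [gmat_mul, gmat_mul, conv_delta_left, conv_delta_right, mul_one, one_mul]
  congr 1
  funext g
  rw [← ha (x⁻¹ * g), mul_inv_cancel_left]

theorem commute_right (a : G → ℂ) (h : G) : Commute (gmat (delta 1) h) (gmat a 1) :=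
  commute_delta (fun g => by simp) h

omit [DecidableEq G] in
theorem intMat_gmat {M : Ideal AlgInt} {a : G → ℂ} (ha : ∀ g, MemLocalRing M (a g)) (h : G) :
    IntMat M (gmat a h) := fun _ _ => ha _

omit [DecidableEq G] in
theorem smallMat_gmat {M : Ideal AlgInt} {a : G → ℂ} (ha : ∀ g, MemLocalIdeal M (a g)) (h : G) :
    SmallMat M (gmat a h) := fun _ _ => ha _

theorem delta_memLocalRing {M : Ideal AlgInt} [M.IsPrime] (x g : G) :
    MemLocalRing M (delta x g) := by
  unfold delta
  split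
  · exact (BlocksCore.localRing M).one_mem
  · exact (BlocksCore.localRing M).zero_mem

omit [Fintype G] [DecidableEq G] in
/-- The elements of the orbit of `g` under conjugation by powers of `u`. -/
def orbit (u g : G) : Set G := {x | ∃ j : ℤ, x = u ^ j * g * (u ^ j)⁻¹}

omit [Fintype G] [DecidableEq G] in
theorem orbit_conj (u g : G) (i : ℤ) : orbit u (u ^ i * g * (u ^ i)⁻¹) = orbit u g := by
  ext x
  constructor
  · rintro ⟨j, rfl⟩; exact ⟨j + i, by rw [zpow_add]; group⟩
  · rintro ⟨j, rfl⟩; exact ⟨j - i, by rw [zpow_sub]; group⟩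

open Classical in
/-- One `⟨u^p⟩`-suborbit out of each nontrivial `⟨u⟩`-orbit. -/
noncomputable def selectPart (p : ℕ) (u : G) (a : G → ℂ) : G → ℂ := fun g =>
  if u * g * u⁻¹ = g then 0
  else if ∃ j : ℤ, g = u ^ ((p : ℤ) * j) * Classical.epsilon (· ∈ orbit u g) *
      (u ^ ((p : ℤ) * j))⁻¹ then a g
  else 0

omit [DecidableEq G] in
theorem conjInv_zpow {x : G} {a : G → ℂ} (ha : ConjInv x a) (i : ℤ) : ConjInv (x ^ i) a := by
  induction i with
  | zero => intro g; simp
  | succ i ih => intro g; rw [zpow_add_one, ← ha g, ← ih (x * g * x⁻¹)]; group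
  | pred i ih =>
    intro g
    have h := ha (x ^ ((-(i : ℤ)) - 1) * g * (x ^ ((-(i : ℤ)) - 1))⁻¹)
    rw [← h, ← ih g]
    group

omit [Fintype G] [DecidableEq G] in
theorem conj_eq_iff {u g : G} (i : ℤ) :
    u * (u ^ i * g * (u ^ i)⁻¹) * u⁻¹ = u ^ i * g * (u ^ i)⁻¹ ↔ u * g * u⁻¹ = g := by
  have hu : (u : G) * u ^ i = u ^ i * u := ((Commute.refl u).zpow_right i).eq
  rw [show u * (u ^ i * g * (u ^ i)⁻¹) * u⁻¹ = (u * u ^ i) * g * (u * u ^ i)⁻¹ by group, hu,
    show u ^ i * u * g * (u ^ i * u)⁻¹ = u ^ i * (u * g * u⁻¹) * (u ^ i)⁻¹ by group]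
  simp

theorem selectPart_conjInv (p : ℕ) {u : G} {a : G → ℂ} (ha : ConjInv u a) :
    ConjInv (u ^ p) (selectPart p u a) := by
  intro g
  have e : u ^ p * g * (u ^ p)⁻¹ = u ^ (p : ℤ) * g * (u ^ (p : ℤ))⁻¹ := by rw [zpow_natCast]
  rw [e]
  unfold selectPart
  rw [orbit_conj]
  simp only [conj_eq_iff (g := g) (p : ℤ)]
  rw [conjInv_zpow ha (p : ℤ) g]
  split
  · rfl
  congr 1
  refine propext ⟨fun ⟨j, hj⟩ => ⟨j - 1, ?_⟩, fun ⟨j, hj⟩ => ⟨j + 1, ?_⟩⟩
  · rw [mul_sub, zpow_sub, mul_one]
    calc g = (u ^ (p : ℤ))⁻¹ * (u ^ (p : ℤ) * g * (u ^ (p : ℤ))⁻¹) * u ^ (p : ℤ) := by group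
      _ = _ := by rw [hj]; group
  · rw [mul_add, mul_one]
    conv_lhs => rw [hj]
    group

theorem sum_selectPart {p k : ℕ} (hp : p.Prime) {u : G} (hu : u ^ p ^ (k + 1) = 1) {a : G → ℂ}
    (ha : ConjInv u a) {g : G} (hg : ¬ u * g * u⁻¹ = g) :
    ∑ i ∈ Finset.range p, selectPart p u a ((u ^ i)⁻¹ * g * u ^ i) = a g := by
  classical
  set r := Classical.epsilon (· ∈ orbit u g) with hr
  have hrmem : r ∈ orbit u g := Classical.epsilon_spec (p := (· ∈ orbit u g)) ⟨g, 0, by simp⟩
  obtain ⟨J, hJ⟩ := hrmem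
  -- an exponent fixing a non-central point is divisible by `p`
  have hfix : ∀ m : ℤ, u ^ m * r * (u ^ m)⁻¹ = r → (p : ℤ) ∣ m := by
    intro m hm
    by_contra hpm
    have hcop : IsCoprime m ((p : ℤ) ^ (k + 1)) :=
      (((Nat.prime_iff_prime_int.mp hp).coprime_iff_not_dvd.mpr hpm).symm).pow_right
    obtain ⟨x, y, hxy⟩ := hcop
    have hu' : u = (u ^ m) ^ x := by
      conv_lhs => rw [← zpow_one u, ← hxy]
      rw [zpow_add, mul_comm x m, zpow_mul, mul_comm y, zpow_mul,
        show u ^ ((p : ℤ) ^ (k + 1)) = 1 by rw [← Nat.cast_pow, zpow_natCast, hu], one_zpow, mul_one]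
    have hc : Commute (u ^ m) r := mul_inv_eq_iff_eq_mul.mp hm
    have hcu : Commute u r := hu' ▸ hc.zpow_left x
    apply hg
    have hug : u * r * u⁻¹ = r := by rw [hcu.eq, mul_inv_cancel_right]
    rw [hJ] at hug
    exact (conj_eq_iff (g := g) J).mp hug
  have hterm : ∀ i : ℕ, selectPart p u a ((u ^ i)⁻¹ * g * u ^ i) =
      if (p : ℤ) ∣ (J + i) then a g else 0 := by
    intro i
    have e : (u ^ i)⁻¹ * g * u ^ i = u ^ (-(i : ℤ)) * g * (u ^ (-(i : ℤ)))⁻¹ := by
      rw [zpow_neg, zpow_natCast, inv_inv]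
    rw [e]
    unfold selectPart
    rw [orbit_conj, if_neg (fun h => hg ((conj_eq_iff _).mp h)), conjInv_zpow ha _ g, ← hr]
    refine if_congr ⟨fun ⟨j, hj⟩ => ?_, fun ⟨c, hc⟩ => ⟨-c, ?_⟩⟩ rfl rfl
    · have h1 : u ^ (J + i + (p : ℤ) * j) * r * (u ^ (J + i + (p : ℤ) * j))⁻¹ = r := by
        calc u ^ (J + i + (p : ℤ) * j) * r * (u ^ (J + i + (p : ℤ) * j))⁻¹
            = u ^ (J + (i : ℤ)) * (u ^ ((p : ℤ) * j) * r * (u ^ ((p : ℤ) * j))⁻¹) *
                (u ^ (J + (i : ℤ)))⁻¹ := by group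
          _ = r := by rw [← hj, hJ]; group
      have := hfix _ h1
      simpa using dvd_sub this (Dvd.intro j rfl)
    · rw [hJ, show (p : ℤ) * -c = -(J + i) by rw [hc]; ring]
      group
  simp only [hterm]
  have hp0 : (p : ℤ) ≠ 0 := Int.natCast_ne_zero.mpr hp.ne_zero
  have hi0 : (((-J) % (p : ℤ)).toNat : ℤ) = (-J) % (p : ℤ) :=
    Int.toNat_of_nonneg (Int.emod_nonneg _ hp0)
  rw [Finset.sum_eq_single ((-J) % (p : ℤ)).toNat]
  · rw [if_pos ⟨-((-J) / p), by rw [hi0]; linarith [Int.mul_ediv_add_emod (-J) (p : ℤ)]⟩]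
  · intro b hb hne
    rw [if_neg]
    intro hdvd
    apply hne
    have h2 : (b : ℤ) = (-J) % (p : ℤ) := by
      rw [← Int.emod_eq_of_lt (Int.natCast_nonneg b) (Int.ofNat_lt.mpr (Finset.mem_range.mp hb))]
      exact Int.emod_eq_emod_iff_emod_sub_eq_zero.mpr
        (Int.emod_eq_zero_of_dvd (by rwa [sub_neg_eq_add, add_comm]))
    omega
  · intro h
    exact absurd (Finset.mem_range.mpr (by
      have := Int.emod_lt_of_pos (-J) (by exact_mod_cast hp.pos : (0 : ℤ) < p)
      omega)) h

omit [DecidableEq G] in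
/-- The average of `b` over conjugation by the powers of `y`. -/
noncomputable def avgConj (y : G) (b : G → ℂ) : G → ℂ := fun g =>
  (orderOf y : ℂ)⁻¹ * ∑ l ∈ Finset.range (orderOf y), b (y ^ l * g * (y ^ l)⁻¹)

omit [DecidableEq G] in
theorem avgConj_self (y : G) (b : G → ℂ) : ConjInv y (avgConj y b) := by
  intro g
  unfold avgConj
  congr 1
  set f : ℕ → ℂ := fun l => b (y ^ l * g * (y ^ l)⁻¹) with hf
  have e : ∀ l ∈ Finset.range (orderOf y),
      b (y ^ l * (y * g * y⁻¹) * (y ^ l)⁻¹) = f (l + 1) := fun l _ => by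
    rw [hf]; dsimp only; rw [pow_succ]; congr 1; group
  rw [Finset.sum_congr rfl e]
  have h2 : ∑ l ∈ Finset.range (orderOf y), f (l + 1) + f 0 =
      ∑ l ∈ Finset.range (orderOf y), f l + f (orderOf y) := by
    rw [← Finset.sum_range_succ', Finset.sum_range_succ]
  have hf0 : f (orderOf y) = f 0 := by
    rw [hf]; dsimp only; rw [pow_orderOf_eq_one, pow_zero]
  rw [hf0, add_left_inj] at h2
  exact h2

omit [DecidableEq G] in
theorem avgConj_of_commute {x y : G} (hxy : Commute x y) {b : G → ℂ} (hb : ConjInv x b) :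
    ConjInv x (avgConj y b) := by
  intro g
  unfold avgConj
  congr 1
  refine Finset.sum_congr rfl fun l _ => ?_
  rw [← hb (y ^ l * g * (y ^ l)⁻¹)]
  congr 1
  have h := (hxy.pow_right l).eq
  calc y ^ l * (x * g * x⁻¹) * (y ^ l)⁻¹ = (y ^ l * x) * g * (y ^ l * x)⁻¹ := by group
    _ = (x * y ^ l) * g * (x * y ^ l)⁻¹ := by rw [h]
    _ = x * (y ^ l * g * (y ^ l)⁻¹) * x⁻¹ := by group

variable {p : ℕ} {M : Ideal AlgInt}

/-- **Vanishing theorem.** -/
theorem sum_mul_translate_eq_zero (hM : IsPModular p M) {u y : G}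
    (hu : ∃ k : ℕ, orderOf u ∣ p ^ k) (hy : ¬ p ∣ orderOf y) (huy : Commute u y) {a : G → ℂ}
    (haint : ∀ g, MemLocalRing M (a g)) (haa : BlocksCore.conv a a = a)
    (hau : ConjInv u a) (hay : ConjInv y a)
    (hsmall : ∀ c, u * c * u⁻¹ = c → MemLocalIdeal M (a c))
    {χ : G → ℂ} (hχ : IsClassFunction G χ) : ∑ x, a x * χ (u * y * x) = 0 := by
  have hP := BlocksCore.isPrime hM
  have hp : p.Prime := hM.1
  obtain ⟨k₀, hk₀⟩ := hu
  have huq : u ^ p ^ (k₀ + 1) = 1 :=
    orderOf_dvd_iff_pow_eq_one.mp (hk₀.trans (pow_dvd_pow p (Nat.le_succ k₀)))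
  -- split `a` into the fixed part and a trace
  let r : G → ℂ := fun g => if u * g * u⁻¹ = g then a g else 0
  let b : G → ℂ := avgConj y (selectPart p u a)
  have hbint : ∀ g, MemLocalRing M (b g) := fun g =>
    (BlocksCore.localRing M).mul_mem (BlocksCore.memLocalRing_natCast_inv hM hy)
      (BlocksCore.memLocalRing_sum fun l _ => by
        unfold selectPart
        split
        · exact (BlocksCore.localRing M).zero_mem
        · split
          · exact haint _
          · exact (BlocksCore.localRing M).zero_mem)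
  have hrsmall : ∀ g, MemLocalIdeal M (r g) := fun g => by
    simp only [r]
    split
    · next h => exact hsmall g h
    · exact BlocksCore.memLocalIdeal_zero
  have hfixy : ∀ g, u * (y * g * y⁻¹) * u⁻¹ = y * g * y⁻¹ ↔ u * g * u⁻¹ = g := fun g => by
    rw [show u * (y * g * y⁻¹) * u⁻¹ = (u * y) * g * (u * y)⁻¹ by group, huy.eq,
      show y * u * g * (y * u)⁻¹ = y * (u * g * u⁻¹) * y⁻¹ by group]
    simp
  have hdec : a = (∑ i ∈ Finset.range p, fun g => b ((u ^ i)⁻¹ * g * u ^ i)) + r := by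
    funext g
    rw [Pi.add_apply, Finset.sum_apply]
    by_cases hg : u * g * u⁻¹ = g
    · simp only [r, if_pos hg]
      rw [Finset.sum_eq_zero, zero_add]
      intro i _
      simp only [b, avgConj]
      rw [Finset.sum_eq_zero, mul_zero]
      intro l _
      unfold selectPart
      rw [if_pos]
      have hc : ∀ m : ℕ, u * (y ^ m * g * (y ^ m)⁻¹) * u⁻¹ = y ^ m * g * (y ^ m)⁻¹ := by
        intro m
        induction m with
        | zero => simpa using hg
        | succ m ih =>
          have := (hfixy _).mpr ih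
          rwa [show y * (y ^ m * g * (y ^ m)⁻¹) * y⁻¹ = y ^ (m + 1) * g * (y ^ (m + 1))⁻¹ by
            rw [pow_succ']; group] at this
      have hci : (u ^ i)⁻¹ * g * u ^ i = g := by
        have hcg : Commute u g := mul_inv_eq_iff_eq_mul.mp hg
        rw [mul_assoc, ← (hcg.pow_left i).eq, ← mul_assoc, inv_mul_cancel, one_mul]
      rw [hci]
      exact hc l
    · simp only [r, if_neg hg, add_zero]
      have hfix : ∀ l : ℕ, ¬ u * (y ^ l * g * (y ^ l)⁻¹) * u⁻¹ = y ^ l * g * (y ^ l)⁻¹ := by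
        intro l
        induction l with
        | zero => simpa using hg
        | succ m ih =>
          intro h
          apply ih
          rw [← hfixy, show y * (y ^ m * g * (y ^ m)⁻¹) * y⁻¹ = y ^ (m + 1) * g * (y ^ (m + 1))⁻¹ by
            rw [pow_succ']; group]
          exact h
      simp only [b, avgConj]
      rw [← Finset.mul_sum, Finset.sum_comm]
      have hinner : ∀ l ∈ Finset.range (orderOf y),
          ∑ i ∈ Finset.range p, selectPart p u a (y ^ l * ((u ^ i)⁻¹ * g * u ^ i) * (y ^ l)⁻¹) =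
            a g := by
        intro l _
        have e : ∀ i ∈ Finset.range p, selectPart p u a (y ^ l * ((u ^ i)⁻¹ * g * u ^ i) * (y ^ l)⁻¹) =
            selectPart p u a ((u ^ i)⁻¹ * (y ^ l * g * (y ^ l)⁻¹) * u ^ i) := fun i _ => by
          congr 1
          have h := ((huy.pow_left i).pow_right l)
          calc y ^ l * ((u ^ i)⁻¹ * g * u ^ i) * (y ^ l)⁻¹
              = (y ^ l * (u ^ i)⁻¹) * g * (y ^ l * (u ^ i)⁻¹)⁻¹ := by group
            _ = ((u ^ i)⁻¹ * y ^ l) * g * ((u ^ i)⁻¹ * y ^ l)⁻¹ := by rw [h.inv_left.eq]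
            _ = (u ^ i)⁻¹ * (y ^ l * g * (y ^ l)⁻¹) * u ^ i := by group
        rw [Finset.sum_congr rfl e, sum_selectPart hp huq hau (hfix l)]
        have := conjInv_zpow hay (l : ℤ) g
        rwa [zpow_natCast] at this
      rw [Finset.sum_congr rfl hinner, Finset.sum_const, Finset.card_range, nsmul_eq_mul,
        ← mul_assoc, inv_mul_cancel₀ (Nat.cast_ne_zero.mpr (orderOf_pos y).ne'), one_mul]
  -- the trace lemma for every right translation `h`
  have key : ∀ h : G, ∑ g, a ((u * y)⁻¹ * (g * h * g⁻¹)) = 0 := by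
    intro h
    let U := gmat (delta u) (1 : G)
    let W := gmat (delta y) h
    let I := gmat a (1 : G)
    let A := gmat b (1 : G)
    let R := gmat r (1 : G)
    have hUq : U ^ p ^ (k₀ + 1) = 1 := by
      show gmat _ _ ^ _ = 1
      rw [gmat_delta_pow, huq, one_pow, gmat_one]
    have hWn : W ^ Fintype.card G = 1 := by
      show gmat _ _ ^ _ = 1
      rw [gmat_delta_pow, pow_card_eq_one, pow_card_eq_one, gmat_one]
    have hUI : Commute U I := commute_delta hau 1
    have hRU : Commute R U := (commute_delta (fun g => by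
      simp only [r]
      have hiff := conj_eq_iff (u := u) (g := g) 1
      rw [zpow_one] at hiff
      rw [show u * (u * g * u⁻¹) * u⁻¹ = u * (u * g * u⁻¹) * u⁻¹ from rfl]
      simp only [hiff]
      split
      · exact hau g
      · rfl) 1).symm
    have hAUp : Commute A (U ^ p) := by
      show Commute _ (gmat _ _ ^ _)
      rw [gmat_delta_pow, one_pow]
      exact (commute_delta (avgConj_of_commute (huy.pow_left p) (selectPart_conjInv p hau)) 1).symm
    have hWU : Commute W U := by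
      show gmat _ _ * gmat _ _ = gmat _ _ * gmat _ _
      rw [gmat_mul, gmat_mul, conv_delta_left, conv_delta_left, one_mul, mul_one]
      congr 1
      funext g
      simp only [delta]
      refine if_congr ?_ rfl rfl
      rw [inv_mul_eq_iff_eq_mul, inv_mul_eq_iff_eq_mul, huy.eq]
    have hWI : Commute W I := commute_delta hay h
    have hWA : Commute W A := commute_delta (avgConj_self y _) h
    have hdec' : I = (∑ i ∈ Finset.range p, U ^ i * A * U ^ (p ^ (k₀ + 1) - i)) + R := by
      show gmat a 1 = _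
      conv_lhs => rw [hdec]
      rw [gmat_add, gmat_sum]
      congr 1
      refine Finset.sum_congr rfl fun i hi => ?_
      show _ = gmat _ _ ^ _ * gmat _ _ * gmat _ _ ^ _
      rw [gmat_delta_pow, gmat_delta_pow, gmat_mul, gmat_mul, conv_delta_left, conv_delta_right,
        one_pow, one_pow, mul_one, mul_one]
      congr 1
      funext g
      congr 1
      have : u ^ (p ^ (k₀ + 1) - i) = (u ^ i)⁻¹ := by
        rw [eq_inv_iff_mul_eq_one, ← pow_add,
          Nat.sub_add_cancel ((Finset.mem_range.mp hi).le.trans (Nat.le_self_pow (Nat.succ_ne_zero _) p)),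
          huq]
      rw [this, inv_inv, mul_assoc]
    -- diagonalise `W`
    set n := Fintype.card G with hn
    have hn0 : n ≠ 0 := Fintype.card_ne_zero
    obtain ⟨ζ, hζ⟩ : ∃ ζ : ℂ, IsPrimitiveRoot ζ n := ⟨_, Complex.isPrimitiveRoot_exp n hn0⟩
    have hζ0 : ζ ≠ 0 := hζ.ne_zero hn0
    let S : ℕ → Matrix G G ℂ := fun j => ∑ l ∈ Finset.range n, ((ζ ^ j) ^ l)⁻¹ • W ^ l
    let P : ℕ → Matrix G G ℂ := fun j => (n : ℂ)⁻¹ • S j
    have hWS : ∀ j, W * S j = ζ ^ j • S j := by
      intro j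
      set z := ζ ^ j
      have hz0 : z ≠ 0 := pow_ne_zero _ hζ0
      let f : ℕ → Matrix G G ℂ := fun l => ((z ^ l)⁻¹ * z) • W ^ l
      have e : ∀ l ∈ Finset.range n, W * ((z ^ l)⁻¹ • W ^ l) = f (l + 1) := by
        intro l _
        show _ = ((z ^ (l + 1))⁻¹ * z) • _
        rw [pow_succ z, mul_inv, mul_assoc, inv_mul_cancel₀ hz0, mul_one, Matrix.mul_smul, pow_succ']
      show W * (∑ l ∈ Finset.range n, (z ^ l)⁻¹ • W ^ l) = z • ∑ l ∈ Finset.range n, (z ^ l)⁻¹ • W ^ l
      rw [Finset.mul_sum, Finset.sum_congr rfl e]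
      have h2 : ∑ l ∈ Finset.range n, f (l + 1) + f 0 = ∑ l ∈ Finset.range n, f l + f n := by
        rw [← Finset.sum_range_succ', Finset.sum_range_succ]
      have hf : f n = f 0 := by
        show ((z ^ n)⁻¹ * z) • W ^ n = ((z ^ 0)⁻¹ * z) • W ^ 0
        rw [← pow_mul, mul_comm j n, pow_mul, hζ.pow_eq_one, one_pow, pow_zero, hWn, pow_zero]
      rw [hf, add_left_inj] at h2
      rw [h2, Finset.smul_sum]
      exact Finset.sum_congr rfl fun l _ => by
        show ((z ^ l)⁻¹ * z) • _ = _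
        rw [smul_smul, mul_comm]
    have hWpow : ∀ j l, W ^ l * S j = (ζ ^ j) ^ l • S j := by
      intro j l
      induction l with
      | zero => simp
      | succ l ih => rw [pow_succ, mul_assoc, hWS, Matrix.mul_smul, ih, smul_smul, pow_succ']
    have hPP : ∀ j, P j * P j = P j := by
      intro j
      have h1 : S j * S j = (n : ℂ) • S j := by
        show (∑ l ∈ Finset.range n, ((ζ ^ j) ^ l)⁻¹ • W ^ l) * S j = _
        rw [Finset.sum_mul]
        have : ∀ l ∈ Finset.range n, (((ζ ^ j) ^ l)⁻¹ • W ^ l) * S j = S j := fun l _ => by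
          rw [Matrix.smul_mul, hWpow, smul_smul,
            inv_mul_cancel₀ (pow_ne_zero _ (pow_ne_zero _ hζ0)), one_smul]
        rw [Finset.sum_congr rfl this, Finset.sum_const, Finset.card_range, ← Nat.cast_smul_eq_nsmul ℂ]
      show ((n : ℂ)⁻¹ • S j) * ((n : ℂ)⁻¹ • S j) = _
      rw [Matrix.smul_mul, Matrix.mul_smul, h1, smul_smul, smul_smul,
        mul_assoc, inv_mul_cancel₀ (Nat.cast_ne_zero.mpr hn0), mul_one]
    have hPc : ∀ j X, Commute W X → Commute (P j) X := fun j X hX =>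
      (Commute.sum_left _ _ _ fun l _ => (hX.pow_left l).smul_left _).smul_left _
    have hzero : ∀ j, (U * I * P j).trace = 0 := fun j =>
      trace_eq_zero hM hUq (intMat_gmat (delta_memLocalRing u) 1) (intMat_gmat haint 1)
        (intMat_gmat hbint 1) (smallMat_gmat hrsmall 1) (by
          show gmat a 1 * gmat a 1 = gmat a 1
          rw [gmat_mul, one_mul, haa]) (hPP j) hUI hAUp hRU (hPc j U hWU) (hPc j I hWI) (hPc j A hWA) hdec'
    have hsum : W = ∑ j ∈ Finset.range n, ζ ^ j • P j := by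
      simp only [P, S, Finset.smul_sum, smul_smul]
      rw [Finset.sum_comm]
      simp only [← Finset.sum_smul]
      by_cases hn1 : n = 1
      · rw [hn1] at hζ hWn ⊢
        rw [pow_one] at hWn
        simp [hWn]
      have h1lt : 1 < n := by omega
      rw [Finset.sum_eq_single 1]
      · have : ∀ j ∈ Finset.range n, ζ ^ j * ((n : ℂ)⁻¹ * ((ζ ^ j) ^ 1)⁻¹) = (n : ℂ)⁻¹ := fun j _ => by
          rw [pow_one, mul_comm, mul_assoc, inv_mul_cancel₀ (pow_ne_zero _ hζ0), mul_one]
        rw [Finset.sum_congr rfl this, Finset.sum_const, Finset.card_range, nsmul_eq_mul,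
          mul_inv_cancel₀ (Nat.cast_ne_zero.mpr hn0), one_smul, pow_one]
      · intro l hl hl1
        have hgeo : ∑ j ∈ Finset.range n, ζ ^ j * ((n : ℂ)⁻¹ * ((ζ ^ j) ^ l)⁻¹) = 0 := by
          have e : ∀ j ∈ Finset.range n,
              ζ ^ j * ((n : ℂ)⁻¹ * ((ζ ^ j) ^ l)⁻¹) = (n : ℂ)⁻¹ * (ζ * (ζ ^ l)⁻¹) ^ j := fun j _ => by
            rw [mul_pow, inv_pow, ← pow_mul, ← pow_mul, mul_comm j l]; ring
          rw [Finset.sum_congr rfl e, ← Finset.mul_sum]
          have hne : ζ * (ζ ^ l)⁻¹ ≠ 1 := fun h => hl1 (hζ.pow_inj h1lt (Finset.mem_range.mp hl)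
            (by rw [pow_one]; exact (mul_inv_eq_one₀ (pow_ne_zero _ hζ0)).mp h)).symm
          rw [geom_sum_eq hne, mul_pow, inv_pow, ← pow_mul, mul_comm l n, pow_mul, hζ.pow_eq_one,
            one_pow, inv_one, mul_one, sub_self, zero_div, mul_zero]
        rw [hgeo, zero_smul]
      · intro h'
        exact absurd (Finset.mem_range.mpr h1lt) h'
    have htr : (U * I * W).trace = 0 := by
      rw [hsum, Finset.mul_sum, Matrix.trace_sum]
      refine Finset.sum_eq_zero fun j _ => ?_
      rw [Matrix.mul_smul, Matrix.trace_smul, hzero, smul_zero]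
    rw [mul_assoc, ← hWI.eq, ← mul_assoc] at htr
    have e : U * W * I = gmat (fun g => a ((u * y)⁻¹ * g)) h := by
      show gmat _ _ * gmat _ _ * gmat _ _ = _
      rw [gmat_mul, gmat_mul, one_mul, mul_one, conv_delta_left]
      have : (fun g => delta y (u⁻¹ * g)) = delta (u * y) := by
        funext g
        simp only [delta]
        exact if_congr inv_mul_eq_iff_eq_mul rfl rfl
      rw [this, conv_delta_left]
    rw [e] at htr
    simpa [Matrix.trace, gmat] using htr
  -- average against the class function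
  have h1 : ∀ g, ∑ h, χ h * a ((u * y)⁻¹ * (g * h * g⁻¹)) = ∑ x, a x * χ (u * y * x) := by
    intro g
    rw [← Fintype.sum_equiv ((Equiv.mulLeft ((u * y)⁻¹)).symm.trans
      ((MulAut.conj g).toEquiv.symm)) (fun x => a x * χ (u * y * x)) _ fun x => ?_]
    simp only [Equiv.trans_apply, Equiv.mulLeft_symm, inv_inv, Equiv.coe_mulLeft]
    show a x * χ (u * y * x) = χ ((MulAut.conj g).symm (u * y * x)) *
      a ((u * y)⁻¹ * (g * (MulAut.conj g).symm (u * y * x) * g⁻¹))
    rw [MulAut.conj_symm_apply, mul_comm]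
    congr 1
    · exact (show χ (g⁻¹ * (u * y * x) * g) = χ (u * y * x) by
        have := hχ (u * y * x) g⁻¹
        rwa [inv_inv] at this).symm
    · congr 1; group
  have h2 : ∑ g, ∑ h, χ h * a ((u * y)⁻¹ * (g * h * g⁻¹)) = 0 := by
    rw [Finset.sum_comm]
    refine Finset.sum_eq_zero fun h _ => ?_
    rw [← Finset.mul_sum, key h, mul_zero]
  rw [Finset.sum_congr rfl fun g _ => h1 g, Finset.sum_const, Finset.card_univ, nsmul_eq_mul] at h2
  exact (mul_eq_zero.mp h2).resolve_left (Nat.cast_ne_zero.mpr Fintype.card_ne_zero)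

end Cfsg.Agent.ZStar
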