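import Mathlib.Algebra.BigOperators.Ring.Finset
import Mathlib.Algebra.Order.BigOperators.Ring.Finset
import Mathlib.Data.Fintype.BigOperators
import Mathlib.Tactic.Ring
import Mathlib.Tactic.Linarith
import Mathlib.Tactic.LinearCombination

/-!
# Arithmetic for the exceptional characters of a homocyclic Sylow 2-subgroup
-/

set_option autoImplicit false

namespace Cfsg.Agent.ZStar

/-- The Diophantine equation of the degrees. -/
theorem homocyclic_degrees {u w : ℤ} (hu : (16 : ℤ) ∣ u - 1) (hw : (16 : ℤ) ∣ w - 1)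
    (h : (1 + u + w) * (u * w + u + w) = 9 * u * w) : u = 1 ∧ w = 1 := by
  have hid : u * (w - 1) ^ 2 + w * (u - 1) ^ 2 + (u - w) ^ 2 = 0 := by linear_combination h
  obtain ⟨i, hi⟩ := hu
  obtain ⟨j, hj⟩ := hw
  have mixed : ∀ x b : ℤ, 0 < x → 15 ≤ b → x * (b + 1) ^ 2 + (x + b) ^ 2 = b * (x - 1) ^ 2 →
      False := by
    intro x b hx hb hx2
    rcases lt_trichotomy (x - (b + 8)) 0 with hk | hk | hk
    · nlinarith [mul_le_mul_of_nonneg_left (show x - (b + 8) ≤ -1 by omega)
        (show (0 : ℤ) ≤ x * (b - 1) by nlinarith)]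
    · have : x = b + 8 := by omega
      subst this
      nlinarith
    · nlinarith [mul_le_mul_of_nonneg_left (show 1 ≤ x - (b + 8) by omega)
        (show (0 : ℤ) ≤ x * (b - 1) by nlinarith)]
  rcases lt_trichotomy u 0 with hu0 | hu0 | hu0
  · rcases lt_trichotomy w 0 with hw0 | hw0 | hw0
    · exfalso
      have h1 : u ≤ -15 := by omega
      have h2 : w ≤ -15 := by omega
      nlinarith [mul_le_mul_of_nonneg_right h1 (sq_nonneg (w - 1)),
        mul_le_mul_of_nonneg_right h2 (sq_nonneg (u - 1))]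
    · omega
    · exact absurd (mixed w (-u) hw0 (by omega) (by linear_combination hid)) id
  · omega
  · rcases lt_trichotomy w 0 with hw0 | hw0 | hw0
    · exact absurd (mixed u (-w) hu0 (by omega) (by linear_combination hid)) id
    · omega
    · have h1 := mul_nonneg hu0.le (sq_nonneg (w - 1))
      have h2 := mul_nonneg hw0.le (sq_nonneg (u - 1))
      have h3 := sq_nonneg (u - w)
      have h4 : u * (w - 1) ^ 2 = 0 := by linarith
      have h5 : w * (u - 1) ^ 2 = 0 := by linarith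
      simp only [mul_eq_zero, hu0.ne', hw0.ne', false_or, pow_eq_zero_iff two_ne_zero,
        sub_eq_zero] at h4 h5
      exact ⟨h5, h4⟩

variable {X : Type*} [Fintype X]

theorem sq_eq_one_or_zero_of_sum_le {V : X → ℤ} {n : ℤ} (hn : n < 4) (h : ∑ x, V x * V x = n)
    (x : X) : V x = 0 ∨ V x = 1 ∨ V x = -1 := by
  have h1 := Finset.single_le_sum (f := fun y => V y * V y) (fun y _ => mul_self_nonneg _)
    (Finset.mem_univ x)
  rw [h] at h1
  have : -1 ≤ V x ∧ V x ≤ 1 := by constructor <;> nlinarith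
  omega

theorem card_support_of_norm [DecidableEq X] {V : X → ℤ} {n : ℕ} (hn : n < 4)
    (h : ∑ x, V x * V x = (n : ℤ)) : (Finset.univ.filter fun x => V x ≠ 0).card = n := by
  have h1 : ∑ x, V x * V x = ((Finset.univ.filter fun x => V x ≠ 0).card : ℤ) := by
    rw [Finset.card_filter, Nat.cast_sum]
    refine Finset.sum_congr rfl fun x _ => ?_
    rcases sq_eq_one_or_zero_of_sum_le (by exact_mod_cast hn) h x with e | e | e <;> simp [e]
  rw [h] at h1
  exact_mod_cast h1.symm

/-- Vectors of norm three with mutual inner product two: if there are at least five of them,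
they share two coordinates. -/
theorem common_pair [DecidableEq X] (𝒱 : Finset (X → ℤ)) (hn : ∀ V ∈ 𝒱, ∑ x, V x * V x = 3)
    (hpair : ∀ V ∈ 𝒱, ∀ W ∈ 𝒱, V = W ∨ ∑ x, V x * W x = 2) (h5 : 5 ≤ 𝒱.card) {V₀ : X → ℤ}
    (h0 : V₀ ∈ 𝒱) :
    ∃ c d, c ≠ d ∧ V₀ c ≠ 0 ∧ V₀ d ≠ 0 ∧ ∀ V ∈ 𝒱, V c = V₀ c ∧ V d = V₀ d := by
  classical
  set s := Finset.univ.filter fun x => V₀ x ≠ 0 with hs
  have hs3 : s.card = 3 := card_support_of_norm (by norm_num) (hn V₀ h0)
  have hmem : ∀ x, x ∈ s ↔ V₀ x ≠ 0 := fun x => by simp [hs]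
  have hval : ∀ V ∈ 𝒱, ∀ x, V x = 0 ∨ V x = 1 ∨ V x = -1 := fun V hV x =>
    sq_eq_one_or_zero_of_sum_le (by norm_num) (hn V hV) x
  -- the shape of the other vectors
  have shape : ∀ V ∈ 𝒱, V ≠ V₀ → ∃ p ∈ s, ∃ q, q ∉ s ∧ V q ≠ 0 ∧
      ∀ x, V x = if x ∈ s.erase p then V₀ x else if x = q then V q else 0 := by
    intro V hV hne
    have h2 : ∑ x ∈ s, V x * V₀ x = 2 := by
      have hV2 : ∑ x, V x * V₀ x = 2 := (hpair V hV V₀ h0).resolve_left hne
      rw [← hV2]
      exact Finset.sum_subset (Finset.subset_univ _) fun x _ hx => by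
        rw [hmem, not_not] at hx; rw [hx, mul_zero]
    obtain ⟨x₁, x₂, x₃, n12, n13, n23, hs'⟩ := Finset.card_eq_three.mp hs3
    have hex : ∃ p ∈ s, V p = 0 ∧ ∀ x ∈ s.erase p, V x = V₀ x := by
      rw [hs', Finset.sum_insert (by simp [n12, n13]), Finset.sum_pair n23] at h2
      have m1 := (hmem x₁).mp (by simp [hs'])
      have m2 := (hmem x₂).mp (by simp [hs'])
      have m3 := (hmem x₃).mp (by simp [hs'])
      have a1 := (hval V₀ h0 x₁).resolve_left m1
      have a2 := (hval V₀ h0 x₂).resolve_left m2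
      have a3 := (hval V₀ h0 x₃).resolve_left m3
      have b1 := hval V hV x₁
      have b2 := hval V hV x₂
      have b3 := hval V hV x₃
      have hres : (V x₁ = 0 ∧ V x₂ = V₀ x₂ ∧ V x₃ = V₀ x₃) ∨
          (V x₂ = 0 ∧ V x₁ = V₀ x₁ ∧ V x₃ = V₀ x₃) ∨
          (V x₃ = 0 ∧ V x₂ = V₀ x₂ ∧ V x₁ = V₀ x₁) := by
        rcases a1 with a1 | a1 <;> rcases a2 with a2 | a2 <;> rcases a3 with a3 | a3 <;>
          simp only [a1, a2, a3, mul_one, mul_neg] at h2 ⊢ <;> omega
      rcases hres with ⟨e, e', e''⟩ | ⟨e, e', e''⟩ | ⟨e, e', e''⟩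
      · refine ⟨x₁, by simp [hs'], e, fun x hx => ?_⟩
        simp only [hs', Finset.mem_erase, Finset.mem_insert, Finset.mem_singleton] at hx
        rcases hx with ⟨hx1, rfl | rfl | rfl⟩
        exacts [absurd rfl hx1, e', e'']
      · refine ⟨x₂, by simp [hs'], e, fun x hx => ?_⟩
        simp only [hs', Finset.mem_erase, Finset.mem_insert, Finset.mem_singleton] at hx
        rcases hx with ⟨hx1, rfl | rfl | rfl⟩
        exacts [e', absurd rfl hx1, e'']
      · refine ⟨x₃, by simp [hs'], e, fun x hx => ?_⟩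
        simp only [hs', Finset.mem_erase, Finset.mem_insert, Finset.mem_singleton] at hx
        rcases hx with ⟨hx1, rfl | rfl | rfl⟩
        exacts [e'', e', absurd rfl hx1]
    obtain ⟨p, hp, hp0, hrest⟩ := hex
    set T := Finset.univ.filter fun x => V x ≠ 0 with hT
    have hT3 : T.card = 3 := card_support_of_norm (by norm_num) (hn V hV)
    have hsub : s.erase p ⊆ T := fun x hx => by
      rw [hT, Finset.mem_filter, hrest x hx]
      exact ⟨Finset.mem_univ _, (hmem x).mp (Finset.mem_erase.mp hx).2⟩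
    obtain ⟨q, hq⟩ := Finset.card_eq_one.mp (show (T \ s.erase p).card = 1 by
      rw [Finset.card_sdiff_of_subset hsub, hT3, Finset.card_erase_of_mem hp, hs3])
    have hqm : q ∈ T \ s.erase p := by rw [hq]; exact Finset.mem_singleton_self q
    rw [Finset.mem_sdiff, hT, Finset.mem_filter] at hqm
    refine ⟨p, hp, q, fun hqs => hqm.2 (Finset.mem_erase.mpr ⟨fun e => hqm.1.2 (e ▸ hp0), hqs⟩),
      hqm.1.2, fun x => ?_⟩
    split_ifs with h1 h2
    · exact hrest x h1
    · rw [h2]
    · by_contra hx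
      exact h2 (Finset.mem_singleton.mp (hq ▸ Finset.mem_sdiff.mpr
        ⟨Finset.mem_filter.mpr ⟨Finset.mem_univ x, hx⟩, h1⟩))
  choose p hp q hqs hq0 hform using shape
  by_cases hsame : ∀ V (hV : V ∈ 𝒱) (hV' : V ≠ V₀) W (hW : W ∈ 𝒱) (hW' : W ≠ V₀),
      p V hV hV' = p W hW hW'
  · obtain ⟨V₁, hV₁, hV₁'⟩ := Finset.exists_mem_ne (by omega : 1 < 𝒱.card) V₀
    obtain ⟨c, d, hcd, hsd⟩ := Finset.card_eq_two.mp (show (s.erase (p V₁ hV₁ hV₁')).card = 2 by
      rw [Finset.card_erase_of_mem (hp _ _ _), hs3])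
    have hc : c ∈ s.erase (p V₁ hV₁ hV₁') := by simp [hsd]
    have hd : d ∈ s.erase (p V₁ hV₁ hV₁') := by simp [hsd]
    refine ⟨c, d, hcd, (hmem c).mp (Finset.mem_erase.mp hc).2,
      (hmem d).mp (Finset.mem_erase.mp hd).2, fun V hV => ?_⟩
    by_cases hV' : V = V₀
    · rw [hV']; exact ⟨rfl, rfl⟩
    · have e := hsame V hV hV' V₁ hV₁ hV₁'
      exact ⟨by rw [hform V hV hV', if_pos (e ▸ hc)], by rw [hform V hV hV', if_pos (e ▸ hd)]⟩
  simp only [not_forall] at hsame
  obtain ⟨A, hA, hA', B, hB, hB', hne⟩ := hsame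
  -- different missing coordinates force the same new coordinate
  have hnew : ∀ V (hV : V ∈ 𝒱) (hV' : V ≠ V₀) W (hW : W ∈ 𝒱) (hW' : W ≠ V₀),
      p V hV hV' ≠ p W hW hW' → q V hV hV' = q W hW hW' ∧ V (q V hV hV') = W (q W hW hW') := by
    intro V hV hV' W hW hW' hpne
    set pV := p V hV hV'
    set pW := p W hW hW'
    set qV := q V hV hV'
    set qW := q W hW hW'
    have hfV : ∀ x, V x = if x ∈ s.erase pV then V₀ x else if x = qV then V qV else 0 :=
      hform V hV hV'
    have hfW : ∀ x, W x = if x ∈ s.erase pW then V₀ x else if x = qW then W qW else 0 :=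
      hform W hW hW'
    have hVW : V ≠ W := by
      intro e
      have h1 := hform V hV hV' pW
      rw [if_pos (Finset.mem_erase.mpr ⟨Ne.symm hpne, hp _ _ _⟩)] at h1
      have h2 := hform W hW hW' pW
      rw [if_neg (by simp [pW]), if_neg (fun e' : pW = qW => hqs W hW hW' (show qW ∈ s by rw [← e']; exact hp W hW hW'))] at h2
      exact (hmem pW).mp (hp _ _ _) (by rw [← h1, e, h2])
    have h2 := (hpair V hV W hW).resolve_left hVW
    obtain ⟨r, hr⟩ := Finset.card_eq_one.mp (show ((s.erase pV).erase pW).card = 1 by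
      rw [Finset.card_erase_of_mem (Finset.mem_erase.mpr ⟨Ne.symm hpne, hp _ _ _⟩),
        Finset.card_erase_of_mem (hp _ _ _), hs3])
    have hrm : r ∈ (s.erase pV).erase pW := by rw [hr]; exact Finset.mem_singleton_self r
    simp only [Finset.mem_erase] at hrm
    have hterm : ∀ x, V x * W x = (if x = r then V₀ x * V₀ x else 0) +
        (if x = qV then (if qV = qW then V qV * W qW else 0) else 0) := by
      intro x
      rw [hfV x, hfW x]
      by_cases hxs : x ∈ s
      · have n1 : x ≠ qV := fun e => hqs V hV hV' (e ▸ hxs : qV ∈ s)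
        have n2 : x ≠ qW := fun e => hqs W hW hW' (e ▸ hxs : qW ∈ s)
        by_cases hxr : x = r
        · subst hxr
          rw [if_pos (Finset.mem_erase.mpr ⟨hrm.2.1, hrm.2.2⟩),
            if_pos (Finset.mem_erase.mpr ⟨hrm.1, hrm.2.2⟩), if_pos rfl, if_neg n1, add_zero]
        · have hx : x = pV ∨ x = pW := by
            by_contra hno
            simp only [not_or] at hno
            exact hxr (Finset.mem_singleton.mp (hr ▸ Finset.mem_erase.mpr
              ⟨hno.2, Finset.mem_erase.mpr ⟨hno.1, hxs⟩⟩))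
          rw [if_neg hxr]
          rcases hx with e | e
          · rw [if_neg (show x ∉ s.erase pV from fun h => (Finset.mem_erase.mp h).1 e)]
            simp only [if_neg n1, zero_mul, add_zero]
          · rw [if_neg (show x ∉ s.erase pW from fun h => (Finset.mem_erase.mp h).1 e)]
            simp only [if_neg n1, if_neg n2, mul_zero, add_zero]
      · have n1 : ∀ y, x ∉ s.erase y := fun y h => hxs (Finset.mem_erase.mp h).2
        rw [if_neg (n1 _), if_neg (n1 _),
          if_neg (show x ≠ r from fun e => hxs (e ▸ hrm.2.2)), zero_add]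
        by_cases hxv : x = qV
        · rw [if_pos hxv, if_pos hxv]
          by_cases hqq : qV = qW
          · rw [if_pos hqq, if_pos (hxv.trans hqq)]
          · rw [if_neg hqq, if_neg (fun e => hqq (hxv.symm.trans e)), mul_zero]
        · rw [if_neg hxv, if_neg hxv, zero_mul]
    rw [Finset.sum_congr rfl fun x _ => hterm x, Finset.sum_add_distrib, Finset.sum_ite_eq',
      Finset.sum_ite_eq', if_pos (Finset.mem_univ _), if_pos (Finset.mem_univ _)] at h2
    have hv0 : V₀ r * V₀ r = 1 := by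
      rcases (hval V₀ h0 r).resolve_left ((hmem r).mp hrm.2.2) with e | e <;> simp [e]
    rw [hv0] at h2
    by_cases hq : qV = qW
    · rw [if_pos hq] at h2
      refine ⟨hq, ?_⟩
      rcases (hval V hV qV).resolve_left (hq0 V hV hV') with e | e <;>
        rcases (hval W hW qW).resolve_left (hq0 W hW hW') with e' | e' <;>
        rw [e, e'] at h2 ⊢ <;> norm_num at h2
    · rw [if_neg hq] at h2; norm_num at h2
  -- hence at most four vectors
  let F : X → X → ℤ := fun y x =>
    if x ∈ s.erase y then V₀ x else if x = q A hA hA' then A (q A hA hA') else 0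
  have hsub : 𝒱 ⊆ insert V₀ (s.image F) := by
    intro V hV
    by_cases hV' : V = V₀
    · exact hV' ▸ Finset.mem_insert_self _ _
    refine Finset.mem_insert_of_mem (Finset.mem_image.mpr ⟨p V hV hV', hp _ _ _, funext fun x => ?_⟩)
    have hAB := hnew A hA hA' B hB hB' hne
    have hVA : q V hV hV' = q A hA hA' ∧ V (q V hV hV') = A (q A hA hA') := by
      by_cases h : p V hV hV' = p A hA hA'
      · have := hnew V hV hV' B hB hB' (h ▸ hne)
        exact ⟨this.1.trans hAB.1.symm, this.2.trans hAB.2.symm⟩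
      · exact hnew V hV hV' A hA hA' h
    rw [hform V hV hV' x, hVA.1]
    simp only [F]
    rw [hVA.1] at hVA
    rw [hVA.2]
  have h1 := (Finset.card_le_card hsub).trans (Finset.card_insert_le _ _)
  have h2 := Finset.card_image_le (s := s) (f := F)
  omega

/-- Two of three numbers congruent to one modulo four. -/
theorem three_values {v₁ v₂ v₃ : ℤ} (h₁ : (4 : ℤ) ∣ v₁ - 1) (h₂ : (4 : ℤ) ∣ v₂ - 1)
    (h₃ : (4 : ℤ) ∣ v₃ - 1) (hs : 1 + v₁ + v₂ + v₃ = 0)
    (hsq : 1 + (v₁ * v₁ + v₂ * v₂ + v₃ * v₃) ≤ 16) :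
    (v₁ = 1 ∧ v₂ = 1) ∨ (v₁ = 1 ∧ v₃ = 1) ∨ (v₂ = 1 ∧ v₃ = 1) := by
  have b : ∀ v : ℤ, v * v ≤ 15 → -3 ≤ v ∧ v ≤ 3 := fun v h => by constructor <;> nlinarith
  have := b v₁ (by nlinarith)
  have := b v₂ (by nlinarith)
  have := b v₃ (by nlinarith)
  omega

theorem eq_one_of_dvd_of_sq_le {q v : ℤ} (hq : 7 ≤ q) (hd : q ∣ v - 1) (h : v * v ≤ 4 * q) :
    v = 1 := by
  obtain ⟨k, hk⟩ := hd
  rcases lt_trichotomy k 0 with hk0 | hk0 | hk0
  · have : v ≤ 1 - q := by nlinarith
    nlinarith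
  · subst hk0; linarith
  · have : 1 + q ≤ v := by nlinarith
    nlinarith

end Cfsg.Agent.ZStar
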