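import Cfsg.Agent.ZStar.Homocyclic
import Cfsg.Agent.ZStar.HomocyclicArith
import Cfsg.Agent.ZStar.BlocksAbelian
import Cfsg.Agent.Lib.CharCore.Complete
import Cfsg.Agent.Lib.CharCore.Eigen
import Cfsg.Agent.Lib.CharCore.Linear
import Cfsg.Agent.Lib.Involution.StronglyEmbedded
import Cfsg.Agent.S4722
import Cfsg.Agent.Lib.BlocksDefect.PrincipalSection
import Mathlib.GroupTheory.Transfer

/-!
# A homocyclic Sylow 2-subgroup with an automorphism of order three gives a normal subgroup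
-/

set_option autoImplicit false

open Cfsg
open scoped ComplexConjugate

namespace Cfsg.Agent.ZStar

variable {G : Type*} [Group G] [Finite G] {P : Sylow 2 G}

/-- An abelian Sylow 2-subgroup all of whose normalising elements fixing `x` centralise it. -/
theorem abelian_sectionData (hc : ∀ x ∈ P, ∀ y ∈ P, x * y = y * x) {x : G} (hx : x ∈ P)
    (hN : ∀ n ∈ Subgroup.normalizer ((P : Subgroup G) : Set G), n * x = x * n →
      n ∈ Subgroup.centralizer ((P : Subgroup G) : Set G)) :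
    ∃ K : Subgroup G, SectionData 2 x K ∧
      Nat.card (Subgroup.centralizer ({x} : Set G)) = Nat.card (P : Subgroup G) * Nat.card K ∧
      (∀ c ∈ Subgroup.centralizer ({x} : Set G), ∃ v ∈ Subgroup.centralizer ({x} : Set G),
        ∃ k ∈ K, c = v * k ∧ (∃ n : ℕ, v ^ 2 ^ n = 1) ∧
          ∀ b ∈ Subgroup.centralizer ({x} : Set G), v * b * v⁻¹ * b⁻¹ ∈ K) := by
  classical
  haveI : Fact (Nat.Prime 2) := ⟨Nat.prime_two⟩
  set C := Subgroup.centralizer ({x} : Set G)
  have hPC : (P : Subgroup G) ≤ C := fun y hy =>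
    Subgroup.mem_centralizer_singleton_iff.mpr (hc y hy x hx)
  set T : Sylow 2 C := P.subtype hPC
  have hTc : ∀ s t : C, s ∈ (T : Subgroup C) → t ∈ (T : Subgroup C) → s * t = t * s :=
    fun s t hs ht => Subtype.ext (hc s hs t ht)
  have hNC : Subgroup.normalizer ((T : Subgroup C) : Set C) ≤
      Subgroup.centralizer ((T : Subgroup C) : Set C) := by
    intro n hn
    have hnP : (n : G) ∈ Subgroup.normalizer ((P : Subgroup G) : Set G) := by
      rw [Subgroup.mem_normalizer_iff]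
      intro y
      constructor
      · intro hy
        exact (Subgroup.mem_normalizer_iff.mp hn ⟨y, hPC hy⟩).mp hy
      · intro hy
        have hyC : y ∈ C := by
          have := C.mul_mem (C.mul_mem (C.inv_mem n.2) (hPC hy)) n.2
          simpa [mul_assoc] using this
        exact (Subgroup.mem_normalizer_iff.mp hn ⟨y, hyC⟩).mpr hy
    have hnc := hN n hnP (Subgroup.mem_centralizer_singleton_iff.mp n.2)
    exact Subgroup.mem_centralizer_iff.mpr fun s hs =>
      Subtype.ext (Subgroup.mem_centralizer_iff.mp hnc s hs)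
  obtain ⟨K', hn, hcompl, hab⟩ : ∃ K' : Subgroup C, K'.Normal ∧
      Subgroup.IsComplement' K' (T : Subgroup C) ∧ ∀ u v : C, u * v * u⁻¹ * v⁻¹ ∈ K' := by
    refine ⟨_, inferInstance, MonoidHom.ker_transferSylow_isComplement' T hNC, fun u v => ?_⟩
    have hcc : ∀ s t : (T : Subgroup C), s * t = t * s :=
      fun s t => Subtype.ext (hTc s t s.2 t.2)
    rw [MonoidHom.mem_ker, map_mul, map_mul, map_mul, map_inv, map_inv]
    rw [hcc (MonoidHom.transferSylow T hNC u), mul_inv_cancel_right, mul_inv_cancel]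
  obtain ⟨k, hk⟩ := IsPGroup.iff_card.mp P.2
  obtain ⟨i, -, hi⟩ := (Nat.dvd_prime_pow Nat.prime_two).mp
    (hk ▸ Subgroup.orderOf_dvd_natCard (P : Subgroup G) hx)
  refine ⟨K'.map C.subtype, ⟨⟨i, hi⟩, Subgroup.map_subtype_le _, ?_, ?_⟩, ?_, ?_⟩
  · intro c hc'
    rw [Subgroup.mem_normalizer_iff]
    intro g
    constructor
    · rintro ⟨y, hy, rfl⟩
      exact ⟨⟨c, hc'⟩ * y * ⟨c, hc'⟩⁻¹, hn.conj_mem y hy _, by simp⟩
    · rintro ⟨y, hy, hye⟩
      refine ⟨⟨c, hc'⟩⁻¹ * y * ⟨c, hc'⟩, by simpa using hn.conj_mem y hy ⟨c, hc'⟩⁻¹, ?_⟩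
      simp only [Subgroup.coe_subtype, Subgroup.coe_mul, InvMemClass.coe_inv] at hye ⊢
      rw [hye]; group
  · rw [Subgroup.card_map_of_injective (Subgroup.subtype_injective _), ← hcompl.index_eq_card]
    exact T.not_dvd_index
  · rw [Subgroup.card_map_of_injective (Subgroup.subtype_injective _), ← hcompl.card_mul, mul_comm]
    congr 1
    exact Nat.card_congr (Subgroup.subgroupOfEquivOfLe hPC).toEquiv
  · intro c hc'
    obtain ⟨⟨k, u⟩, hku⟩ := (hcompl.existsUnique ⟨c, hc'⟩).exists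
    obtain ⟨j, hj⟩ := T.2 u
    refine ⟨(u : C), (u : C).2, ((u : C)⁻¹ * (k : C) * u : C),
      ⟨_, by simpa using hn.conj_mem _ k.2 (u : C)⁻¹, rfl⟩, ?_, ⟨j, ?_⟩, fun b hb =>
      ⟨(u : C) * ⟨b, hb⟩ * (u : C)⁻¹ * ⟨b, hb⟩⁻¹, hab _ _, by simp⟩⟩
    · have h1 := congrArg Subtype.val hku
      simp only [Subgroup.coe_mul, InvMemClass.coe_inv] at h1 ⊢
      rw [← h1]
      group
    · exact congrArg (fun z : (T : Subgroup C) => ((z : C) : G)) hj

open scoped Classical in
/-- Orthogonality of two columns of the principal block at elements of an abelian Sylow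
subgroup. -/
theorem sum_block_col {M : Ideal AlgInt} (hM : IsPModular 2 M)
    (hc : ∀ x ∈ P, ∀ y ∈ P, x * y = y * x) {x y : G} (hx : x ∈ P) (hy : y ∈ P)
    (hN : ∀ n ∈ Subgroup.normalizer ((P : Subgroup G) : Set G), n * x = x * n →
      n ∈ Subgroup.centralizer ((P : Subgroup G) : Set G)) :
    ∑ χ : IrrCharacter G, (if χ ∈ principalBlock M G then
        (χ : G → ℂ) x * conj ((χ : G → ℂ) y) else 0) =
      if IsConj x y then (Nat.card (P : Subgroup G) : ℂ) else 0 := by
  haveI : Fact (Nat.Prime 2) := ⟨Nat.prime_two⟩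
  haveI := Fintype.ofFinite G
  haveI := BlocksCore.isPrime hM
  obtain ⟨K, hK, hcard, hgen⟩ := abelian_sectionData hc hx hN
  obtain ⟨k, hk⟩ := IsPGroup.iff_card.mp P.2
  have hpow : ∀ z ∈ P, z ^ 2 ^ k = 1 := fun z hz =>
    orderOf_dvd_iff_pow_eq_one.mp (hk ▸ Subgroup.orderOf_dvd_natCard (P : Subgroup G) hz)
  have hKne : (Nat.card K : ℂ) ≠ 0 := Nat.cast_ne_zero.mpr Nat.card_pos.ne'
  have hL : ∀ χ : IrrCharacter G,
      ∑ j : K, (χ : G → ℂ) (x * j) * conj ((χ : G → ℂ) y) =
        (Nat.card K : ℂ) * (if χ ∈ principalBlock M G then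
          (χ : G → ℂ) x * conj ((χ : G → ℂ) y) else 0) := by
    intro χ
    rw [← Finset.sum_mul]
    by_cases hB : χ ∈ principalBlock M G
    · rw [if_pos hB, Finset.sum_congr rfl (fun (j : K) _ => apply_mul_eq hM hK hB (v := (j : G)) j.2),
        Finset.sum_const, Finset.card_univ, ← Nat.card_eq_fintype_card, nsmul_eq_mul, mul_assoc]
    · rw [← finsum_eq_sum_of_fintype, sum_eq_zero_of_abelian hM hK hgen hB, if_neg hB]
      simp
  apply mul_left_cancel₀ hKne
  rw [Finset.mul_sum, ← Finset.sum_congr rfl (fun χ _ => hL χ), Finset.sum_comm,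
    Finset.sum_congr rfl fun (j : K) _ => CharCore.sum_apply_mul_conj (x * (j : G)) y,
    Finset.sum_eq_single (1 : K)]
  · rw [Subgroup.coe_one, mul_one]
    split_ifs
    · rw [hcard, Nat.cast_mul, mul_comm]
    · rw [mul_zero]
  · intro j _ hj
    refine if_neg fun hconj => hj (Subtype.ext ?_)
    obtain ⟨c, hcc⟩ := isConj_iff.mp hconj
    have h1 : (x * (j : G)) ^ 2 ^ k = 1 := by
      have := hpow y hy
      rwa [← hcc, conj_pow, conj_eq_one_iff] at this
    have hxj : Commute x (j : G) := (Subgroup.mem_centralizer_singleton_iff.mp (hK.le j.2)).symm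
    rw [hxj.mul_pow, hpow x hx, one_mul] at h1
    rw [Subgroup.coe_one, ← orderOf_eq_one_iff]
    exact Nat.eq_one_of_dvd_coprimes (Nat.Coprime.pow_left k
      ((Nat.prime_two.coprime_iff_not_dvd).mpr fun h => hK.coprime
        (h.trans (Subgroup.orderOf_dvd_natCard K j.2)))) (orderOf_dvd_of_pow_eq_one h1) dvd_rfl
  · intro h; exact absurd (Finset.mem_univ _) h

/-- Sums of linear characters. -/
theorem sum_hom_eq_zero {T : Type*} [Group T] [Fintype T] {f : T →* ℂˣ} (hf : f ≠ 1) :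
    ∑ x, (f x : ℂ) = 0 := by
  obtain ⟨z, hz⟩ := DFunLike.ne_iff.mp hf
  have h : (f z : ℂ) * ∑ x, (f x : ℂ) = ∑ x, (f x : ℂ) := by
    rw [Finset.mul_sum]
    exact Fintype.sum_equiv (Equiv.mulLeft z) _ _ fun x => by simp
  by_contra hne
  exact hz (Units.ext (by simpa using mul_right_cancel₀ hne (h.trans (one_mul _).symm)))

theorem conj_hom {T : Type*} [Group T] [Finite T] (f : T →* ℂˣ) (x : T) :
    conj (f x : ℂ) = (f x⁻¹ : ℂ) :=
  (CharCore.IsCharacter.apply_inv
    (CharCore.IsIrrCharacter.isCharacter (CharCore.isIrrCharacter_hom f)) x).symm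

open scoped Classical in
theorem sum_hom_mul_conj {T : Type*} [Group T] [Fintype T] (f g : T →* ℂˣ) :
    ∑ x, (f x : ℂ) * conj (g x : ℂ) = if f = g then (Nat.card T : ℂ) else 0 := by
  have h : ∀ x, (f x : ℂ) * conj (g x : ℂ) = ((f / g) x : ℂ) := fun x => by
    rw [conj_hom, MonoidHom.div_apply, map_inv, div_eq_mul_inv, Units.val_mul]
  simp only [h]
  split_ifs with hfg
  · simp [hfg, Nat.card_eq_fintype_card]
  · exact sum_hom_eq_zero fun e => hfg (div_eq_one.mp e)

set_option maxHeartbeats 1000000 in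
/-- **Exceptional characters for a homocyclic Sylow 2-subgroup.** -/
theorem exists_proper_normal_of_homocyclic {M : Ideal AlgInt} (hM : IsPModular 2 M) {a b r : G}
    (h : ThreeInv P a b) (hrN : r ∈ Subgroup.normalizer ((P : Subgroup G) : Set G))
    (hra : r * a * r⁻¹ = b) (hrrfix : r * r * a * (r * r)⁻¹ ≠ a)
    {q : ℕ} (hcard : Nat.card (P : Subgroup G) = 4 * q) (hq : q = 4 ∨ (16 ≤ q ∧ 4 ∣ q)) :
    ∃ K : Subgroup G, K.Normal ∧ K ≠ ⊤ ∧ (P : Subgroup G) ≤ K := by
  classical
  haveI : Fact (Nat.Prime 2) := ⟨Nat.prime_two⟩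
  haveI := Fintype.ofFinite G
  haveI := BlocksCore.isPrime hM
  set T := (P : Subgroup G) with hT
  letI : CommGroup T :=
    { (inferInstance : Group T) with mul_comm := fun x y => Subtype.ext (h.comm x x.2 y y.2) }
  haveI : Finite (T →* ℂˣ) :=
    Finite.of_equiv _ (CommGroup.monoidHom_mulEquiv_of_hasEnoughRootsOfUnity T ℂ).some.symm.toEquiv
  haveI := Fintype.ofFinite (T →* ℂˣ)
  -- the automorphism
  have hconjmem : ∀ {n : G}, n ∈ Subgroup.normalizer (T : Set G) → ∀ x ∈ T, n * x * n⁻¹ ∈ T :=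
    fun {n} hn x hx => (Subgroup.mem_normalizer_iff.mp hn x).mp hx
  let φ : T →* T := MonoidHom.mk' (fun x => ⟨r * x * r⁻¹, hconjmem hrN x x.2⟩)
    fun x y => Subtype.ext (by simp [mul_assoc])
  have hφ : ∀ x : T, (φ x : G) = r * x * r⁻¹ := fun _ => rfl
  have hfix' : ∀ n ∈ Subgroup.normalizer (T : Set G), ∀ x ∈ T, x ≠ 1 → n * x = x * n →
      n ∈ Subgroup.centralizer (T : Set G) := fun n hn x hx hx1 he =>
    h.mem_centralizer_of_fix' hn hx hx1 he
  have hinvol : ∀ x ∈ T, x * x = 1 → x ≠ 1 → x = a ∨ x = r * a * r⁻¹ ∨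
      x = r * r * a * (r * r)⁻¹ := by
    intro x hx hxx hx1
    have hc := h.inv_mem _ (hconjmem (mul_mem hrN hrN) a h.a_mem) (by
      rw [show r * r * a * (r * r)⁻¹ * (r * r * a * (r * r)⁻¹) = r * r * (a * a) * (r * r)⁻¹ by
        group, h.a_sq]; group)
    rcases hc with e | e | e | e
    · exact absurd (conj_eq_one_iff.mp e) h.a_ne
    · exact absurd e hrrfix
    · exfalso
      apply h.ne
      have e' : r * (r * a * r⁻¹) * r⁻¹ = r * a * r⁻¹ := by
        rw [show r * (r * a * r⁻¹) * r⁻¹ = r * r * a * (r * r)⁻¹ by group, e, hra]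
      rw [← hra]
      exact (mul_left_cancel (mul_right_cancel e')).symm
    · rcases h.inv_mem x hx hxx with e' | e' | e' | e'
      · exact absurd e' hx1
      · exact Or.inl e'
      · exact Or.inr (Or.inl (by rw [e', hra]))
      · exact Or.inr (Or.inr (by rw [e', e]))
  have hnorm3 : ∀ n ∈ Subgroup.normalizer (T : Set G), n * a * n⁻¹ = a ∨
      n * a * n⁻¹ = r * a * r⁻¹ ∨ n * a * n⁻¹ = r * r * a * (r * r)⁻¹ := fun n hn =>
    hinvol _ (hconjmem hn a h.a_mem) (by
      rw [show n * a * n⁻¹ * (n * a * n⁻¹) = n * (a * a) * n⁻¹ by group, h.a_sq]; group)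
      fun e => h.a_ne (conj_eq_one_iff.mp e)
  have hact : ∀ n ∈ Subgroup.normalizer (T : Set G), ∀ g ∈ Subgroup.normalizer (T : Set G),
      n * a * n⁻¹ = g * a * g⁻¹ → ∀ x ∈ T, n * x * n⁻¹ = g * x * g⁻¹ := by
    intro n hn g hg he x hx
    have h1 : g⁻¹ * n ∈ Subgroup.centralizer (T : Set G) := by
      refine hfix' _ (mul_mem (inv_mem hg) hn) a h.a_mem h.a_ne ?_
      calc g⁻¹ * n * a = g⁻¹ * (n * a * n⁻¹) * n := by group
        _ = a * (g⁻¹ * n) := by rw [he]; group
    calc n * x * n⁻¹ = g * ((g⁻¹ * n) * x) * n⁻¹ := by group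
      _ = g * x * g⁻¹ := by
          rw [← Subgroup.mem_centralizer_iff.mp h1 x hx]; group
  have hr3a : r * r * r * a * (r * r * r)⁻¹ = a := by
    rcases hnorm3 (r * r * r) (mul_mem (mul_mem hrN hrN) hrN) with e | e | e
    · exact e
    · refine absurd ?_ hrrfix
      calc r * r * a * (r * r)⁻¹ = r⁻¹ * (r * r * r * a * (r * r * r)⁻¹) * r := by group
        _ = a := by rw [e]; group
    · refine absurd ?_ h.ne
      rw [← hra]
      calc a = (r * r)⁻¹ * (r * r * a * (r * r)⁻¹) * (r * r) := by group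
        _ = r * a * r⁻¹ := by rw [← e]; group
  have hφ3 : ∀ x : T, φ (φ (φ x)) = x := fun x => Subtype.ext (by
    have := hact _ (mul_mem (mul_mem hrN hrN) hrN) 1 (one_mem _) (by rw [hr3a]; simp) x x.2
    simp only [hφ]
    rw [show r * (r * (r * (x : G) * r⁻¹) * r⁻¹) * r⁻¹ = r * r * r * (x : G) * (r * r * r)⁻¹ by
      group, this]; simp)
  have hψ : ∀ x : T, φ x = x → x = 1 := fun x hx => by
    by_contra hx1
    have h1 := hfix' r hrN x x.2 (fun e => hx1 (Subtype.ext e))
      (mul_inv_eq_iff_eq_mul.mp (congrArg Subtype.val hx))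
    have := Subgroup.mem_centralizer_iff.mp h1 a h.a_mem
    exact h.ne (by rw [← hra, ← this]; group)
  have hψ2 : ∀ x : T, φ (φ x) = x → x = 1 := fun x hx => hψ x (by
    have := congrArg φ hx
    rw [hφ3] at this
    exact this.symm)
  have hψsurj : ∀ y : T, ∃ x : T, x⁻¹ * φ x = y := by
    intro y
    refine Finite.surjective_of_injective (f := fun x : T => x⁻¹ * φ x) (fun u v huv => ?_) y
    have h1 : φ (u * v⁻¹) = u * v⁻¹ := by
      have h2 : φ u = u * (v⁻¹ * φ v) := by simp only at huv; rw [← huv]; simp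
      rw [map_mul, map_inv, h2]
      group
    exact mul_inv_eq_one.mp (hψ _ h1)
  -- fusion
  have hfus : ∀ x y : T, x ≠ 1 → (IsConj (x : G) y ↔ y = x ∨ y = φ x ∨ y = φ (φ x)) := by
    intro x y hx1
    constructor
    · intro hconj
      obtain ⟨g, hg⟩ := isConj_iff.mp hconj
      obtain ⟨n, hn, hne⟩ := P.conj_eq_normalizer_conj_of_mem_centralizer (x : G) g⁻¹
        (h.sylow_le_centralizer x.2) (by rw [inv_inv, hg]; exact h.sylow_le_centralizer y.2)
      rw [inv_inv, hg] at hne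
      have hn' := inv_mem hn
      have hy : (y : G) = n⁻¹ * x * n⁻¹⁻¹ := by rw [inv_inv]; exact hne
      rcases hnorm3 _ hn' with e | e | e
      · left; apply Subtype.ext
        rw [hy, hact _ hn' 1 (one_mem _) (by rw [e]; simp) x x.2]; simp
      · right; left; apply Subtype.ext
        rw [hy, hact _ hn' r hrN e x x.2, hφ]
      · right; right; apply Subtype.ext
        rw [hy, hact _ hn' (r * r) (mul_mem hrN hrN) e x x.2, hφ, hφ]; group
    · rintro (e | e | e)
      · rw [e]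
      · rw [e, isConj_iff]; exact ⟨r, rfl⟩
      · rw [e, isConj_iff]; exact ⟨r * r, by rw [hφ, hφ]; group⟩
  have hdist : ∀ x : T, x ≠ 1 → x ≠ φ x ∧ x ≠ φ (φ x) ∧ φ x ≠ φ (φ x) := fun x hx =>
    ⟨fun e => hx (hψ x e.symm), fun e => hx (hψ2 x e.symm), fun e => hx (by
      have := congrArg (fun z => φ (φ z)) e
      simp only [hφ3] at this
      exact hψ x this.symm)⟩
  -- involutions
  have hWφ : ∀ x : T, x * x = 1 → φ x * φ x = 1 := fun x hx => by rw [← map_mul, hx, map_one]
  set A : T := ⟨a, h.a_mem⟩ with hA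
  have hAA : A * A = 1 := Subtype.ext h.a_sq
  have hA1 : A ≠ 1 := fun e => h.a_ne (congrArg Subtype.val e)
  set W : Finset T := Finset.univ.filter fun x => x * x = 1 with hW
  have hWeq : W = {1, A, φ A, φ (φ A)} := by
    ext x
    simp only [hW, Finset.mem_filter, Finset.mem_univ, true_and, Finset.mem_insert,
      Finset.mem_singleton]
    constructor
    · intro hx
      by_cases hx1 : x = 1
      · exact Or.inl hx1
      right
      rcases hinvol x x.2 (congrArg Subtype.val hx) (fun e => hx1 (Subtype.ext e)) with e | e | e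
      · exact Or.inl (Subtype.ext e)
      · exact Or.inr (Or.inl (Subtype.ext e))
      · exact Or.inr (Or.inr (Subtype.ext (by rw [hφ, hφ, e]; simp [hA]; group)))
    · rintro (rfl | rfl | rfl | rfl)
      exacts [one_mul _, hAA, hWφ _ hAA, hWφ _ (hWφ _ hAA)]
  have hne1 : ∀ x : T, x ≠ 1 → φ x ≠ 1 := fun x hx e => hx (by
    have := congrArg (fun z => φ (φ z)) e
    simpa [hφ3] using this)
  have hWsum : ∀ F : T → ℂ, ∑ x ∈ W, F x = F 1 + (F A + (F (φ A) + F (φ (φ A)))) := by
    intro F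
    obtain ⟨d1, d2, d3⟩ := hdist A hA1
    rw [hWeq, Finset.sum_insert, Finset.sum_insert, Finset.sum_pair d3]
    · simp [d1, d2]
    · simp [hA1.symm, (hne1 A hA1).symm, (hne1 _ (hne1 A hA1)).symm]
  have hT4 : (Nat.card T : ℂ) = 4 * (q : ℂ) := by rw [hcard]; push_cast; rfl
  have hTne : (Nat.card T : ℂ) ≠ 0 := Nat.cast_ne_zero.mpr Nat.card_pos.ne'
  -- the characters trivial on the involutions
  set A0 : Finset (T →* ℂˣ) := Finset.univ.filter fun g => ∀ x : T, x * x = 1 → g x = 1 with hA0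
  have hA0mem : ∀ g, g ∈ A0 ↔ ∀ x : T, x * x = 1 → g x = 1 := fun g => by simp [hA0]
  have hA0sum : ∀ x : T, ∑ g ∈ A0, (g x : ℂ) = if x * x = 1 then (A0.card : ℂ) else 0 := by
    intro x
    split_ifs with hx
    · rw [Finset.sum_congr rfl fun g hg => by rw [(hA0mem g).mp hg x hx, Units.val_one]]
      simp
    · have hnotin : x ∉ (powMonoidHom 2 : T →* T).ker := by
        rw [MonoidHom.mem_ker, powMonoidHom_apply, pow_two]; exact hx
      rw [← CommGroup.forall_monoidHom_apply_eq_one_iff (M := ℂ)] at hnotin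
      simp only [not_forall] at hnotin
      obtain ⟨g₀, hg₀, hg₀x⟩ := hnotin
      have hg₀A : g₀ ∈ A0 := (hA0mem g₀).mpr fun y hy => hg₀ y (by
        rw [MonoidHom.mem_ker, powMonoidHom_apply, pow_two]; exact hy)
      have hs : (g₀ x : ℂ) * ∑ g ∈ A0, (g x : ℂ) = ∑ g ∈ A0, (g x : ℂ) := by
        rw [Finset.mul_sum]
        refine Finset.sum_equiv (Equiv.mulLeft g₀) (fun g => ?_) fun g _ => by simp
        simp only [hA0mem, Equiv.coe_mulLeft, MonoidHom.mul_apply]
        exact ⟨fun hg y hy => by rw [(hA0mem g₀).mp hg₀A y hy, hg y hy, one_mul],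
          fun hg y hy => by
            have := hg y hy
            rwa [(hA0mem g₀).mp hg₀A y hy, one_mul] at this⟩
      by_contra hne
      exact hg₀x (Units.ext (by simpa using mul_right_cancel₀ hne (hs.trans (one_mul _).symm)))
  have hA0card : A0.card = q := by
    have h1 : ∑ g ∈ A0, ∑ x : T, (g x : ℂ) = (Nat.card T : ℂ) := by
      rw [Finset.sum_eq_single 1]
      · simp [Nat.card_eq_fintype_card]
      · exact fun g _ hg => sum_hom_eq_zero hg
      · exact fun hn => absurd ((hA0mem 1).mpr fun _ _ => rfl) hn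
    rw [Finset.sum_comm, Finset.sum_congr rfl fun x _ => hA0sum x, ← Finset.sum_filter,
      ← hW, hWsum, hT4] at h1
    have : ((A0.card : ℕ) : ℂ) = (q : ℂ) := by linear_combination h1 / 4
    exact_mod_cast this
  have hq4 : 4 ≤ q := by omega
  have hq44 : 4 ∣ q := by rcases hq with e | e; exacts [e ▸ dvd_rfl, e.2]
  -- multiplicities
  have hmex : ∀ (χ : IrrCharacter G) (f : T →* ℂˣ), ∃ z : ℤ,
      ∑ x : T, (χ : G → ℂ) x * conj (f x : ℂ) = (Nat.card T : ℂ) * z := by
    intro χ f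
    obtain ⟨z, hz⟩ := CharCore.IsCharacter.exists_classInner_eq_natCast
      (CharCore.isCharacter_restrict (CharCore.irr_isCharacter χ) T)
      (CharCore.IsIrrCharacter.isCharacter (CharCore.isIrrCharacter_hom f))
    refine ⟨z, ?_⟩
    rw [Int.cast_natCast, ← hz, CharCore.classInner_def, mul_inv_cancel_left₀ hTne]
  choose m hm using hmex
  let B := principalBlock M G
  let vec : (T →* ℂˣ) → (T →* ℂˣ) → IrrCharacter G → ℤ :=
    fun f g χ => if χ ∈ B then m χ f - m χ g else 0
  let I : (T →* ℂˣ) → (T →* ℂˣ) → ℤ := fun u v => (if u = v then 1 else 0) +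
    (if u.comp φ = v then 1 else 0) + (if (u.comp φ).comp φ = v then 1 else 0)
  have hIsum : ∀ u v : T →* ℂˣ,
      ∑ x : T, conj (v x : ℂ) * ((u x : ℂ) + u (φ x) + u (φ (φ x))) = (Nat.card T : ℂ) * I u v := by
    intro u v
    have e1 : ∀ w : T →* ℂˣ, ∑ x : T, conj (v x : ℂ) * (w x : ℂ) =
        if w = v then (Nat.card T : ℂ) else 0 := fun w => by
      rw [← sum_hom_mul_conj w v]
      exact Finset.sum_congr rfl fun x _ => mul_comm _ _
    simp only [mul_add, Finset.sum_add_distrib]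
    rw [show ∑ x : T, conj (v x : ℂ) * (u x : ℂ) = _ from e1 u,
      show ∑ x : T, conj (v x : ℂ) * (u (φ x) : ℂ) = _ from e1 (u.comp φ),
      show ∑ x : T, conj (v x : ℂ) * (u (φ (φ x)) : ℂ) = _ from e1 ((u.comp φ).comp φ)]
    simp only [I]
    push_cast
    split_ifs <;> ring
  have hinner : ∀ f g f' g' : T →* ℂˣ, (∀ x : T, x * x = 1 → f x = g x) →
      (∀ x : T, x * x = 1 → f' x = g' x) →
      ∑ χ, vec f g χ * vec f' g' χ = I f' f - I f' g - I g' f + I g' g := by
    intro f g f' g' hfg hfg'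
    let θ : T → ℂ := fun x => (f x : ℂ) - g x
    let θ' : T → ℂ := fun x => (f' x : ℂ) - g' x
    have hθ1 : θ 1 = 0 := by simp [θ]
    have hθ'1 : θ' 1 = 0 := by simp [θ']
    have hvec : ∀ χ, (Nat.card T : ℂ) * vec f g χ =
        if χ ∈ B then ∑ x : T, (χ : G → ℂ) x * conj (θ x) else 0 := by
      intro χ
      by_cases hB : χ ∈ B
      · simp only [vec, if_pos hB, θ, map_sub, mul_sub, Finset.sum_sub_distrib, hm]
        push_cast; ring
      · simp [vec, if_neg hB]
    have hvec' : ∀ χ, (Nat.card T : ℂ) * vec f' g' χ =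
        if χ ∈ B then ∑ y : T, conj ((χ : G → ℂ) y) * θ' y else 0 := by
      intro χ
      have e : (Nat.card T : ℂ) * vec f' g' χ = conj ((Nat.card T : ℂ) * vec f' g' χ) := by simp
      rw [e]
      by_cases hB : χ ∈ B
      · simp only [vec, if_pos hB, Int.cast_sub, mul_sub, ← hm, map_sub, map_sum, map_mul,
          Complex.conj_conj, θ', ← Finset.sum_sub_distrib]
      · simp [vec, if_neg hB]
    have key : ∀ x y : T, conj (θ x) * θ' y *
        ∑ χ : IrrCharacter G, (if χ ∈ B then (χ : G → ℂ) x * conj ((χ : G → ℂ) y) else 0) =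
        if x = 1 then 0 else if y = x ∨ y = φ x ∨ y = φ (φ x) then
          (Nat.card T : ℂ) * (conj (θ x) * θ' y) else 0 := by
      intro x y
      by_cases hx : x = 1
      · rw [if_pos hx, hx, hθ1]; simp
      rw [if_neg hx, sum_block_col hM h.comm x.2 y.2
        fun n hn he => hfix' n hn x x.2 (fun e => hx (Subtype.ext e)) he]
      by_cases hxy : IsConj (x : G) y
      · rw [if_pos hxy, if_pos ((hfus x y hx).mp hxy), mul_comm]
      · rw [if_neg hxy, if_neg fun e => hxy ((hfus x y hx).mpr e), mul_zero]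
    have hbig : (Nat.card T : ℂ) * Nat.card T * ((∑ χ, vec f g χ * vec f' g' χ : ℤ) : ℂ) =
        (Nat.card T : ℂ) * Nat.card T * ((I f' f - I f' g - I g' f + I g' g : ℤ) : ℂ) := by
      calc (Nat.card T : ℂ) * Nat.card T * ((∑ χ, vec f g χ * vec f' g' χ : ℤ) : ℂ)
          = ∑ χ, ((Nat.card T : ℂ) * vec f g χ) * ((Nat.card T : ℂ) * vec f' g' χ) := by
            push_cast
            rw [Finset.mul_sum]
            exact Finset.sum_congr rfl fun χ _ => by ring
        _ = ∑ x : T, ∑ y : T, conj (θ x) * θ' y *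
            ∑ χ : IrrCharacter G, (if χ ∈ B then (χ : G → ℂ) x * conj ((χ : G → ℂ) y) else 0) := by
            simp only [hvec, hvec']
            simp only [Finset.mul_sum]
            conv_rhs => rw [Finset.sum_congr rfl fun x _ => Finset.sum_comm, Finset.sum_comm]
            refine Finset.sum_congr rfl fun χ _ => ?_
            by_cases hB : χ ∈ B
            · simp only [if_pos hB, ← Finset.mul_sum]
              rw [Finset.sum_mul_sum]
              exact Finset.sum_congr rfl fun x _ => Finset.sum_congr rfl fun y _ => by ring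
            · simp [if_neg hB]
        _ = ∑ x : T, (Nat.card T : ℂ) * (conj (θ x) * (θ' x + θ' (φ x) + θ' (φ (φ x)))) := by
            refine Finset.sum_congr rfl fun x _ => ?_
            simp only [key]
            by_cases hx : x = 1
            · simp [hx, hθ1]
            obtain ⟨d1, d2, d3⟩ := hdist x hx
            simp only [if_neg hx]
            rw [← Finset.sum_filter, show (Finset.univ.filter fun y => y = x ∨ y = φ x ∨ y = φ (φ x))
              = {x, φ x, φ (φ x)} by ext; simp, Finset.sum_insert (by simp [d1, d2]),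
              Finset.sum_pair d3]
            ring
        _ = _ := by
            have e : ∀ x : T, conj (θ x) * (θ' x + θ' (φ x) + θ' (φ (φ x))) =
                conj (f x : ℂ) * ((f' x : ℂ) + f' (φ x) + f' (φ (φ x)))
                - conj (g x : ℂ) * ((f' x : ℂ) + f' (φ x) + f' (φ (φ x)))
                - conj (f x : ℂ) * ((g' x : ℂ) + g' (φ x) + g' (φ (φ x)))
                + conj (g x : ℂ) * ((g' x : ℂ) + g' (φ x) + g' (φ (φ x))) := fun x => by
              simp only [θ, θ', map_sub]; ring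
            rw [← Finset.mul_sum, Finset.sum_congr rfl fun x _ => e x]
            simp only [Finset.sum_add_distrib, Finset.sum_sub_distrib, hIsum]
            push_cast
            ring
    exact_mod_cast mul_left_cancel₀ (mul_ne_zero hTne hTne) hbig
  -- the composites
  have hcomp : ∀ g : T →* ℂˣ, g.comp φ = g → g = 1 := fun g hg => MonoidHom.ext fun y => by
    obtain ⟨x, rfl⟩ := hψsurj y
    rw [map_mul, map_inv, ← MonoidHom.comp_apply, hg, inv_mul_cancel]; rfl
  have hcomp3 : ∀ g : T →* ℂˣ, ((g.comp φ).comp φ).comp φ = g := fun g =>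
    MonoidHom.ext fun x => by simp [hφ3]
  have hcomp2 : ∀ g : T →* ℂˣ, (g.comp φ).comp φ = g → g = 1 := fun g hg => hcomp g (by
    conv_rhs => rw [← hcomp3 g, hg])
  have hI1 : I 1 1 = 3 := by simp [I]
  have hI1g : ∀ g : T →* ℂˣ, g ≠ 1 → I 1 g = 0 ∧ I g 1 = 0 := by
    intro g hg
    have n1 : g.comp φ ≠ 1 := fun e => hg (by rw [← hcomp3 g, e]; simp)
    have n2 : (g.comp φ).comp φ ≠ 1 := fun e => hg (by rw [← hcomp3 g, e]; simp)
    exact ⟨by simp [I, Ne.symm hg], by simp [I, hg, n1, n2]⟩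
  have hIgg : ∀ g : T →* ℂˣ, g ≠ 1 → I g g = 1 := fun g hg => by
    simp [I, show g.comp φ ≠ g from fun e => hg (hcomp g e),
      show (g.comp φ).comp φ ≠ g from fun e => hg (hcomp2 g e)]
  have hI01 : ∀ g g' : T →* ℂˣ, g ≠ 1 → I g' g = 0 ∨ I g' g = 1 := by
    intro g g' hg
    have hg' : g' = g ∨ g'.comp φ = g ∨ (g'.comp φ).comp φ = g → g' ≠ 1 := by
      intro hh e
      subst e
      rcases hh with e | e | e <;> exact hg (by simpa using e.symm)
    by_cases h1 : g' = g
    · subst h1; exact Or.inr (hIgg g' hg)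
    by_cases h2 : g'.comp φ = g
    · refine Or.inr ?_
      simp [I, h1, h2, show g.comp φ ≠ g from fun e => hg (hcomp g e)]
    by_cases h3 : (g'.comp φ).comp φ = g
    · exact Or.inr (by simp [I, h1, h2, h3])
    · exact Or.inl (by simp [I, h1, h2, h3])
  -- the block vectors
  set one : IrrCharacter G := BlocksDefect.oneIrr G with hone
  have honeB : one ∈ B := BlocksDefect.oneIrr_mem
  have hm1 : ∀ f : T →* ℂˣ, m one f = if f = 1 then 1 else 0 := by
    intro f
    have h1 := hm one f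
    rw [show (one : G → ℂ) = fun _ => 1 from rfl] at h1
    have h2 := sum_hom_mul_conj (1 : T →* ℂˣ) f
    simp only [MonoidHom.one_apply, Units.val_one] at h2
    rw [h2] at h1
    by_cases hf : f = 1
    · rw [if_pos hf.symm] at h1
      rw [if_pos hf]
      have : ((m one f : ℤ) : ℂ) = ((1 : ℤ) : ℂ) := by
        push_cast; exact mul_left_cancel₀ hTne (by rw [mul_one]; exact h1.symm)
      exact_mod_cast this
    · rw [if_neg (Ne.symm hf)] at h1
      rw [if_neg hf]
      have := (mul_eq_zero.mp h1.symm).resolve_left hTne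
      exact_mod_cast this
  -- degrees and values at the involution
  have hdata : ∀ χ : IrrCharacter G, ∃ f x : ℤ, 0 < f ∧ (χ : G → ℂ) 1 = f ∧
      (χ : G → ℂ) a = x := by
    intro χ
    obtain ⟨f₀, hf₀, hdeg⟩ := CharCore.IsIrrCharacter.exists_degree χ.2
    obtain ⟨χf, n, ρ, hρ, hχf⟩ := χ
    subst hχf
    obtain ⟨bb, ω, hω, -, -, hk⟩ := CharCore.exists_eigenvalues ρ a
    have ha2 : orderOf a = 2 := Involution.orderOf_eq_two_iff'.mpr ⟨h.a_sq, h.a_ne⟩
    rw [ha2] at hω
    have hs : ∀ i, ∃ s : ℤ, ω i = s := fun i => by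
      rcases mul_self_eq_mul_self_iff.mp (show ω i * ω i = 1 * 1 by
        rw [one_mul, ← pow_two]; exact hω i) with h | h
      · exact ⟨1, by simpa using h⟩
      · exact ⟨-1, by simpa using h⟩
    choose s hs using hs
    refine ⟨f₀, ∑ i, s i, by exact_mod_cast hf₀, by push_cast; exact hdeg, ?_⟩
    have := hk 1
    rw [pow_one] at this
    show ρ.character a = _
    rw [this]
    simp [pow_one, hs]
  choose deg xv hdegpos hdeg hxv using hdata
  have hdeg1 : deg one = 1 := by
    have := hdeg one; rw [show (one : G → ℂ) 1 = 1 from rfl] at this; exact_mod_cast this.symm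
  have hxv1 : xv one = 1 := by
    have := hxv one; rw [show (one : G → ℂ) a = 1 from rfl] at this; exact_mod_cast this.symm
  have hχW : ∀ (χ : IrrCharacter G), (χ : G → ℂ) (φ A : T) = xv χ ∧
      (χ : G → ℂ) (φ (φ A) : T) = xv χ := by
    intro χ
    constructor
    · rw [hφ, CharCore.irr_isClassFunction χ (A : G) r]; exact hxv χ
    · rw [hφ, hφ, CharCore.irr_isClassFunction χ _ r, CharCore.irr_isClassFunction χ (A : G) r]
      exact hxv χ
  -- sums of multiplicities
  have hmsum : ∀ (χ : IrrCharacter G) (g₀ : T →* ℂˣ),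
      4 * ((∑ g ∈ A0, m χ (g₀ * g) : ℤ) : ℂ) =
        ∑ x ∈ W, (χ : G → ℂ) x * conj (g₀ x : ℂ) := by
    intro χ g₀
    apply mul_left_cancel₀ hTne
    calc (Nat.card T : ℂ) * (4 * ((∑ g ∈ A0, m χ (g₀ * g) : ℤ) : ℂ))
        = 4 * ∑ g ∈ A0, ∑ x : T, (χ : G → ℂ) x * conj ((g₀ * g) x : ℂ) := by
          simp only [hm]; push_cast; rw [← Finset.mul_sum]; ring
      _ = 4 * ∑ x : T, (χ : G → ℂ) x * conj (g₀ x : ℂ) * conj (∑ g ∈ A0, (g x : ℂ)) := by
          rw [Finset.sum_comm]
          simp only [map_sum, Finset.mul_sum, MonoidHom.mul_apply, Units.val_mul, map_mul,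
            mul_assoc]
      _ = _ := by
          rw [Finset.mul_sum, Finset.mul_sum, hW, Finset.sum_filter]
          refine Finset.sum_congr rfl fun x _ => ?_
          rw [hA0sum x, hA0card]
          split_ifs
          · rw [hT4]; simp; ring
          · simp
  have hm0 : ∀ χ, ((4 * ∑ g ∈ A0, m χ g : ℤ) : ℂ) = ((deg χ + 3 * xv χ : ℤ) : ℂ) := by
    intro χ
    have h1 := hmsum χ 1
    simp only [one_mul, MonoidHom.one_apply, Units.val_one, map_one, mul_one] at h1
    rw [hWsum, show ((A : T) : G) = a from rfl, hxv, (hχW χ).1, (hχW χ).2,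
      show (χ : G → ℂ) ((1 : T) : G) = _ from hdeg χ] at h1
    push_cast at h1 ⊢
    simp only [show ∀ g : T →* ℂˣ, (1 : T →* ℂˣ) * g = g from fun g => MonoidHom.ext fun x => by
      simp] at h1
    rw [h1]; ring
  -- a character nontrivial on the involutions
  obtain ⟨lam, hlam⟩ := CommGroup.exists_apply_ne_one_of_hasEnoughRootsOfUnity T ℂ hA1
  have hlamW : ∀ g : T →* ℂˣ, (∀ x : T, x * x = 1 → g x = lam x) →
      g ≠ 1 ∧ g.comp φ ∉ A0 ∧ (g.comp φ).comp φ ∉ A0 ∧ g ∉ A0 ∧
      ∀ g' : T →* ℂˣ, (∀ x : T, x * x = 1 → g' x = lam x) →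
        g'.comp φ ≠ g ∧ (g'.comp φ).comp φ ≠ g := by
    intro g hg
    have hgA : g ∉ A0 := fun e => hlam (by rw [← hg A hAA]; exact (hA0mem g).mp e A hAA)
    have hsw : ∀ u : T →* ℂˣ, u.comp φ ∈ A0 → u ∈ A0 := fun u hu => (hA0mem u).mpr fun x hx => by
      have := (hA0mem _).mp hu _ (hWφ _ (hWφ x hx))
      rwa [MonoidHom.comp_apply, hφ3] at this
    refine ⟨fun e => hgA (e ▸ (hA0mem 1).mpr fun _ _ => rfl), fun e => hgA (hsw g e),
      fun e => hgA (hsw g (hsw _ e)), hgA, fun g' hg' => ?_⟩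
    have hfixW : ∀ u : T →* ℂˣ, (∀ x : T, x * x = 1 → u (φ x) = u x) → u ∈ A0 := fun u hu =>
      (hA0mem u).mpr fun w hw => by
        obtain ⟨x, rfl⟩ := hψsurj w
        have hxx : x * x = 1 := by
          apply hψ
          have h2 : (x * x)⁻¹ * φ (x * x) = 1 := by
            rw [map_mul, mul_inv_rev, mul_mul_mul_comm]; exact hw
          exact (inv_mul_eq_one.mp h2).symm
        rw [map_mul, map_inv, hu x hxx, inv_mul_cancel]
    have hlamA : lam ∉ A0 := fun e => hlam ((hA0mem lam).mp e A hAA)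
    constructor <;> intro e <;> refine hlamA (hfixW lam fun x hx => ?_)
    · have := DFunLike.congr_fun e x
      rw [MonoidHom.comp_apply, hg' _ (hWφ x hx), hg x hx] at this
      exact this
    · have := DFunLike.congr_fun e (φ x)
      rw [MonoidHom.comp_apply, MonoidHom.comp_apply, hφ3, hg' x hx, hg _ (hWφ x hx)] at this
      exact this.symm
  have hm2 : ∀ χ, ((4 * ∑ g ∈ A0, m χ (lam * g) : ℤ) : ℂ) = ((deg χ - xv χ : ℤ) : ℂ) := by
    intro χ
    have h1 := hmsum χ lam
    have h2 : ∑ x ∈ W, conj (lam x : ℂ) = 0 := by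
      have hs : conj (lam A : ℂ) * ∑ x ∈ W, conj (lam x : ℂ) = ∑ x ∈ W, conj (lam x : ℂ) := by
        rw [Finset.mul_sum]
        refine Finset.sum_equiv (Equiv.mulLeft A) (fun x => ?_) fun x _ => by simp
        simp only [hW, Finset.mem_filter, Finset.mem_univ, true_and, Equiv.coe_mulLeft]
        rw [mul_mul_mul_comm, hAA, one_mul]
      by_contra hne
      have h3 := mul_right_cancel₀ hne (hs.trans (one_mul _).symm)
      exact hlam (Units.ext (by simpa using congrArg conj h3))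
    rw [hWsum, show ((A : T) : G) = a from rfl, hxv, (hχW χ).1, (hχW χ).2,
      show (χ : G → ℂ) ((1 : T) : G) = _ from hdeg χ] at h1
    rw [hWsum] at h2
    simp only [map_one, Units.val_one] at h1 h2
    push_cast at h1 ⊢
    rw [h1]
    linear_combination (xv χ : ℂ) * h2
  -- the equations
  have heq : ∀ f g : T →* ℂˣ, (∀ x : T, x * x = 1 → f x = g x) →
      ∑ χ, (vec f g χ : ℂ) * ((xv χ : ℂ) ^ 2 / deg χ) = 0 ∧
      ∑ χ, vec f g χ * deg χ = 0 ∧ ∑ χ, vec f g χ * xv χ = 0 := by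
    intro f g hfg
    set θ : T → ℂ := fun x => (f x : ℂ) - g x with hθdef
    have hinv : ∀ u ∈ {u : G | u ∈ T ∧ u * u ≠ 1}, ∀ c : G,
        (c * a * c⁻¹) * u * (c * a * c⁻¹)⁻¹ ≠ u⁻¹ := by
      rintro u ⟨hu, hu2⟩ c he
      set x : T := ⟨u, hu⟩
      have hx1 : x ≠ 1 := fun e => hu2 (by
        rw [show u = 1 from congrArg Subtype.val e]; simp)
      have hfx : φ x = x⁻¹ → False := fun e => hx1 (by
        refine hψ x ?_
        calc φ x = φ (φ (φ (φ x))) := by rw [hφ3]
          _ = x := by rw [e, map_inv, e, inv_inv, e, map_inv, e, inv_inv])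
      rcases (hfus x x⁻¹ hx1).mp (isConj_iff.mpr ⟨_, he⟩) with e | e | e
      · exact hu2 (by
          have := congrArg Subtype.val e
          simp only [InvMemClass.coe_inv] at this
          exact inv_eq_iff_mul_eq_one.mp this)
      · exact hfx e.symm
      · refine hfx ?_
        have := congrArg φ e
        rw [map_inv, hφ3] at this
        exact inv_eq_iff_eq_inv.mp this
    obtain ⟨h3, h1, h2, -⟩ := S4722.result M hM T P.2 {u : G | u ∈ T ∧ u * u ≠ 1} (fun u hu => hu.1)
      a (Involution.orderOf_eq_two_iff'.mpr ⟨h.a_sq, h.a_ne⟩) hinv θ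
      ⟨fun x => (f x : ℂ), fun x => (g x : ℂ), CharCore.IsIrrCharacter.isCharacter (CharCore.isIrrCharacter_hom f),
        CharCore.IsIrrCharacter.isCharacter (CharCore.isIrrCharacter_hom g), rfl⟩
      (fun y hy => by
        have : y * y = 1 := Subtype.ext (by
          by_contra hne
          exact hy ⟨y.2, hne⟩)
        simp [hθdef, hfg y this])
    have hcoef : ∀ χ ∈ B, (Nat.card T : ℂ)⁻¹ * ∑ᶠ y : T, (χ : G → ℂ) (y : G) * θ y⁻¹ =
        (vec f g χ : ℂ) := by
      intro χ hχ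
      rw [finsum_eq_sum_of_fintype, inv_mul_eq_iff_eq_mul₀ hTne]
      simp only [vec, if_pos hχ, hθdef, ← conj_hom, mul_sub, Finset.sum_sub_distrib, hm]
      push_cast; ring
    have conv : ∀ F : IrrCharacter G → ℂ,
        ∑ᶠ χ ∈ B, (vec f g χ : ℂ) * F χ = ∑ χ, (vec f g χ : ℂ) * F χ := by
      intro F
      rw [finsum_mem_def, finsum_eq_sum_of_fintype]
      refine Finset.sum_congr rfl fun χ _ => ?_
      by_cases hB : χ ∈ B
      · rw [Set.indicator_of_mem hB]
      · rw [Set.indicator_of_notMem hB]; simp [vec, if_neg hB]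
    refine ⟨?_, ?_, ?_⟩
    · rw [← h3, ← conv]
      exact finsum_mem_congr rfl fun χ hχ => by
        rw [hcoef χ hχ, hdeg, hxv, mul_div_assoc]
    · have : ((∑ χ, vec f g χ * deg χ : ℤ) : ℂ) = ((0 : ℤ) : ℂ) := by
        push_cast
        rw [← h1, ← conv]
        exact finsum_mem_congr rfl fun χ hχ => by rw [hcoef χ hχ, hdeg]
      exact_mod_cast this
    · have : ((∑ χ, vec f g χ * xv χ : ℤ) : ℂ) = ((0 : ℤ) : ℂ) := by
        push_cast
        rw [← h2, ← conv]
        exact finsum_mem_congr rfl fun χ hχ => by rw [hcoef χ hχ, hxv]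
      exact_mod_cast this
  -- the norm four vector
  obtain ⟨g₀, hg₀, hg₀1⟩ := Finset.exists_mem_ne (s := A0) (by omega) 1
  have hA0fix : ∀ g ∈ A0, ∀ x : T, x * x = 1 → (1 : T →* ℂˣ) x = g x := fun g hg x hx =>
    ((hA0mem g).mp hg x hx).symm
  let V : (T →* ℂˣ) → IrrCharacter G → ℤ := fun g χ => if χ = one then 0 else vec 1 g χ
  have hvecone : ∀ g : T →* ℂˣ, g ≠ 1 → vec 1 g one = 1 := fun g hg => by
    simp [vec, honeB, hm1, hg]
  have hVinner : ∀ g ∈ A0, g ≠ 1 → ∀ g' ∈ A0, g' ≠ 1 → ∑ χ, V g χ * V g' χ = 2 + I g' g := by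
    intro g hg hg1 g' hg' hg'1
    have h1 := hinner 1 g 1 g' (hA0fix g hg) (hA0fix g' hg')
    rw [hI1, (hI1g g hg1).1, (hI1g g' hg'1).2] at h1
    rw [← Finset.add_sum_erase _ _ (Finset.mem_univ one)] at h1 ⊢
    rw [hvecone g hg1, hvecone g' hg'1] at h1
    rw [Finset.sum_congr rfl (fun χ hχ => by
      simp only [V, if_neg (Finset.mem_erase.mp hχ).1] : ∀ χ ∈ Finset.univ.erase one,
        V g χ * V g' χ = vec 1 g χ * vec 1 g' χ)]
    simp only [V, if_true, mul_zero, zero_add]
    linarith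
  have hVsame : ∀ g ∈ A0, g ≠ 1 → ∀ g' ∈ A0, g' ≠ 1 → I g' g = 1 → V g = V g' := by
    intro g hg hg1 g' hg' hg'1 hI
    have e : ∑ χ, (V g χ - V g' χ) * (V g χ - V g' χ) = 0 := by
      have : ∀ χ, (V g χ - V g' χ) * (V g χ - V g' χ) =
          V g χ * V g χ + V g' χ * V g' χ - 2 * (V g χ * V g' χ) := fun χ => by ring
      simp only [this, Finset.sum_sub_distrib, Finset.sum_add_distrib, ← Finset.mul_sum,
        hVinner _ hg hg1 _ hg hg1, hVinner _ hg' hg'1 _ hg' hg'1, hVinner _ hg hg1 _ hg' hg'1,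
        hIgg g hg1, hIgg g' hg'1, hI]
      norm_num
    funext χ
    exact sub_eq_zero.mp (mul_self_eq_zero.mp
      ((Finset.sum_eq_zero_iff_of_nonneg fun χ _ => mul_self_nonneg _).mp e χ (Finset.mem_univ χ)))
  have hV0n : ∑ χ, V g₀ χ * V g₀ χ = 3 := by
    rw [hVinner _ hg₀ hg₀1 _ hg₀ hg₀1, hIgg _ hg₀1]; norm_num
  set s := Finset.univ.filter fun χ => V g₀ χ ≠ 0 with hs
  have hs3 : s.card = 3 := card_support_of_norm (by norm_num) hV0n
  have hsmem : ∀ χ, χ ∈ s ↔ V g₀ χ ≠ 0 := fun χ => by simp [hs]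
  have hsone : ∀ χ ∈ s, χ ≠ one := fun χ hχ e => (hsmem χ).mp hχ (by simp [V, e])
  have hsB : ∀ χ ∈ s, χ ∈ B := fun χ hχ => by
    by_contra hB
    exact (hsmem χ).mp hχ (by simp [V, vec, hB])
  have hsgn : ∀ χ ∈ s, V g₀ χ = 1 ∨ V g₀ χ = -1 := fun χ hχ =>
    (sq_eq_one_or_zero_of_sum_le (by norm_num) hV0n χ).resolve_left ((hsmem χ).mp hχ)
  have hVvec : ∀ g χ, χ ≠ one → V g χ = vec 1 g χ := fun g χ hχ => by simp [V, hχ]
  -- sums along the vector
  have hsplit : ∀ F : IrrCharacter G → ℤ,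
      ∑ χ, vec 1 g₀ χ * F χ = F one + ∑ χ ∈ s, V g₀ χ * F χ := by
    intro F
    rw [← Finset.add_sum_erase _ _ (Finset.mem_univ one), hvecone g₀ hg₀1, one_mul]
    congr 1
    rw [Finset.sum_congr rfl (g := fun χ => V g₀ χ * F χ)
      fun χ hχ => by rw [hVvec _ _ (Finset.mem_erase.mp hχ).1]]
    refine (Finset.sum_subset (fun χ hχ => Finset.mem_erase.mpr ⟨hsone χ hχ, Finset.mem_univ _⟩)
      fun χ _ hχ => ?_).symm
    rw [hsmem, not_not] at hχ
    rw [hχ, zero_mul]
  obtain ⟨e3, e1, e2⟩ := heq 1 g₀ (hA0fix g₀ hg₀)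
  rw [hsplit, hdeg1] at e1
  rw [hsplit, hxv1] at e2
  -- not all signs agree
  have hnotall : ∀ σ : ℤ, ¬ ∀ χ ∈ s, V g₀ χ = σ := by
    intro σ hσ
    rw [Finset.sum_congr rfl fun χ hχ => by rw [hσ χ hχ], ← Finset.mul_sum] at e1
    have h3 : (3 : ℤ) ≤ ∑ χ ∈ s, deg χ := by
      have := Finset.card_nsmul_le_sum s deg 1 fun χ _ => hdegpos χ
      rw [hs3] at this
      simpa using this
    obtain ⟨χ, hχ⟩ := Finset.card_pos.mp (show 0 < s.card by omega)
    rcases hsgn χ hχ with e | e <;> rw [hσ χ hχ] at e <;> subst e <;> linarith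
  -- the second family vanishes on the support
  have hlam0 : ∀ g ∈ A0, ∀ x : T, x * x = 1 → (lam * g) x = lam x := fun g hg x hx => by
    rw [MonoidHom.mul_apply, (hA0mem g).mp hg x hx, mul_one]
  have hlamf : ∀ g ∈ A0, ∀ x : T, x * x = 1 → lam x = (lam * g) x := fun g hg x hx =>
    (hlam0 g hg x hx).symm
  have hIlam : ∀ g ∈ A0, ∀ g' ∈ A0, I (lam * g') (lam * g) = if g' = g then 1 else 0 := by
    intro g hg g' hg'
    obtain ⟨-, -, -, -, hne⟩ := hlamW (lam * g) (hlam0 g hg)
    obtain ⟨n1, n2⟩ := hne (lam * g') (hlam0 g' hg')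
    simp [I, n1, n2, mul_left_cancel_iff]
  have hDinner : ∀ g ∈ A0, g ≠ 1 → ∀ g' ∈ A0, g' ≠ 1 →
      ∑ χ, vec lam (lam * g) χ * vec lam (lam * g') χ = 1 + if g' = g then 1 else 0 := by
    intro g hg hg1 g' hg' hg'1
    have h1A : (1 : T →* ℂˣ) ∈ A0 := (hA0mem 1).mpr fun _ _ => rfl
    rw [hinner _ _ _ _ (hlamf g hg) (hlamf g' hg')]
    have i1 := hIlam 1 h1A 1 h1A
    have i2 := hIlam g hg 1 h1A
    have i3 := hIlam 1 h1A g' hg'
    rw [mul_one] at i1 i2 i3
    rw [i1, i2, i3, hIlam g hg g' hg', if_pos rfl, if_neg (Ne.symm hg1), if_neg hg'1]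
    ring
  have hlam1 : lam ≠ 1 := (hlamW lam fun _ _ => rfl).1
  have hDone : ∀ g ∈ A0, vec lam (lam * g) one = 0 := fun g hg => by
    simp [vec, hm1, hlam1, (hlamW _ (hlam0 g hg)).1]
  have hDV : ∀ g ∈ A0, ∑ χ, vec lam (lam * g) χ * V g₀ χ = 0 := by
    intro g hg
    rw [Finset.sum_congr rfl (g := fun χ => vec lam (lam * g) χ * vec 1 g₀ χ) fun χ _ => ?_,
      hinner _ _ _ _ (hlamf g hg) (hA0fix g₀ hg₀)]
    · have hzero : ∀ v : T →* ℂˣ, (∀ x : T, x * x = 1 → v x = lam x) →
          ∀ u ∈ A0, I u v = 0 := by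
        intro v hv u hu
        obtain ⟨-, -, -, hvA, -⟩ := hlamW v hv
        have hu2 : u.comp φ ∈ A0 := (hA0mem _).mpr fun x hx => (hA0mem u).mp hu _ (hWφ x hx)
        have hu3 : (u.comp φ).comp φ ∈ A0 :=
          (hA0mem _).mpr fun x hx => (hA0mem u).mp hu _ (hWφ _ (hWφ x hx))
        simp [I, show u ≠ v from fun e => hvA (e ▸ hu), show u.comp φ ≠ v from fun e => hvA (e ▸ hu2),
          show (u.comp φ).comp φ ≠ v from fun e => hvA (e ▸ hu3)]
      have h1A : (1 : T →* ℂˣ) ∈ A0 := (hA0mem 1).mpr fun _ _ => rfl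
      rw [hzero lam (fun _ _ => rfl) 1 h1A, hzero _ (hlam0 g hg) 1 h1A,
        hzero lam (fun _ _ => rfl) g₀ hg₀, hzero _ (hlam0 g hg) g₀ hg₀]
      norm_num
    · by_cases hχ : χ = one
      · rw [hχ, hDone g hg, zero_mul, zero_mul]
      · rw [hVvec _ _ hχ]
  have hDshape : ∀ g ∈ A0, g ≠ 1 → ∃ p p', p ≠ p' ∧ vec lam (lam * g) p ≠ 0 ∧
      vec lam (lam * g) p' = -vec lam (lam * g) p ∧
      (∀ χ, χ ≠ p → χ ≠ p' → vec lam (lam * g) χ = 0) ∧ V g₀ p = V g₀ p' := by
    intro g hg hg1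
    have hn2 : ∑ χ, vec lam (lam * g) χ * vec lam (lam * g) χ = 2 := by
      rw [hDinner g hg hg1 g hg hg1, if_pos rfl]; norm_num
    obtain ⟨p, p', hpp, hsupp⟩ := Finset.card_eq_two.mp
      (card_support_of_norm (n := 2) (by norm_num) hn2)
    have hp0 : ∀ χ, χ ∈ ({p, p'} : Finset _) ↔ vec lam (lam * g) χ ≠ 0 := fun χ => by
      rw [← hsupp]; simp
    have hrest : ∀ χ, χ ≠ p → χ ≠ p' → vec lam (lam * g) χ = 0 := fun χ h1 h2 =>
      not_not.mp fun hne => by
        have := (hp0 χ).mpr hne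
        simp [h1, h2] at this
    have hsum2 : ∀ F : IrrCharacter G → ℤ, ∑ χ, vec lam (lam * g) χ * F χ =
        vec lam (lam * g) p * F p + vec lam (lam * g) p' * F p' := by
      intro F
      rw [← Finset.sum_pair (f := fun χ => vec lam (lam * g) χ * F χ) hpp]
      exact (Finset.sum_subset (Finset.subset_univ _) fun χ _ hχ => by
        rw [hp0, not_not] at hχ; rw [hχ, zero_mul]).symm
    have hv := sq_eq_one_or_zero_of_sum_le (by norm_num) hn2 p
    have hv' := sq_eq_one_or_zero_of_sum_le (by norm_num) hn2 p'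
    have n1 := (hp0 p).mp (by simp)
    have n2 := (hp0 p').mp (by simp)
    have hf := (heq lam (lam * g) (hlamf g hg)).2.1
    rw [hsum2] at hf
    have hopp : vec lam (lam * g) p' = -vec lam (lam * g) p := by
      have := hdegpos p
      have := hdegpos p'
      rcases hv.resolve_left n1 with e | e <;> rcases hv'.resolve_left n2 with e' | e' <;>
        rw [e, e'] at hf ⊢ <;> linarith
    refine ⟨p, p', hpp, n1, hopp, hrest, ?_⟩
    have h1 := hDV g hg
    rw [hsum2, hopp] at h1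
    exact sub_eq_zero.mp ((mul_eq_zero.mp (show vec lam (lam * g) p * (V g₀ p - V g₀ p') = 0 by
      linarith)).resolve_left n1)
  have hDzero : ∀ χ ∈ s, ∀ g ∈ A0, m χ lam = m χ (lam * g) := by
    intro χ hχ g hg
    by_cases hg1 : g = 1
    · rw [hg1, mul_one]
    by_contra hne
    have hχv : vec lam (lam * g) χ ≠ 0 := by
      simp only [vec, if_pos (hsB χ hχ)]; omega
    obtain ⟨p, p', hpp, hp, hopp, hrest, hVp⟩ := hDshape g hg hg1
    have hps : p ∈ s ∧ p' ∈ s := by
      have : χ = p ∨ χ = p' := by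
        by_contra hno
        simp only [not_or] at hno
        exact hχv (hrest χ hno.1 hno.2)
      rcases this with rfl | rfl
      · exact ⟨hχ, (hsmem _).mpr (hVp ▸ (hsmem _).mp hχ)⟩
      · exact ⟨(hsmem _).mpr (hVp.symm ▸ (hsmem _).mp hχ), hχ⟩
    obtain ⟨g', hg', hg'1⟩ : ∃ g' ∈ (A0.erase 1), g' ≠ g := Finset.exists_mem_ne (by
      rw [Finset.card_erase_of_mem ((hA0mem 1).mpr fun _ _ => rfl), hA0card]; omega) g
    rw [Finset.mem_erase] at hg'
    obtain ⟨d, d', hdd, hd, hopp', hrest', hVd⟩ := hDshape g' hg'.2 hg'.1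
    have hin : ∑ χ, vec lam (lam * g) χ * vec lam (lam * g') χ = 1 := by
      rw [hDinner g hg hg1 g' hg'.2 hg'.1, if_neg hg'1]; norm_num
    have hinp : ∀ χ, vec lam (lam * g) χ * vec lam (lam * g') χ =
        (if χ = p then vec lam (lam * g) p * vec lam (lam * g') p else 0) +
          (if χ = p' then vec lam (lam * g) p' * vec lam (lam * g') p' else 0) := by
      intro χ
      by_cases h1 : χ = p
      · subst h1; simp [hpp]
      by_cases h2 : χ = p'
      · subst h2; simp [Ne.symm hpp]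
      simp [h1, h2, hrest χ h1 h2]
    rw [Finset.sum_congr rfl fun χ _ => hinp χ, Finset.sum_add_distrib, Finset.sum_ite_eq',
      Finset.sum_ite_eq', if_pos (Finset.mem_univ _), if_pos (Finset.mem_univ _), hopp] at hin
    -- the second pair also lies in the support
    have hds : d ∈ s ∧ d' ∈ s := by
      have hd' : d = p ∨ d = p' ∨ d' = p ∨ d' = p' := by
        by_contra hno
        simp only [not_or] at hno
        rw [hrest' p (Ne.symm hno.1) (Ne.symm hno.2.2.1),
          hrest' p' (Ne.symm hno.2.1) (Ne.symm hno.2.2.2)] at hin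
        norm_num at hin
      rcases hd' with rfl | rfl | rfl | rfl
      · exact ⟨hps.1, (hsmem _).mpr (hVd ▸ (hsmem _).mp hps.1)⟩
      · exact ⟨hps.2, (hsmem _).mpr (hVd ▸ (hsmem _).mp hps.2)⟩
      · exact ⟨(hsmem _).mpr (hVd.symm ▸ (hsmem _).mp hps.1), hps.1⟩
      · exact ⟨(hsmem _).mpr (hVd.symm ▸ (hsmem _).mp hps.2), hps.2⟩
    -- only one pair with equal signs
    have hset : ({d, d'} : Finset _) = {p, p'} := by
      obtain ⟨z, hz⟩ := Finset.card_eq_one.mp (show ((s.erase p).erase p').card = 1 by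
        rw [Finset.card_erase_of_mem (Finset.mem_erase.mpr ⟨hpp.symm, hps.2⟩),
          Finset.card_erase_of_mem hps.1, hs3])
      have hmem3 : ∀ w ∈ s, w = p ∨ w = p' ∨ w = z := fun w hw => by
        by_contra hno
        simp only [not_or] at hno
        exact hno.2.2 (Finset.mem_singleton.mp (hz ▸ Finset.mem_erase.mpr
          ⟨hno.2.1, Finset.mem_erase.mpr ⟨hno.1, hw⟩⟩))
      have hz1 : V g₀ z ≠ V g₀ p := fun e => hnotall (V g₀ p) fun w hw => by
        rcases hmem3 w hw with rfl | rfl | rfl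
        exacts [rfl, hVp.symm, e]
      rcases hmem3 d hds.1 with rfl | rfl | rfl <;> rcases hmem3 d' hds.2 with rfl | rfl | rfl
      all_goals first
        | exact absurd rfl hdd
        | rfl
        | exact Finset.pair_comm _ _
        | exact absurd hVd.symm hz1
        | exact absurd (hVd.symm.trans hVp.symm) hz1
        | exact absurd hVd hz1
        | exact absurd (hVd.trans hVp.symm) hz1
    have hp' : vec lam (lam * g') p' = -vec lam (lam * g') p := by
      rcases Finset.ext_iff.mp hset p |>.mpr (by simp) |> Finset.mem_insert.mp with rfl | e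
      · have : p' = d' := by
          have := (Finset.ext_iff.mp hset p').mpr (by simp)
          simpa [hpp.symm] using this
        rw [this]; exact hopp'
      · rw [Finset.mem_singleton] at e
        subst e
        have : p' = d := by
          have := (Finset.ext_iff.mp hset p').mpr (by simp)
          simpa [hpp.symm] using this
        rw [this, hopp', neg_neg]
    rw [hp'] at hin
    have : (2 : ℤ) ∣ 1 := ⟨vec lam (lam * g) p * vec lam (lam * g') p, by linarith⟩
    norm_num at this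
  -- congruences
  have hcong : ∀ χ ∈ s, (∀ g ∈ A0, g ≠ 1 → V g χ = V g₀ χ) →
      ((q : ℤ) ∣ V g₀ χ * xv χ - 1 ∧ (4 * (q : ℤ)) ∣ V g₀ χ * deg χ - V g₀ χ * xv χ ∧
      4 * ∑ g ∈ A0, m χ g = 4 * q * m χ 1 - 4 * ((q : ℤ) - 1) * V g₀ χ) := by
    intro χ hχ hcore
    have hB := hsB χ hχ
    have h1A : (1 : T →* ℂˣ) ∈ A0 := (hA0mem 1).mpr fun _ _ => rfl
    have hS0 : ∑ g ∈ A0, m χ g = (q : ℤ) * m χ 1 - ((q : ℤ) - 1) * V g₀ χ := by
      rw [← Finset.add_sum_erase _ _ h1A, Finset.sum_congr rfl (g := fun _ => m χ 1 - V g₀ χ)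
        fun g hg => ?_, Finset.sum_const, Finset.card_erase_of_mem h1A, hA0card, nsmul_eq_mul,
        Nat.cast_sub (by omega)]
      · push_cast; ring
      · have := hcore g (Finset.mem_erase.mp hg).2 (Finset.mem_erase.mp hg).1
        rw [hVvec _ _ (hsone χ hχ)] at this
        simp only [vec, if_pos hB] at this
        omega
    have hS2 : ∑ g ∈ A0, m χ (lam * g) = (q : ℤ) * m χ lam := by
      rw [Finset.sum_congr rfl fun g hg => (hDzero χ hχ g hg).symm, Finset.sum_const, hA0card,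
        nsmul_eq_mul]
    have k0 : 4 * ∑ g ∈ A0, m χ g = deg χ + 3 * xv χ := Int.cast_injective (hm0 χ)
    have k2 : 4 * ∑ g ∈ A0, m χ (lam * g) = deg χ - xv χ := Int.cast_injective (hm2 χ)
    rw [hS0] at k0
    rw [hS2] at k2
    have hσ : V g₀ χ * V g₀ χ = 1 := by rcases hsgn χ hχ with e | e <;> rw [e] <;> norm_num
    refine ⟨⟨V g₀ χ * (m χ 1 - V g₀ χ - m χ lam), ?_⟩, ⟨V g₀ χ * m χ lam, ?_⟩, by rw [hS0]; ring⟩
    · have : xv χ - V g₀ χ = (q : ℤ) * (m χ 1 - V g₀ χ - m χ lam) := by linarith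
      linear_combination V g₀ χ * this + hσ
    · linear_combination (-V g₀ χ) * k2
  -- the bound
  have hbound : 1 + ∑ χ ∈ s, (V g₀ χ * xv χ) * (V g₀ χ * xv χ) ≤ 4 * (q : ℤ) := by
    have hcol := sum_block_col hM h.comm (x := a) (y := a) h.a_mem h.a_mem
      fun n hn he => hfix' n hn a h.a_mem h.a_ne he
    rw [if_pos (IsConj.refl a)] at hcol
    have hall : ∑ χ : IrrCharacter G, (if χ ∈ B then xv χ * xv χ else 0) = 4 * (q : ℤ) := by
      apply Int.cast_injective (α := ℂ)
      push_cast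
      rw [← hT4, ← hcol]
      refine Finset.sum_congr rfl fun χ _ => ?_
      rw [hxv, map_intCast]
    rw [← hall, ← Finset.add_sum_erase _ _ (Finset.mem_univ one), if_pos honeB, hxv1, one_mul]
    refine add_le_add le_rfl (le_of_eq_of_le (Finset.sum_congr rfl fun χ hχ => ?_)
      (Finset.sum_le_sum_of_subset_of_nonneg (f := fun χ => if χ ∈ B then xv χ * xv χ else 0)
        (fun χ hχ => Finset.mem_erase.mpr ⟨hsone χ hχ, Finset.mem_univ _⟩) fun χ _ _ => by
          split_ifs
          · exact mul_self_nonneg _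
          · exact le_rfl))
    rw [if_pos (hsB χ hχ)]
    rcases hsgn χ hχ with e | e <;> rw [e] <;> ring
  -- two common characters with value one
  obtain ⟨c, d, hcs, hds, hcd, hvc, hvd, hcc, hcd'⟩ : ∃ c d, c ∈ s ∧ d ∈ s ∧ c ≠ d ∧
      V g₀ c * xv c = 1 ∧ V g₀ d * xv d = 1 ∧
      (∀ g ∈ A0, g ≠ 1 → V g c = V g₀ c) ∧ (∀ g ∈ A0, g ≠ 1 → V g d = V g₀ d) := by
    rcases hq with hq' | ⟨hq', -⟩
    · have hsame : ∀ g ∈ A0, g ≠ 1 → V g = V g₀ := by
        intro g hg hg1
        refine hVsame g hg hg1 g₀ hg₀ hg₀1 ((hI01 g g₀ hg1).resolve_left fun h0 => ?_)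
        have hne : g₀ ≠ g ∧ g₀.comp φ ≠ g ∧ (g₀.comp φ).comp φ ≠ g := by
          simp only [I] at h0
          refine ⟨fun e => ?_, fun e => ?_, fun e => ?_⟩ <;> rw [if_pos e] at h0 <;>
            split_ifs at h0 <;> omega
        have hm1' : g₀.comp φ ∈ A0 := (hA0mem _).mpr fun x hx => (hA0mem g₀).mp hg₀ _ (hWφ x hx)
        have hm2' : (g₀.comp φ).comp φ ∈ A0 :=
          (hA0mem _).mpr fun x hx => (hA0mem g₀).mp hg₀ _ (hWφ _ (hWφ x hx))
        have hsub : ({1, g₀, g₀.comp φ, (g₀.comp φ).comp φ, g} : Finset (T →* ℂˣ)) ⊆ A0 := by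
          intro u hu
          simp only [Finset.mem_insert, Finset.mem_singleton] at hu
          rcases hu with rfl | rfl | rfl | rfl | rfl
          exacts [(hA0mem 1).mpr fun _ _ => rfl, hg₀, hm1', hm2', hg]
        have n1 : g₀.comp φ ≠ 1 := fun e => hg₀1 (by rw [← hcomp3 g₀, e]; simp)
        have n2 : (g₀.comp φ).comp φ ≠ 1 := fun e => hg₀1 (by rw [← hcomp3 g₀, e]; simp)
        have n3 : g₀ ≠ g₀.comp φ := fun e => hg₀1 (hcomp _ e.symm)
        have n4 : g₀ ≠ (g₀.comp φ).comp φ := fun e => hg₀1 (hcomp2 _ e.symm)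
        have n5 : g₀.comp φ ≠ (g₀.comp φ).comp φ := fun e => n1 (hcomp _ e.symm)
        have h5 := Finset.card_le_card hsub
        rw [hA0card, hq', Finset.card_insert_of_notMem (by
            simp [hg₀1.symm, n1.symm, n2.symm, hg1.symm]),
          Finset.card_insert_of_notMem (by simp [n3, n4, hne.1]),
          Finset.card_insert_of_notMem (by simp [n5, hne.2.1]),
          Finset.card_pair hne.2.2] at h5
        omega
      have hcore : ∀ χ, ∀ g ∈ A0, g ≠ 1 → V g χ = V g₀ χ := fun χ g hg hg1 => by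
        rw [hsame g hg hg1]
      obtain ⟨x₁, x₂, x₃, n12, n13, n23, hs'⟩ := Finset.card_eq_three.mp hs3
      have m1 : x₁ ∈ s := by simp [hs']
      have m2 : x₂ ∈ s := by simp [hs']
      have m3 : x₃ ∈ s := by simp [hs']
      have c1 := (hcong x₁ m1 (hcore _)).1
      have c2 := (hcong x₂ m2 (hcore _)).1
      have c3 := (hcong x₃ m3 (hcore _)).1
      rw [hq', Nat.cast_ofNat] at c1 c2 c3 hbound
      rw [hs', Finset.sum_insert (by simp [n12, n13]), Finset.sum_pair n23] at hbound e2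
      rcases three_values c1 c2 c3 (by linarith) (by linarith) with
        ⟨u, v⟩ | ⟨u, v⟩ | ⟨u, v⟩
      · exact ⟨x₁, x₂, m1, m2, n12, u, v, hcore _, hcore _⟩
      · exact ⟨x₁, x₃, m1, m3, n13, u, v, hcore _, hcore _⟩
      · exact ⟨x₂, x₃, m2, m3, n23, u, v, hcore _, hcore _⟩
    · have h1A : (1 : T →* ℂˣ) ∈ A0 := (hA0mem 1).mpr fun _ _ => rfl
      have hV5 : 5 ≤ ((A0.erase 1).image V).card := by
        have h3 := Finset.card_le_mul_card_image (s := A0.erase 1) (f := V) 3 fun v hv => by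
          obtain ⟨g, hg, rfl⟩ := Finset.mem_image.mp hv
          rw [Finset.mem_erase] at hg
          refine (Finset.card_le_card (t := {g, g.comp φ, (g.comp φ).comp φ}) fun g' hg' => ?_).trans
            Finset.card_le_three
          rw [Finset.mem_filter, Finset.mem_erase] at hg'
          have h2 := hVinner g' hg'.1.2 hg'.1.1 g hg.2 hg.1
          rw [hg'.2] at h2
          rw [hVinner g hg.2 hg.1 g hg.2 hg.1, hIgg g hg.1] at h2
          by_contra hno
          simp only [Finset.mem_insert, Finset.mem_singleton, not_or] at hno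
          simp [I, Ne.symm hno.1, Ne.symm hno.2.1, Ne.symm hno.2.2] at h2
        rw [Finset.card_erase_of_mem h1A, hA0card] at h3
        omega
      obtain ⟨c, d, hcd, hc0, hd0, hall⟩ := common_pair ((A0.erase 1).image V) (fun v hv => by
          obtain ⟨g, hg, rfl⟩ := Finset.mem_image.mp hv
          rw [Finset.mem_erase] at hg
          rw [hVinner g hg.2 hg.1 g hg.2 hg.1, hIgg g hg.1]; norm_num)
        (fun v hv w hw => by
          obtain ⟨g, hg, rfl⟩ := Finset.mem_image.mp hv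
          obtain ⟨g', hg', rfl⟩ := Finset.mem_image.mp hw
          rw [Finset.mem_erase] at hg hg'
          rcases hI01 g g' hg.1 with e | e
          · exact Or.inr (by rw [hVinner g hg.2 hg.1 g' hg'.2 hg'.1, e]; norm_num)
          · exact Or.inl (hVsame g hg.2 hg.1 g' hg'.2 hg'.1 e))
        hV5 (Finset.mem_image_of_mem V (Finset.mem_erase.mpr ⟨hg₀1, hg₀⟩))
      have hcore : ∀ g ∈ A0, g ≠ 1 → V g c = V g₀ c ∧ V g d = V g₀ d := fun g hg hg1 =>
        hall _ (Finset.mem_image_of_mem V (Finset.mem_erase.mpr ⟨hg1, hg⟩))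
      have one_of : ∀ χ ∈ s, (∀ g ∈ A0, g ≠ 1 → V g χ = V g₀ χ) → V g₀ χ * xv χ = 1 := by
        intro χ hχ hco
        refine eq_one_of_dvd_of_sq_le (by omega) (hcong χ hχ hco).1 (le_trans ?_ hbound)
        have := Finset.single_le_sum (f := fun χ => (V g₀ χ * xv χ) * (V g₀ χ * xv χ))
          (fun _ _ => mul_self_nonneg _) hχ
        linarith
      exact ⟨c, d, (hsmem c).mpr hc0, (hsmem d).mpr hd0, hcd,
        one_of c ((hsmem c).mpr hc0) fun g hg hg1 => (hcore g hg hg1).1,
        one_of d ((hsmem d).mpr hd0) fun g hg hg1 => (hcore g hg hg1).2,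
        fun g hg hg1 => (hcore g hg hg1).1, fun g hg hg1 => (hcore g hg hg1).2⟩
  -- the third character
  obtain ⟨w, hw⟩ := Finset.card_eq_one.mp (show ((s.erase c).erase d).card = 1 by
    rw [Finset.card_erase_of_mem (Finset.mem_erase.mpr ⟨hcd.symm, hds⟩),
      Finset.card_erase_of_mem hcs, hs3])
  have hwm : w ∈ (s.erase c).erase d := by rw [hw]; exact Finset.mem_singleton_self w
  simp only [Finset.mem_erase] at hwm
  have hs_eq : s = {c, d, w} := by
    refine Finset.ext fun v => ⟨fun hv => ?_, fun hv => ?_⟩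
    · by_contra hno
      simp only [Finset.mem_insert, Finset.mem_singleton, not_or] at hno
      exact hno.2.2 (Finset.mem_singleton.mp (hw ▸ Finset.mem_erase.mpr
        ⟨hno.2.1, Finset.mem_erase.mpr ⟨hno.1, hv⟩⟩))
    · simp only [Finset.mem_insert, Finset.mem_singleton] at hv
      rcases hv with rfl | rfl | rfl
      exacts [hcs, hds, hwm.2.2]
  have hsum3 : ∀ F : IrrCharacter G → ℤ, ∑ χ ∈ s, F χ = F c + (F d + F w) := fun F => by
    rw [hs_eq, Finset.sum_insert (by simp [hcd, Ne.symm hwm.2.1]),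
      Finset.sum_pair (Ne.symm hwm.1)]
  rw [hsum3] at e1 e2
  have hvw : V g₀ w * xv w = -3 := by linarith
  set uc := V g₀ c * deg c with huc
  set ud := V g₀ d * deg d with hud
  have huw : V g₀ w * deg w = -(1 + uc + ud) := by linarith
  have e3' : (1 : ℂ) + 1 / (uc : ℂ) + 1 / (ud : ℂ) + 9 / ((V g₀ w * deg w : ℤ) : ℂ) = 0 := by
    rw [← Finset.add_sum_erase _ _ (Finset.mem_univ one), hvecone g₀ hg₀1, hdeg1, hxv1,
      ← Finset.sum_subset (s₁ := s) (fun χ hχ => Finset.mem_erase.mpr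
        ⟨hsone χ hχ, Finset.mem_univ _⟩) (fun χ hχ hn => by
          rw [hsmem, not_not, hVvec _ _ (Finset.mem_erase.mp hχ).1] at hn
          rw [hn]; simp), hs_eq, Finset.sum_insert (by simp [hcd, Ne.symm hwm.2.1]),
      Finset.sum_pair (Ne.symm hwm.1)] at e3
    have term : ∀ χ ∈ s, ∀ v : ℤ, V g₀ χ * xv χ = v → (vec 1 g₀ χ : ℂ) * ((xv χ : ℂ) ^ 2 / deg χ)
        = (v : ℂ) ^ 2 / ((V g₀ χ * deg χ : ℤ) : ℂ) := by
      intro χ hχ v hv
      rw [← hv, ← hVvec _ _ (hsone χ hχ)]
      rcases hsgn χ hχ with e | e <;> rw [e] <;> push_cast <;> ring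
    rw [term c hcs 1 hvc, term d hds 1 hvd, term w hwm.2.2 _ hvw] at e3
    simp only [huc, hud]
    push_cast at e3 ⊢
    linear_combination e3
  have hne0 : ∀ χ ∈ s, V g₀ χ * deg χ ≠ 0 := fun χ hχ =>
    mul_ne_zero ((hsmem χ).mp hχ) (hdegpos χ).ne'
  have hkey : (1 + uc + ud) * (uc * ud + uc + ud) = 9 * uc * ud := by
    rw [huw] at e3'
    have a1 : (uc : ℂ) ≠ 0 := Int.cast_ne_zero.mpr (hne0 c hcs)
    have a2 : (ud : ℂ) ≠ 0 := Int.cast_ne_zero.mpr (hne0 d hds)
    have a3 : ((-(1 + uc + ud) : ℤ) : ℂ) ≠ 0 := Int.cast_ne_zero.mpr (huw ▸ hne0 w hwm.2.2)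
    push_cast at e3' a3
    have : (((1 + uc + ud) * (uc * ud + uc + ud) : ℤ) : ℂ) = ((9 * uc * ud : ℤ) : ℂ) := by
      push_cast
      have a4 : (1 : ℂ) + uc + ud ≠ 0 := fun e => a3 (by rw [e, neg_zero])
      have e4 : ((1 : ℂ) + 1 / uc + 1 / ud + 9 / -(1 + uc + ud)) * (uc * ud * (1 + uc + ud)) =
          (1 + (uc : ℂ) + ud) * (uc * ud + uc + ud) - 9 * uc * ud := by
        field_simp
        ring
      rw [e3', zero_mul] at e4
      linear_combination -e4
    exact_mod_cast this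
  have h16 : ∀ χ ∈ s, (∀ g ∈ A0, g ≠ 1 → V g χ = V g₀ χ) → V g₀ χ * xv χ = 1 →
      (16 : ℤ) ∣ V g₀ χ * deg χ - 1 := by
    intro χ hχ hco hv
    have := (hcong χ hχ hco).2.1
    rw [hv] at this
    exact (show (16 : ℤ) ∣ 4 * (q : ℤ) by
      obtain ⟨k, hk⟩ := hq44; exact ⟨k, by rw [hk]; push_cast; ring⟩).trans this
  obtain ⟨huc1, -⟩ := homocyclic_degrees (h16 c hcs hcc hvc) (h16 d hds hcd' hvd) hkey
  -- a linear character
  have hσ : V g₀ c = 1 ∧ deg c = 1 := by
    rcases hsgn c hcs with e | e <;> simp only [huc, e] at huc1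
    · exact ⟨e, by linarith⟩
    · have := hdegpos c; linarith
  have hx1 : xv c = 1 := by rw [hσ.1, one_mul] at hvc; exact hvc
  have hm11 : m c 1 = 1 := by
    have k0 : 4 * ∑ g ∈ A0, m c g = deg c + 3 * xv c := Int.cast_injective (hm0 c)
    rw [(hcong c hcs hcc).2.2, hσ.1, hσ.2, hx1] at k0
    have : (q : ℤ) * m c 1 = (q : ℤ) * 1 := by linarith
    exact mul_left_cancel₀ (by exact_mod_cast (by omega : q ≠ 0)) this
  obtain ⟨f, hf⟩ := CharCore.IsCharacter.exists_hom_of_degree_one (CharCore.irr_isCharacter c)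
    (by rw [hdeg, hσ.2, Int.cast_one])
  refine ⟨f.ker, inferInstance, fun htop => hsone c hcs (Subtype.ext ?_), fun x hx => ?_⟩
  · rw [hf]
    funext g
    have : f g = 1 := MonoidHom.mem_ker.mp (htop ▸ Subgroup.mem_top g)
    simp [this, hone, BlocksDefect.coe_oneIrr]
  · have h1 := hm c 1
    have hres : f.comp T.subtype = 1 := by
      by_contra hne
      have h2 := sum_hom_eq_zero hne
      simp only [MonoidHom.comp_apply, Subgroup.coe_subtype] at h2
      simp only [hf, MonoidHom.one_apply, Units.val_one, map_one, mul_one, h2, hm11,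
        Int.cast_one] at h1
      exact hTne h1.symm
    exact MonoidHom.mem_ker.mpr (DFunLike.congr_fun hres ⟨x, hx⟩)

end Cfsg.Agent.ZStar
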