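import Cfsg.Agent.Lib.Involution.Dihedral
import Cfsg.Agent.Lib.Involution.BaerSuzuki
import Cfsg.Agent.Lib.Involution.StronglyEmbedded
import Cfsg.Agent.Lib.Involution.IndexTwo
import Cfsg.Agent.Lib.Thompson.Cores

/-!
# Involutions whose commutators all have odd order, and the first reductions for Z*
-/

set_option autoImplicit false

open Cfsg

namespace Cfsg.Agent.ZStar

universe v

/-- All commutators of `u` have odd order. -/
def OddComm {G : Type*} [Group G] (u : G) : Prop :=
  ∀ g : G, Odd (orderOf (u * g * u⁻¹ * g⁻¹))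

/-- The conclusion of the Z*-theorem for the group `G`. -/
def HasZStar (G : Type*) [Group G] : Prop :=
  ∀ u : G, orderOf u = 2 → OddComm u →
    ∃ N : Subgroup G, N.Normal ∧ Odd (Nat.card N) ∧ ∀ g : G, u * g * u⁻¹ * g⁻¹ ∈ N

variable {G : Type v} [Group G]

theorem OddComm.conj {u : G} (h : OddComm u) (c : G) : OddComm (c * u * c⁻¹) := fun g => by
  rw [show c * u * c⁻¹ * g * (c * u * c⁻¹)⁻¹ * g⁻¹ =
    c * (u * (c⁻¹ * g * c) * u⁻¹ * (c⁻¹ * g * c)⁻¹) * c⁻¹ by group, Involution.orderOf_conj]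
  exact h _

theorem OddComm.restrict {u : G} (h : OddComm u) (H : Subgroup G) (hu : u ∈ H) :
    OddComm (⟨u, hu⟩ : H) := fun g => by
  rw [← Subgroup.orderOf_coe]
  simpa using h g

theorem OddComm.mul_odd {u : G} (h : OddComm u) (hu : orderOf u = 2) (g : G) :
    Odd (orderOf (u * (g * u * g⁻¹))) := by
  have := h g
  rwa [Involution.inv_of_orderOf hu, show u * g * u * g⁻¹ = u * (g * u * g⁻¹) by group] at this

/-- A conjugate that commutes with `u` is `u`. -/
theorem OddComm.eq_of_commute {u : G} (h : OddComm u) (hu : orderOf u = 2) {v : G}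
    (hc : IsConj u v) (hcomm : Commute u v) : v = u := by
  obtain ⟨g, rfl⟩ := isConj_iff.mp hc
  have hv : g * u * g⁻¹ * (g * u * g⁻¹) = 1 := by
    rw [show g * u * g⁻¹ * (g * u * g⁻¹) = g * (u * u) * g⁻¹ by group,
      Involution.mul_self_of_orderOf hu]; group
  have h2 : (u * (g * u * g⁻¹)) ^ 2 = 1 := by
    rw [hcomm.mul_pow, pow_two, pow_two, Involution.mul_self_of_orderOf hu, hv, mul_one]
  have h1 : u * (g * u * g⁻¹) = 1 := orderOf_eq_one_iff.mp
    (Nat.eq_one_of_dvd_coprimes (Nat.coprime_two_right.mpr (h.mul_odd hu g)) dvd_rfl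
      (orderOf_dvd_of_pow_eq_one h2))
  rw [← inv_eq_of_mul_eq_one_right h1, Involution.inv_of_orderOf hu]

theorem mem_center_of_conj_eq {u : G} (h : ∀ g : G, g * u * g⁻¹ = u) : u ∈ Subgroup.center G :=
  Subgroup.mem_center_iff.mpr fun g => mul_inv_eq_iff_eq_mul.mp (h g)

variable [Finite G]

theorem card_lt_of_ne_top {H : Subgroup G} (h : H ≠ ⊤) : Nat.card H < Nat.card G :=
  lt_of_le_of_ne (Nat.le_of_dvd Nat.card_pos H.card_subgroup_dvd_card) fun e =>
    h (Subgroup.eq_top_of_card_eq H e)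

theorem card_comap_mk (Z : Subgroup G) [Z.Normal] (N' : Subgroup (G ⧸ Z)) :
    Nat.card (N'.comap (QuotientGroup.mk' Z)) = Nat.card Z * Nat.card N' :=
  QuotientGroup.card_preimage_mk Z (N' : Set (G ⧸ Z))

theorem OddComm.isolated {u : G} (h : OddComm u) (hu : orderOf u = 2) {L : Subgroup G}
    (hL : IsPGroup 2 L) (huL : u ∈ L) {x : G} (hx : x ∈ L) : x * u * x⁻¹ = u := by
  haveI : Fact (Nat.Prime 2) := ⟨Nat.prime_two⟩
  have hv : x * u * x⁻¹ ∈ L := mul_mem (mul_mem hx huL) (inv_mem hx)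
  obtain ⟨k, hk⟩ := IsPGroup.iff_orderOf.mp hL ⟨_, mul_mem huL hv⟩
  rw [Subgroup.orderOf_mk] at hk
  have h1 : u * (x * u * x⁻¹) = 1 := orderOf_eq_one_iff.mp
    (Nat.eq_one_of_dvd_coprimes (Nat.Coprime.pow_right k
      (Nat.coprime_two_right.mpr (h.mul_odd hu x))) dvd_rfl hk.dvd)
  rw [← inv_eq_of_mul_eq_one_right h1, Involution.inv_of_orderOf hu]

theorem le_bot_of_odd_of_core {H : Subgroup G} [H.Normal]
    (hO : pPrimeCore 2 G = ⊥) (hodd : Odd (Nat.card H)) : H = ⊥ :=
  le_bot_iff.mp (hO ▸ Thompson.le_pPrimeCore inferInstance (Nat.coprime_two_right.mpr hodd))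

theorem map_le_bot_of_odd {N : Subgroup G} [N.Normal] (hO : pPrimeCore 2 G = ⊥) {M : Subgroup N}
    (hM : M.Normal) (hodd : Odd (Nat.card M)) : M = ⊥ := by
  have h1 : M.map N.subtype ≤ ⊥ :=
    hO ▸ (Subgroup.map_mono (Thompson.le_pPrimeCore hM (Nat.coprime_two_right.mpr hodd))).trans
      (Thompson.map_pPrimeCore_normal_le N)
  exact le_bot_iff.mp fun x hx =>
    Subtype.ext (Subgroup.mem_bot.mp (h1 (Subgroup.mem_map_of_mem _ hx)))

/-- An isolated involution in a proper normal subgroup is central, by induction. -/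
theorem central_of_normal (hO : pPrimeCore 2 G = ⊥) {u : G} (hu : orderOf u = 2) (hiso : OddComm u)
    {N : Subgroup G} [N.Normal] (hN : HasZStar N) (huN : u ∈ N) : u ∈ Subgroup.center G := by
  obtain ⟨M, hM, hodd, hc⟩ := hN ⟨u, huN⟩ (by rw [Subgroup.orderOf_mk, hu])
    (hiso.restrict N huN)
  have hbot := map_le_bot_of_odd hO hM hodd
  refine mem_center_of_conj_eq fun g => hiso.eq_of_commute hu (isConj_iff.mpr ⟨g, rfl⟩) ?_
  have hgN : g * u * g⁻¹ ∈ N := Subgroup.Normal.conj_mem inferInstance u huN g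
  have h1 := hc ⟨_, hgN⟩
  rw [hbot, Subgroup.mem_bot, mul_inv_eq_one, mul_inv_eq_iff_eq_mul] at h1
  exact congrArg Subtype.val h1

/-- An isolated involution is central if some other involution is central, by induction. -/
theorem central_of_central (hO : pPrimeCore 2 G = ⊥) {u z : G} (hu : orderOf u = 2)
    (hiso : OddComm u) (hz : orderOf z = 2) (hzc : z ∈ Subgroup.center G) (hne : z ≠ u)
    (IH : ∀ (H : Type v) [Group H] [Finite H], Nat.card H < Nat.card G → HasZStar H) :
    u ∈ Subgroup.center G := by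
  haveI : Fact (Nat.Prime 2) := ⟨Nat.prime_two⟩
  haveI : (Subgroup.zpowers z).Normal := ⟨fun x hx g => by
    obtain ⟨i, rfl⟩ := Subgroup.mem_zpowers_iff.mp hx
    rw [← conj_zpow, Subgroup.mem_center_iff.mp hzc g, mul_inv_cancel_right]
    exact Subgroup.zpow_mem_zpowers z i⟩
  set Z := Subgroup.zpowers z with hZ
  have hcardZ : Nat.card Z = 2 := by rw [hZ, Nat.card_zpowers, hz]
  have hlt : Nat.card (G ⧸ Z) < Nat.card G := by
    rw [Subgroup.card_eq_card_quotient_mul_card_subgroup Z, hcardZ]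
    have : 0 < Nat.card (G ⧸ Z) := Nat.card_pos
    omega
  have hmem : ∀ x ∈ Z, x = 1 ∨ x = z := by
    intro x hx
    obtain ⟨i, rfl⟩ := Subgroup.mem_zpowers_iff.mp hx
    rcases Int.even_or_odd i with ⟨j, rfl⟩ | ⟨j, rfl⟩
    · exact Or.inl (by
        rw [← two_mul, zpow_mul, zpow_two, Involution.mul_self_of_orderOf hz, one_zpow])
    · exact Or.inr (by
        rw [zpow_add, zpow_mul, zpow_two, Involution.mul_self_of_orderOf hz, one_zpow, one_mul,
          zpow_one])
  have hu' : orderOf (QuotientGroup.mk' Z u) = 2 := by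
    refine Involution.orderOf_eq_two_iff'.mpr ⟨by
      rw [← map_mul, Involution.mul_self_of_orderOf hu, map_one], fun h => ?_⟩
    rw [QuotientGroup.mk'_apply, QuotientGroup.eq_one_iff] at h
    rcases hmem u h with h | h
    · exact Involution.ne_one_of_orderOf hu h
    · exact hne h.symm
  obtain ⟨N', hN', hodd, hc⟩ := IH (G ⧸ Z) hlt (QuotientGroup.mk' Z u) hu' fun q => by
    obtain ⟨g, rfl⟩ := QuotientGroup.mk'_surjective Z q
    rw [← map_inv, ← map_inv, ← map_mul, ← map_mul, ← map_mul]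
    exact (hiso g).of_dvd_nat (orderOf_map_dvd _ _)
  haveI := hN'
  set N := N'.comap (QuotientGroup.mk' Z) with hNdef
  have hcard : Nat.card N = Nat.card N' * 2 := by
    rw [← hcardZ, mul_comm]
    exact card_comap_mk Z N'
  -- `N` has a normal subgroup of index two, which is then trivial
  have heven : Even (Nat.card N) := ⟨Nat.card N', by rw [hcard, mul_two]⟩
  obtain ⟨T⟩ : Nonempty (Sylow 2 N) := inferInstance
  have hT : Nat.card (T : Subgroup N) = 2 := by
    obtain ⟨k, hk⟩ := IsPGroup.iff_card.mp T.isPGroup'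
    have h1 : 2 ∣ Nat.card (T : Subgroup N) := T.dvd_card_of_dvd_card (even_iff_two_dvd.mp heven)
    have h2 : Nat.card (T : Subgroup N) ∣ 2 := by
      have h3 : Nat.card (T : Subgroup N) ∣ Nat.card N := Subgroup.card_subgroup_dvd_card _
      rw [hcard, hk] at h3
      rw [hk]
      exact (Nat.Coprime.pow_left k (Nat.coprime_two_left.mpr hodd)).dvd_of_dvd_mul_left h3
    exact Nat.dvd_antisymm h2 h1
  obtain ⟨H, hH⟩ := Involution.exists_index_two_of_cyclic_sylow heven T (isCyclic_of_prime_card hT)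
  have hHodd : Odd (Nat.card H) := by
    have h1 := H.card_mul_index
    rw [hH, hcard] at h1
    rwa [Nat.eq_of_mul_eq_mul_right two_pos h1]
  have hbot : H = ⊥ := map_le_bot_of_odd hO (Subgroup.normal_of_index_eq_two hH) hHodd
  have hN2 : Nat.card N = 2 := by
    rw [← H.card_mul_index, hH, hbot, Subgroup.card_bot]
  refine mem_center_of_conj_eq fun g => ?_
  have hcN : u * g * u⁻¹ * g⁻¹ ∈ N := by
    rw [hNdef, Subgroup.mem_comap, map_mul, map_mul, map_mul, map_inv, map_inv]
    exact hc _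
  have h1 : u * g * u⁻¹ * g⁻¹ = 1 := orderOf_eq_one_iff.mp
    (Nat.eq_one_of_dvd_coprimes (Nat.coprime_two_right.mpr (hiso g)) dvd_rfl
      (hN2 ▸ Subgroup.orderOf_dvd_natCard N hcN))
  rw [mul_inv_eq_one, mul_inv_eq_iff_eq_mul] at h1
  rw [mul_inv_eq_iff_eq_mul, h1]

/-- The quotient step: it is enough to treat groups with trivial core. -/
theorem hasZStar_of_core (h : pPrimeCore 2 G = ⊥ → ∀ u : G, orderOf u = 2 → OddComm u →
      u ∈ Subgroup.center G)
    (IH : ∀ (H : Type v) [Group H] [Finite H], Nat.card H < Nat.card G → HasZStar H) :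
    HasZStar G := by
  haveI : Fact (Nat.Prime 2) := ⟨Nat.prime_two⟩
  intro u hu hiso
  set O := pPrimeCore 2 G with hOdef
  by_cases hO : O = ⊥
  · refine ⟨⊥, inferInstance, by simp, fun g => ?_⟩
    have hc := Subgroup.mem_center_iff.mp (h hO u hu hiso) g
    rw [Subgroup.mem_bot, mul_inv_eq_one, mul_inv_eq_iff_eq_mul, hc]
  haveI : O.Normal := Thompson.instPPrimeCoreNormal
  have hOodd : Odd (Nat.card O) :=
    Nat.coprime_two_right.mp Thompson.card_pPrimeCore_coprime
  have hlt : Nat.card (G ⧸ O) < Nat.card G := by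
    rw [Subgroup.card_eq_card_quotient_mul_card_subgroup O]
    exact lt_mul_of_one_lt_right Nat.card_pos ((Subgroup.one_lt_card_iff_ne_bot O).mpr hO)
  have hu' : orderOf (QuotientGroup.mk' O u) = 2 := by
    refine Involution.orderOf_eq_two_iff'.mpr ⟨by
      rw [← map_mul, Involution.mul_self_of_orderOf hu, map_one], fun h1 => ?_⟩
    rw [QuotientGroup.mk'_apply, QuotientGroup.eq_one_iff] at h1
    have h2 := hu ▸ Subgroup.orderOf_dvd_natCard O h1
    exact Nat.not_even_iff_odd.mpr hOodd (even_iff_two_dvd.mpr h2)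
  obtain ⟨N', hN', hodd, hc⟩ := IH (G ⧸ O) hlt (QuotientGroup.mk' O u) hu' fun q => by
    obtain ⟨g, rfl⟩ := QuotientGroup.mk'_surjective O q
    rw [← map_inv, ← map_inv, ← map_mul, ← map_mul, ← map_mul]
    exact (hiso g).of_dvd_nat (orderOf_map_dvd _ _)
  haveI := hN'
  refine ⟨N'.comap (QuotientGroup.mk' O), inferInstance, ?_, fun g => ?_⟩
  · rw [card_comap_mk O N']
    exact hOodd.mul hodd
  · rw [Subgroup.mem_comap, map_mul, map_mul, map_mul, map_inv, map_inv]
    exact hc _

end Cfsg.Agent.ZStar
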