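import Cfsg.Agent.Lib.BlocksCore.Local
import Mathlib.LinearAlgebra.Trace
import Mathlib.LinearAlgebra.Matrix.ToLin
import Mathlib.LinearAlgebra.Matrix.Determinant.Basic
import Mathlib.LinearAlgebra.FiniteDimensional.Basic

/-!
# A trace lemma replacing Green's vanishing theorem

If an idempotent matrix over the local ring commuting with `U` is, up to the maximal ideal, a
relative trace from the subgroup `⟨U^p⟩`, then `U` has equal eigenvalue multiplicities on the image
along each fibre of `ν ↦ ν^p`, so the trace of `U` on the image is zero.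
-/

set_option autoImplicit false

open Cfsg

namespace Cfsg.Agent.ZStar

variable {p : ℕ} {M : Ideal AlgInt} {ι : Type*} [Fintype ι] [DecidableEq ι]

/-- All entries of a matrix are local integers. -/
def IntMat (M : Ideal AlgInt) (A : Matrix ι ι ℂ) : Prop := ∀ i j, MemLocalRing M (A i j)

/-- All entries of a matrix lie in the local ideal. -/
def SmallMat (M : Ideal AlgInt) (A : Matrix ι ι ℂ) : Prop := ∀ i j, MemLocalIdeal M (A i j)

section

variable [hP : M.IsPrime]

theorem IntMat.mul {A B : Matrix ι ι ℂ} (hA : IntMat M A) (hB : IntMat M B) : IntMat M (A * B) :=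
  fun i j => BlocksCore.memLocalRing_sum fun k _ =>
    (BlocksCore.localRing M).mul_mem (hA i k) (hB k j)

theorem IntMat.one : IntMat M (1 : Matrix ι ι ℂ) := by
  intro i j
  rw [Matrix.one_apply]
  split
  · exact (BlocksCore.localRing M).one_mem
  · exact (BlocksCore.localRing M).zero_mem

theorem IntMat.pow {A : Matrix ι ι ℂ} (hA : IntMat M A) (k : ℕ) : IntMat M (A ^ k) := by
  induction k with
  | zero => rw [pow_zero]; exact IntMat.one
  | succ k ih => rw [pow_succ]; exact ih.mul hA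

theorem SmallMat.mul_right {A B : Matrix ι ι ℂ} (hA : SmallMat M A) (hB : IntMat M B) :
    SmallMat M (A * B) :=
  fun i j => BlocksCore.memLocalIdeal_sum fun k _ =>
    BlocksCore.memLocalIdeal_mul_right (hA i k) (hB k j)

theorem SmallMat.mul_left {A B : Matrix ι ι ℂ} (hA : IntMat M A) (hB : SmallMat M B) :
    SmallMat M (A * B) :=
  fun i j => BlocksCore.memLocalIdeal_sum fun k _ =>
    BlocksCore.memLocalIdeal_mul_left (hA i k) (hB k j)

theorem SmallMat.add {A B : Matrix ι ι ℂ} (hA : SmallMat M A) (hB : SmallMat M B) :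
    SmallMat M (A + B) := fun i j => BlocksCore.memLocalIdeal_add (hA i j) (hB i j)

theorem SmallMat.sum {κ : Type*} {s : Finset κ} {A : κ → Matrix ι ι ℂ}
    (h : ∀ k ∈ s, SmallMat M (A k)) : SmallMat M (∑ k ∈ s, A k) := by
  intro i j
  rw [Matrix.sum_apply]
  exact BlocksCore.memLocalIdeal_sum fun k hk => h k hk i j

/-- A matrix with entries in the local ideal fixes no nonzero vector. -/
theorem eq_zero_of_small_mulVec {D : Matrix ι ι ℂ} (hD : SmallMat M D) {v : ι → ℂ}
    (hv : D.mulVec v = v) : v = 0 := by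
  let σ := (BlocksCore.localRing M).subtype.mapMatrix (m := ι)
  let π := (Ideal.Quotient.mk (BlocksCore.localIdeal M)).mapMatrix (m := ι)
  let D' : Matrix ι ι (BlocksCore.localRing M) := Matrix.of fun i j =>
    ⟨D i j, BlocksCore.memLocalRing_of_memLocalIdeal (hD i j)⟩
  have hσ : σ D' = D := rfl
  have hπ : π D' = 0 := Matrix.ext fun i j => Ideal.Quotient.eq_zero_iff_mem.mpr (hD i j)
  by_contra hne
  have h0 : (1 - D).det = 0 := Matrix.exists_mulVec_eq_zero_iff.mp
    ⟨v, hne, by rw [Matrix.sub_mulVec, Matrix.one_mulVec, hv, sub_self]⟩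
  rw [← hσ, ← map_one σ, ← map_sub, ← RingHom.map_det] at h0
  have h1 : (1 - D').det = 0 := Subtype.ext h0
  have h2 : π (1 - D') = 1 := by rw [map_sub, map_one, hπ, sub_zero]
  have h3 := congrArg Matrix.det h2
  rw [← RingHom.map_det, h1, map_zero, Matrix.det_one] at h3
  exact zero_ne_one h3

/-- The eigenvalue multiplicities of `U` on the image of `I` (cut down by a commuting idempotent
`J`) are constant along the fibres of `ν ↦ ν ^ p`. -/
theorem finrank_eigen_le (hM : IsPModular p M) {k : ℕ} {U I J A R : Matrix ι ι ℂ}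
    (hU : U ^ p ^ (k + 1) = 1) (hUint : IntMat M U) (hI : IntMat M I) (hAint : IntMat M A)
    (hR : SmallMat M R) (hII : I * I = I) (hUI : Commute U I)
    (hAUp : Commute A (U ^ p)) (hRU : Commute R U)
    (hJU : Commute J U) (hJI : Commute J I) (hJA : Commute J A)
    (hdec : I = (∑ i ∈ Finset.range p, U ^ i * A * U ^ (p ^ (k + 1) - i)) + R)
    {ν μ : ℂ} (hν : ν ^ p ^ (k + 1) = 1) (hμ : μ ^ p ^ (k + 1) = 1) (hνμ : ν ^ p = μ ^ p) :
    Module.finrank ℂ (LinearMap.ker (Matrix.toLin' (U - ν • 1)) ⊓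
        LinearMap.ker (Matrix.toLin' (I - 1)) ⊓ LinearMap.ker (Matrix.toLin' (J - 1)) :
          Submodule ℂ (ι → ℂ)) ≤
      Module.finrank ℂ (LinearMap.ker (Matrix.toLin' (U - μ • 1)) ⊓
        LinearMap.ker (Matrix.toLin' (I - 1)) ⊓ LinearMap.ker (Matrix.toLin' (J - 1)) :
          Submodule ℂ (ι → ℂ)) := by
  classical
  set q := p ^ (k + 1) with hq
  have hp : p.Prime := hM.1
  have hμ0 : μ ≠ 0 := fun h => by
    rw [h, zero_pow (pow_ne_zero _ hp.ne_zero)] at hμ; exact zero_ne_one hμ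
  have hν0 : ν ≠ 0 := fun h => by
    rw [h, zero_pow (pow_ne_zero _ hp.ne_zero)] at hν; exact zero_ne_one hν
  have hpq : p ≤ q := Nat.le_self_pow (Nat.succ_ne_zero k) p
  -- replace `A`, `R` by their corners
  set A' := I * A * I with hA'
  set R' := I * R * I with hR'
  have hIA : I * A' = A' := by rw [hA', ← mul_assoc, ← mul_assoc, hII]
  have hdec' : I = (∑ i ∈ Finset.range p, U ^ i * A' * U ^ (q - i)) + R' := by
    calc I = I * I * I := by rw [hII, hII]
      _ = I * ((∑ i ∈ Finset.range p, U ^ i * A * U ^ (q - i)) + R) * I := by rw [← hdec]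
      _ = _ := by
        rw [mul_add, add_mul, Finset.mul_sum, Finset.sum_mul, hR']
        congr 1
        refine Finset.sum_congr rfl fun i _ => ?_
        rw [hA']
        calc I * (U ^ i * A * U ^ (q - i)) * I = (I * U ^ i) * A * (U ^ (q - i) * I) := by
              simp only [mul_assoc]
          _ = (U ^ i * I) * A * (I * U ^ (q - i)) := by
              rw [(hUI.pow_left i).eq, (hUI.pow_left (q - i)).eq]
          _ = U ^ i * (I * A * I) * U ^ (q - i) := by simp only [mul_assoc]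
  have hA'Up : Commute A' (U ^ p) :=
    (((hUI.pow_left p).symm.mul_left hAUp).mul_left (hUI.pow_left p).symm)
  have hJA' : Commute J A' := (hJI.mul_right hJA).mul_right hJI
  let Q : ℂ → Matrix ι ι ℂ := fun z => ∑ l ∈ Finset.range p, (z ^ l)⁻¹ • U ^ l
  -- the difference of the two projectors is small
  have hD : SmallMat M ((Q ν - Q μ) * A' + R') := by
    refine SmallMat.add (SmallMat.mul_right ?_ ((hI.mul hAint).mul hI))
      (SmallMat.mul_right (SmallMat.mul_left hI hR) hI)
    show SmallMat M (Q ν - Q μ)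
    rw [← Finset.sum_sub_distrib]
    refine SmallMat.sum fun l _ => ?_
    intro i j
    rw [← sub_smul, Matrix.smul_apply, smul_eq_mul]
    refine BlocksCore.memLocalIdeal_mul_right ?_ (hUint.pow l i j)
    have h1 : ∀ z : ℂ, z ^ q = 1 → MemLocalIdeal M ((z ^ l)⁻¹ - 1) := fun z hz =>
      BlocksCore.memLocalIdeal_sub_one_of_pow hM (k := k + 1)
        (by rw [← hq, inv_pow, ← pow_mul, mul_comm, pow_mul, hz, one_pow, inv_one])
    have := BlocksCore.memLocalIdeal_sub (h1 ν hν) (h1 μ hμ)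
    simpa using this
  have heig : ∀ {z : ℂ} {v : ι → ℂ}, U.mulVec v = z • v → ∀ l : ℕ,
      (U ^ l).mulVec v = z ^ l • v := by
    intro z v h l
    induction l with
    | zero => simp
    | succ l ih => rw [pow_succ, ← Matrix.mulVec_mulVec, h, Matrix.mulVec_smul, ih, smul_smul,
        pow_succ']
  have hmem : ∀ {z : ℂ} {v : ι → ℂ}, v ∈ (LinearMap.ker (Matrix.toLin' (U - z • 1)) ⊓
      LinearMap.ker (Matrix.toLin' (I - 1)) ⊓ LinearMap.ker (Matrix.toLin' (J - 1)) :
        Submodule ℂ (ι → ℂ)) ↔ U.mulVec v = z • v ∧ I.mulVec v = v ∧ J.mulVec v = v := by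
    intro z v
    simp [Submodule.mem_inf, Matrix.sub_mulVec, Matrix.smul_mulVec, sub_eq_zero, and_assoc]
  let f : (ι → ℂ) →ₗ[ℂ] (ι → ℂ) := Matrix.toLin' (Q μ * A')
  have hQI : Commute (Q μ) I := Commute.sum_left _ _ _ fun l _ => (hUI.pow_left l).smul_left _
  have hQJ : Commute (Q μ) J :=
    Commute.sum_left _ _ _ fun l _ => ((hJU.symm).pow_left l).smul_left _
  refine LinearMap.finrank_le_finrank_of_injective
    (f := f.restrict (p := _) (q := _) (fun v hv => ?_)) ?_
  · obtain ⟨hv1, hv2, hv3⟩ := hmem.mp hv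
    rw [hmem]
    show U.mulVec (Matrix.toLin' (Q μ * A') v) = μ • Matrix.toLin' (Q μ * A') v ∧
      I.mulVec (Matrix.toLin' (Q μ * A') v) = Matrix.toLin' (Q μ * A') v ∧
      J.mulVec (Matrix.toLin' (Q μ * A') v) = Matrix.toLin' (Q μ * A') v
    rw [Matrix.toLin'_apply]
    refine ⟨?_, ?_, ?_⟩
    · rw [Matrix.mulVec_mulVec, ← mul_assoc, ← Matrix.mulVec_mulVec, ← Matrix.mulVec_mulVec (M := Q μ)]
      set w := A'.mulVec v with hw
      have hwp : (U ^ p).mulVec w = μ ^ p • w := by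
        rw [hw, Matrix.mulVec_mulVec, ← hA'Up.eq, ← Matrix.mulVec_mulVec, heig hv1 p,
          Matrix.mulVec_smul, hνμ]
      simp only [Q, Finset.mul_sum, Matrix.sum_mulVec, Matrix.smul_mulVec, Matrix.mul_smul,
        ← pow_succ', Finset.smul_sum, smul_smul]
      let g : ℕ → (ι → ℂ) := fun l => ((μ ^ l)⁻¹ * μ) • (U ^ l).mulVec w
      have e : ∀ l, (μ ^ l)⁻¹ • (U ^ (l + 1)).mulVec w = g (l + 1) := by
        intro l
        show _ = ((μ ^ (l + 1))⁻¹ * μ) • _
        rw [pow_succ μ, mul_inv, mul_assoc, inv_mul_cancel₀ hμ0, mul_one]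
      rw [Finset.sum_congr rfl fun l _ => e l]
      have h2 : ∑ l ∈ Finset.range p, g (l + 1) + g 0 = ∑ l ∈ Finset.range p, g l + g p := by
        rw [← Finset.sum_range_succ', Finset.sum_range_succ]
      have hg : g p = g 0 := by
        show ((μ ^ p)⁻¹ * μ) • (U ^ p).mulVec w = ((μ ^ 0)⁻¹ * μ) • (U ^ 0).mulVec w
        rw [hwp, smul_smul, pow_zero, pow_zero, inv_one, one_mul, Matrix.one_mulVec]
        congr 1
        field_simp
      rw [hg, add_left_inj] at h2
      rw [h2]
      exact Finset.sum_congr rfl fun l _ => by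
        show ((μ ^ l)⁻¹ * μ) • _ = _
        rw [mul_comm]
    · rw [Matrix.mulVec_mulVec, ← mul_assoc, ← hQI.eq, mul_assoc, hIA]
    · rw [Matrix.mulVec_mulVec, ← mul_assoc, ← hQJ.eq, mul_assoc, hJA'.eq, ← mul_assoc,
        ← Matrix.mulVec_mulVec, hv3]
  · -- injectivity
    rw [← LinearMap.ker_eq_bot, LinearMap.ker_eq_bot']
    rintro ⟨v, hv⟩ h0
    obtain ⟨hv1, hv2, hv3⟩ := hmem.mp hv
    have h0' : (Q μ * A').mulVec v = 0 := by
      have := congrArg Subtype.val h0
      simpa [f, Matrix.toLin'_apply] using this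
    have h1 : (Q ν * A').mulVec v = v - R'.mulVec v := by
      have hrew : (∑ i ∈ Finset.range p, U ^ i * A' * U ^ (q - i)).mulVec v = (Q ν * A').mulVec v := by
        simp only [Q, Finset.sum_mul, Matrix.sum_mulVec, Matrix.smul_mul, Matrix.smul_mulVec]
        refine Finset.sum_congr rfl fun i hi => ?_
        rw [← Matrix.mulVec_mulVec v (U ^ i * A'), heig hv1, Matrix.mulVec_smul]
        congr 1
        rw [← mul_one (ν ^ (q - i)), ← mul_inv_cancel₀ (pow_ne_zero i hν0), ← mul_assoc, ← pow_add,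
          Nat.sub_add_cancel ((Finset.mem_range.mp hi).le.trans hpq), hν, one_mul]
      rw [← hrew, eq_sub_iff_add_eq, ← Matrix.add_mulVec, ← hdec', hv2]
    have := eq_zero_of_small_mulVec hD (v := v) (by
      rw [Matrix.add_mulVec, sub_mul, Matrix.sub_mulVec, h1, h0', sub_zero, sub_add_cancel])
    exact Subtype.ext this

/-- **Trace lemma.** -/
theorem trace_eq_zero (hM : IsPModular p M) {k : ℕ} {U I J A R : Matrix ι ι ℂ}
    (hU : U ^ p ^ (k + 1) = 1) (hUint : IntMat M U) (hI : IntMat M I) (hAint : IntMat M A)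
    (hR : SmallMat M R) (hII : I * I = I) (hJJ : J * J = J) (hUI : Commute U I)
    (hAUp : Commute A (U ^ p)) (hRU : Commute R U)
    (hJU : Commute J U) (hJI : Commute J I) (hJA : Commute J A)
    (hdec : I = (∑ i ∈ Finset.range p, U ^ i * A * U ^ (p ^ (k + 1) - i)) + R) :
    (U * I * J).trace = 0 := by
  classical
  set q := p ^ (k + 1) with hq
  have hp : p.Prime := hM.1
  have hq0 : q ≠ 0 := pow_ne_zero _ hp.ne_zero
  obtain ⟨ζ, hζ⟩ : ∃ ζ : ℂ, IsPrimitiveRoot ζ q := ⟨_, Complex.isPrimitiveRoot_exp q hq0⟩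
  have hζ0 : ζ ≠ 0 := hζ.ne_zero hq0
  -- the eigenprojections
  let P : ℕ → Matrix ι ι ℂ := fun j =>
    ((q : ℂ)⁻¹ • ∑ l ∈ Finset.range q, ((ζ ^ j) ^ l)⁻¹ • U ^ l) * (I * J)
  let V : ℕ → Submodule ℂ (ι → ℂ) := fun j => LinearMap.ker (Matrix.toLin' (U - ζ ^ j • 1)) ⊓
      LinearMap.ker (Matrix.toLin' (I - 1)) ⊓ LinearMap.ker (Matrix.toLin' (J - 1))
  have hzq : ∀ j, (ζ ^ j) ^ q = 1 := fun j => by
    rw [← pow_mul, mul_comm, pow_mul, hζ.pow_eq_one, one_pow]
  have hUS : ∀ j, U * (∑ l ∈ Finset.range q, ((ζ ^ j) ^ l)⁻¹ • U ^ l) =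
      ζ ^ j • ∑ l ∈ Finset.range q, ((ζ ^ j) ^ l)⁻¹ • U ^ l := by
    intro j
    set z := ζ ^ j
    have hz0 : z ≠ 0 := pow_ne_zero _ hζ0
    let g : ℕ → Matrix ι ι ℂ := fun l => ((z ^ l)⁻¹ * z) • U ^ l
    have e : ∀ l, U * ((z ^ l)⁻¹ • U ^ l) = g (l + 1) := by
      intro l
      show _ = ((z ^ (l + 1))⁻¹ * z) • _
      rw [pow_succ z, mul_inv, mul_assoc, inv_mul_cancel₀ hz0, mul_one, Matrix.mul_smul, pow_succ']
    rw [Finset.mul_sum, Finset.sum_congr rfl fun l _ => e l]
    have h2 : ∑ l ∈ Finset.range q, g (l + 1) + g 0 = ∑ l ∈ Finset.range q, g l + g q := by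
      rw [← Finset.sum_range_succ', Finset.sum_range_succ]
    have hg : g q = g 0 := by
      show ((z ^ q)⁻¹ * z) • U ^ q = ((z ^ 0)⁻¹ * z) • U ^ 0
      rw [hzq j, pow_zero, hU, pow_zero]
    rw [hg, add_left_inj] at h2
    rw [h2, Finset.smul_sum]
    exact Finset.sum_congr rfl fun l _ => by
      show ((z ^ l)⁻¹ * z) • _ = _
      rw [smul_smul, mul_comm]
  have hproj : ∀ j, LinearMap.IsProj (V j) (Matrix.toLin' (P j)) := by
    intro j
    set z := ζ ^ j
    refine ⟨fun v => ?_, fun v hv => ?_⟩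
    · simp only [V, Submodule.mem_inf, LinearMap.mem_ker, Matrix.toLin'_apply, Matrix.mulVec_mulVec]
      have hSI : Commute (∑ l ∈ Finset.range q, (z ^ l)⁻¹ • U ^ l) I :=
        Commute.sum_left _ _ _ fun l _ => (hUI.pow_left l).smul_left _
      have hSJ : Commute (∑ l ∈ Finset.range q, (z ^ l)⁻¹ • U ^ l) J :=
        Commute.sum_left _ _ _ fun l _ => (hJU.symm.pow_left l).smul_left _
      refine ⟨⟨?_, ?_⟩, ?_⟩ <;> simp only [P, ← mul_assoc, sub_mul, Matrix.mul_smul, one_mul,
        Matrix.smul_mul]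
      · rw [hUS j, Matrix.smul_mul, Matrix.smul_mul, smul_comm, sub_self, Matrix.zero_mulVec]
      · rw [← hSI.eq, mul_assoc _ I I, hII, sub_self, Matrix.zero_mulVec]
      · rw [← hSJ.eq, mul_assoc _ J I, hJI.eq, ← mul_assoc, mul_assoc _ J J, hJJ, sub_self,
          Matrix.zero_mulVec]
    · simp only [V, Submodule.mem_inf, LinearMap.mem_ker, Matrix.toLin'_apply, Matrix.sub_mulVec,
        Matrix.smul_mulVec, Matrix.one_mulVec, sub_eq_zero] at hv
      obtain ⟨⟨hv1, hv2⟩, hv3⟩ := hv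
      rw [Matrix.toLin'_apply]
      show (((q : ℂ)⁻¹ • ∑ l ∈ Finset.range q, (z ^ l)⁻¹ • U ^ l) * (I * J)).mulVec v = v
      rw [← Matrix.mulVec_mulVec, ← Matrix.mulVec_mulVec, hv3, hv2, Matrix.smul_mulVec,
        Matrix.sum_mulVec]
      have hUl : ∀ l : ℕ, (U ^ l).mulVec v = z ^ l • v := by
        intro l
        induction l with
        | zero => simp
        | succ l ih => rw [pow_succ, ← Matrix.mulVec_mulVec, hv1, Matrix.mulVec_smul, ih, smul_smul,
            pow_succ']
      have hterm : ∀ l ∈ Finset.range q, ((z ^ l)⁻¹ • U ^ l).mulVec v = v := fun l _ => by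
        rw [Matrix.smul_mulVec, hUl, smul_smul,
          inv_mul_cancel₀ (pow_ne_zero _ (pow_ne_zero _ hζ0)), one_smul]
      rw [Finset.sum_congr rfl hterm, Finset.sum_const, Finset.card_range,
        ← Nat.cast_smul_eq_nsmul ℂ, smul_smul, inv_mul_cancel₀ (Nat.cast_ne_zero.mpr hq0), one_smul]
  have htr : ∀ j, (P j).trace = (Module.finrank ℂ (V j) : ℂ) := fun j => by
    rw [← Matrix.trace_toLin'_eq, (hproj j).trace]
  -- `U I J` is the combination of the projections
  have hsum : U * I * J = ∑ j ∈ Finset.range q, ζ ^ j • P j := by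
    simp only [P, ← Matrix.smul_mul, Finset.smul_sum, smul_smul]
    rw [← Finset.sum_mul, mul_assoc]
    congr 1
    rw [Finset.sum_comm]
    simp only [← Finset.sum_smul]
    have h1lt : 1 < q := Nat.one_lt_pow (Nat.succ_ne_zero k) hp.one_lt
    rw [Finset.sum_eq_single 1]
    · have : ∀ j ∈ Finset.range q, ζ ^ j * ((q : ℂ)⁻¹ * ((ζ ^ j) ^ 1)⁻¹) = (q : ℂ)⁻¹ := fun j _ => by
        rw [pow_one, mul_comm, mul_assoc, inv_mul_cancel₀ (pow_ne_zero _ hζ0), mul_one]
      rw [Finset.sum_congr rfl this, Finset.sum_const, Finset.card_range, nsmul_eq_mul,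
        mul_inv_cancel₀ (Nat.cast_ne_zero.mpr hq0), one_smul, pow_one]
    · intro l hl hl1
      have hgeo : ∑ j ∈ Finset.range q, ζ ^ j * ((q : ℂ)⁻¹ * ((ζ ^ j) ^ l)⁻¹) = 0 := by
        have e : ∀ j ∈ Finset.range q,
            ζ ^ j * ((q : ℂ)⁻¹ * ((ζ ^ j) ^ l)⁻¹) = (q : ℂ)⁻¹ * (ζ * (ζ ^ l)⁻¹) ^ j := fun j _ => by
          rw [mul_pow, inv_pow, ← pow_mul, ← pow_mul, mul_comm j l]; ring
        rw [Finset.sum_congr rfl e, ← Finset.mul_sum]
        have hne : ζ * (ζ ^ l)⁻¹ ≠ 1 := fun h => hl1 (hζ.pow_inj h1lt (Finset.mem_range.mp hl)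
          (by rw [pow_one]; exact (mul_inv_eq_one₀ (pow_ne_zero _ hζ0)).mp h)).symm
        rw [geom_sum_eq hne, mul_pow, inv_pow, ← pow_mul, mul_comm l q, pow_mul, hζ.pow_eq_one,
          one_pow, inv_one, mul_one, sub_self, zero_div, mul_zero]
      rw [hgeo, zero_smul]
    · intro h
      exact absurd (Finset.mem_range.mpr h1lt) h
  rw [hsum, Matrix.trace_sum]
  simp only [Matrix.trace_smul, htr, smul_eq_mul]
  -- the multiplicities are periodic with period `q / p`
  set r := p ^ k with hr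
  have hrq : r * p = q := by rw [hr, hq, pow_succ]
  have hper : ∀ j, Module.finrank ℂ (V (j + r)) = Module.finrank ℂ (V j) := by
    intro j
    have hnp : (ζ ^ (j + r)) ^ p = (ζ ^ j) ^ p := by
      rw [pow_add, mul_pow, ← pow_mul ζ r p, hrq, hζ.pow_eq_one, mul_one]
    exact le_antisymm
      (finrank_eigen_le hM hU hUint hI hAint hR hII hUI hAUp hRU hJU hJI hJA hdec (hzq _) (hzq _) hnp)
      (finrank_eigen_le hM hU hUint hI hAint hR hII hUI hAUp hRU hJU hJI hJA hdec (hzq _) (hzq _)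
        hnp.symm)
  set F : ℕ → ℂ := fun j => ζ ^ j * (Module.finrank ℂ (V j) : ℂ) with hF
  have hFr : ∀ j, F (j + r) = ζ ^ r * F j := fun j => by
    simp only [hF, hper, pow_add]; ring
  have hζr : ζ ^ r ≠ 1 := hζ.pow_ne_one_of_pos_of_lt (pow_ne_zero _ hp.ne_zero)
    (by rw [← hrq]; exact lt_mul_of_one_lt_right (pow_pos hp.pos _) hp.one_lt)
  have hFq : ∀ j, F (q + j) = F j := by
    intro j
    have hm : ∀ m : ℕ, F (j + r * m) = ζ ^ (r * m) * F j := by
      intro m
      induction m with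
      | zero => simp
      | succ m ih => rw [Nat.mul_succ, ← add_assoc, hFr, ih, pow_add]; ring
    rw [add_comm, ← hrq, hm p, hrq, hζ.pow_eq_one, one_mul]
  have hS : ∑ j ∈ Finset.range q, F j = ζ ^ r * ∑ j ∈ Finset.range q, F j := by
    rw [Finset.mul_sum, ← Finset.sum_congr rfl fun j _ => hFr j]
    -- shifting a periodic sum
    have key : ∀ s : ℕ, ∑ j ∈ Finset.range q, F (j + s) = ∑ j ∈ Finset.range q, F j := by
      intro s
      induction s with
      | zero => rfl
      | succ s ih =>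
        rw [← ih]
        have h2 : ∑ j ∈ Finset.range q, F (j + 1 + s) + F (0 + s) =
            ∑ j ∈ Finset.range q, F (j + s) + F (q + s) := by
          rw [← Finset.sum_range_succ' (fun j => F (j + s)),
            Finset.sum_range_succ (fun j => F (j + s))]
        rw [zero_add, hFq s, add_left_inj] at h2
        rw [← h2]
        exact Finset.sum_congr rfl fun j _ => by rw [show j + (s + 1) = j + 1 + s by ring]
    exact (key r).symm
  have h0 : (1 - ζ ^ r) * ∑ j ∈ Finset.range q, F j = 0 := by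
    rw [sub_mul, one_mul, ← hS, sub_self]
  exact (mul_eq_zero.mp h0).resolve_left (sub_ne_zero.mpr hζr.symm)

end

end Cfsg.Agent.ZStar
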